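import Cfsg.Agent.Lib.AschbacherForm.Kron

/-!
Slot calculus for tensor powers of an alternating form: rank-one maps, sandwiches in one slot, adjoints.
-/

set_option autoImplicit false
set_option linter.unusedSectionVars false

namespace CfsgLib.TensorWreath

open CfsgLib.Aschbacher CfsgLib.AschbacherForm
open scoped Matrix MatrixGroups

variable {F : Type*} [Field F]

section adj

variable {n : Type*} [Fintype n] [DecidableEq n] (J : GL n F)

/-- The adjoint for a Gram matrix. -/
def adjJ (X : Matrix n n F) : Matrix n n F := (↑J⁻¹ : Matrix n n F) * Xᵀ * (J : Matrix n n F)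

theorem adjJ_eq {X Y : Matrix n n F} (h : Xᵀ * (J : Matrix n n F) = (J : Matrix n n F) * Y) : adjJ J X = Y := by
  rw [adjJ, mul_assoc, h, ← mul_assoc, Units.inv_mul, one_mul]

theorem adjJ_gram (X : Matrix n n F) : Xᵀ * (J : Matrix n n F) = (J : Matrix n n F) * adjJ J X := by
  rw [adjJ, mul_assoc, ← mul_assoc, Units.mul_inv, one_mul]

theorem adjJ_add (X Y : Matrix n n F) : adjJ J (X + Y) = adjJ J X + adjJ J Y := by
  rw [adjJ, adjJ, adjJ, Matrix.transpose_add, mul_add, add_mul]

theorem adjJ_smul (c : F) (X : Matrix n n F) : adjJ J (c • X) = c • adjJ J X := by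
  rw [adjJ, adjJ, Matrix.transpose_smul, Matrix.mul_smul, Matrix.smul_mul]

theorem adjJ_neg (X : Matrix n n F) : adjJ J (-X) = -adjJ J X := by
  rw [← neg_one_smul F X, adjJ_smul, neg_one_smul]

theorem adjJ_sub (X Y : Matrix n n F) : adjJ J (X - Y) = adjJ J X - adjJ J Y := by
  rw [sub_eq_add_neg, adjJ_add, adjJ_neg, ← sub_eq_add_neg]

theorem adjJ_zero : adjJ J (0 : Matrix n n F) = 0 := by simp [adjJ]

theorem adjJ_one : adjJ J (1 : Matrix n n F) = 1 := adjJ_eq J (by simp)

theorem adjJ_mul (X Y : Matrix n n F) : adjJ J (X * Y) = adjJ J Y * adjJ J X := by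
  refine adjJ_eq J ?_
  rw [Matrix.transpose_mul, mul_assoc, adjJ_gram J X, ← mul_assoc, adjJ_gram J Y, mul_assoc]

theorem adjJ_adjJ {ε : F} (hε : ε * ε = 1) (hJ : (J : Matrix n n F)ᵀ = ε • (J : Matrix n n F)) (X : Matrix n n F) :
    adjJ J (adjJ J X) = X := by
  refine adjJ_eq J ?_
  have h := congrArg Matrix.transpose (adjJ_gram J X)
  rw [Matrix.transpose_mul, Matrix.transpose_mul, Matrix.transpose_transpose, hJ, Matrix.mul_smul,
    Matrix.smul_mul] at h
  have h2 := congrArg (ε • ·) h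
  simp only [smul_smul, hε, one_smul] at h2
  exact h2.symm

end adj

variable {d t : ℕ}

theorem trans_slot (i : Fin t) (a : Matrix (Fin d) (Fin d) F) : (slot i a)ᵀ = slot i aᵀ := by
  ext x y
  simp only [slot, Matrix.transpose_apply, Matrix.of_apply]
  exact if_congr (forall₂_congr fun j _ => eq_comm) rfl rfl

theorem trans_pure (a : Fin t → Matrix (Fin d) (Fin d) F) : (pure' a)ᵀ = pure' fun i => (a i)ᵀ := rfl

section entries

theorem slot_mul_apply (i : Fin t) (A : Matrix (Fin d) (Fin d) F) (G : Matrix (Fin t → Fin d) (Fin t → Fin d) F) (x y : Fin t → Fin d) :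
    (slot i A * G) x y = ∑ a, A (x i) a * G (Function.update x i a) y := by
  classical
  rw [Matrix.mul_apply]
  symm
  refine Finset.sum_bij_ne_zero (fun a _ _ => Function.update x i a) (by simp)
    (fun a _ _ b _ _ e => by simpa using congrFun e i) (fun z _ hz => ?_) ?_
  · simp only [slot, Matrix.of_apply] at hz
    by_cases hc : ∀ j, j ≠ i → x j = z j
    · rw [if_pos hc] at hz
      have e : Function.update x i (z i) = z := funext fun j => by
        rcases eq_or_ne j i with rfl | hj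
        · simp
        · simp [hj, hc j hj]
      exact ⟨z i, Finset.mem_univ _, by rwa [e], e⟩
    · rw [if_neg hc, zero_mul] at hz; exact absurd rfl hz
  · intro a _ _
    simp only [slot, Matrix.of_apply, Function.update_self]
    rw [if_pos fun j hj => (Function.update_of_ne hj _ _).symm]

theorem mul_slot_apply (i : Fin t) (A : Matrix (Fin d) (Fin d) F) (G : Matrix (Fin t → Fin d) (Fin t → Fin d) F) (x y : Fin t → Fin d) :
    (G * slot i A) x y = ∑ b, G x (Function.update y i b) * A b (y i) := by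
  have h : ((slot i A)ᵀ * Gᵀ) y x = ∑ b, Aᵀ (y i) b * Gᵀ (Function.update y i b) x := by
    rw [trans_slot]; exact slot_mul_apply i Aᵀ Gᵀ y x
  rw [← Matrix.transpose_mul, Matrix.transpose_apply] at h
  rw [h]
  exact Finset.sum_congr rfl fun b _ => mul_comm _ _

end entries

variable (J₁ : GL (Fin d) F)

/-- The covector of a vector. -/
def fw (v : Fin d → F) : Fin d → F := v ᵥ* (J₁ : Matrix (Fin d) (Fin d) F)

/-- The form. -/
def fo (v w : Fin d → F) : F := fw J₁ v ⬝ᵥ w

/-- The map `x ↦ f (w, x) v`. -/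
def rk (v w : Fin d → F) : Matrix (Fin d) (Fin d) F := Matrix.vecMulVec v (fw J₁ w)

/-- The root element of a vector. -/
def aR (w : Fin d → F) : Matrix (Fin d) (Fin d) F := rk J₁ w w

theorem exists_fw (π : Fin d → F) : ∃ v, fw J₁ v = π :=
  ⟨π ᵥ* (↑J₁⁻¹ : Matrix (Fin d) (Fin d) F), by rw [fw, Matrix.vecMul_vecMul, Units.inv_mul, Matrix.vecMul_one]⟩

theorem fw_eq_zero {v : Fin d → F} : fw J₁ v = 0 ↔ v = 0 := by
  refine ⟨fun h => ?_, fun h => by simp [fw, h]⟩
  have := congrArg (fun u => u ᵥ* (↑J₁⁻¹ : Matrix (Fin d) (Fin d) F)) h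
  simpa [fw, Matrix.vecMul_vecMul] using this

theorem fo_add_left (u v w : Fin d → F) : fo J₁ (u + v) w = fo J₁ u w + fo J₁ v w := by
  simp [fo, fw, Matrix.add_vecMul, add_dotProduct]

theorem fo_add_right (u v w : Fin d → F) : fo J₁ u (v + w) = fo J₁ u v + fo J₁ u w := by
  simp [fo, dotProduct_add]

theorem fo_smul_left (c : F) (u w : Fin d → F) : fo J₁ (c • u) w = c * fo J₁ u w := by
  simp [fo, fw, Matrix.smul_vecMul, smul_dotProduct]

theorem fo_smul_right (c : F) (u w : Fin d → F) : fo J₁ u (c • w) = c * fo J₁ u w := by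
  simp [fo, dotProduct_smul]

theorem rk_add_left (u v w : Fin d → F) : rk J₁ (u + v) w = rk J₁ u w + rk J₁ v w := by
  simp [rk, Matrix.add_vecMulVec]

theorem rk_add_right (u v w : Fin d → F) : rk J₁ u (v + w) = rk J₁ u v + rk J₁ u w := by
  simp [rk, fw, Matrix.add_vecMul, Matrix.vecMulVec_add]

theorem rk_smul_left (c : F) (u w : Fin d → F) : rk J₁ (c • u) w = c • rk J₁ u w := by
  simp [rk, Matrix.smul_vecMulVec]

theorem rk_smul_right (c : F) (u w : Fin d → F) : rk J₁ u (c • w) = c • rk J₁ u w := by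
  simp [rk, fw, Matrix.smul_vecMul, Matrix.vecMulVec_smul]

theorem rk_mul (v w s r : Fin d → F) : rk J₁ v w * rk J₁ s r = fo J₁ w s • rk J₁ v r := by
  ext x y
  simp only [rk, Matrix.mul_apply, Matrix.vecMulVec_apply, Matrix.smul_apply, smul_eq_mul, fo, dotProduct,
    Finset.sum_mul]
  exact Finset.sum_congr rfl fun c _ => by ring

theorem rk_mulVec (v w x : Fin d → F) : rk J₁ v w *ᵥ x = fo J₁ w x • v := by
  ext y
  simp only [rk, Matrix.mulVec, dotProduct, Matrix.vecMulVec_apply, Pi.smul_apply, smul_eq_mul, fo, Finset.sum_mul]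
  exact Finset.sum_congr rfl fun c _ => by ring

theorem rk_ne_zero {v w : Fin d → F} (hv : v ≠ 0) (hw : w ≠ 0) : rk J₁ v w ≠ 0 := by
  intro h
  obtain ⟨x, hx⟩ := Function.ne_iff.1 hv
  obtain ⟨y, hy⟩ := Function.ne_iff.1 fun e => hw ((fw_eq_zero J₁).1 e)
  exact mul_ne_zero hx hy (congrFun (congrFun h x) y)

variable (hJ : (J₁ : Matrix (Fin d) (Fin d) F)ᵀ = -(J₁ : Matrix (Fin d) (Fin d) F)) (h2 : (2 : F) ≠ 0)

include hJ in
theorem fo_skew (v w : Fin d → F) : fo J₁ v w = -fo J₁ w v := by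
  rw [fo, fo, fw, fw, ← Matrix.dotProduct_mulVec, ← Matrix.dotProduct_mulVec]
  conv_lhs => rw [← neg_neg (J₁ : Matrix (Fin d) (Fin d) F), ← hJ, Matrix.neg_mulVec, Matrix.mulVec_transpose, dotProduct_neg,
    dotProduct_comm, ← Matrix.dotProduct_mulVec]

include hJ h2 in
theorem fo_self (v : Fin d → F) : fo J₁ v v = 0 :=
  (mul_eq_zero.1 (show (2 : F) * fo J₁ v v = 0 by linear_combination fo_skew J₁ hJ v v)).resolve_left h2

include hJ in
theorem adj_rk (v w : Fin d → F) : adjJ J₁ (rk J₁ v w) = -rk J₁ w v := by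
  refine adjJ_eq J₁ ?_
  rw [rk, rk, Matrix.transpose_vecMulVec, Matrix.vecMulVec_mul, Matrix.mul_neg, Matrix.mul_vecMulVec]
  show Matrix.vecMulVec (fw J₁ w) (fw J₁ v) = _
  rw [← Matrix.neg_vecMulVec]
  congr 1
  rw [← Matrix.neg_mulVec, ← hJ, Matrix.mulVec_transpose]
  rfl

include hJ h2 in
theorem aR_sq (w : Fin d → F) : aR J₁ w * aR J₁ w = 0 := by rw [aR, rk_mul, fo_self J₁ hJ h2, zero_smul]

include hJ in
theorem adj_aR (w : Fin d → F) : adjJ J₁ (aR J₁ w) = -aR J₁ w := adj_rk J₁ hJ w w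

variable (t) in
/-- The Gram matrix of the tensor power. -/
def JT : GL (Fin t → Fin d) F := pureGL fun _ => J₁

theorem adj_slot (i : Fin t) (A : Matrix (Fin d) (Fin d) F) : adjJ (JT t J₁) (slot i A) = slot i (adjJ J₁ A) := by
  refine adjJ_eq _ ?_
  show (slot i A)ᵀ * pure' (fun _ : Fin t => (J₁ : Matrix (Fin d) (Fin d) F)) = pure' (fun _ : Fin t => (J₁ : Matrix (Fin d) (Fin d) F)) * slot i (adjJ J₁ A)
  rw [slot_eq_pure, slot_eq_pure, trans_pure, pure'_mul, pure'_mul]
  congr 1
  funext j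
  rcases eq_or_ne j i with rfl | hj
  · simp [adjJ_gram]
  · simp [hj]

include hJ in
theorem JT_transpose : (JT t J₁ : Matrix (Fin t → Fin d) (Fin t → Fin d) F)ᵀ = (-1 : F) ^ t • (JT t J₁ : Matrix (Fin t → Fin d) (Fin t → Fin d) F) := by
  show (pure' fun _ : Fin t => (J₁ : Matrix (Fin d) (Fin d) F))ᵀ = _ • pure' fun _ : Fin t => (J₁ : Matrix (Fin d) (Fin d) F)
  rw [trans_pure, hJ, show (fun _ : Fin t => -(J₁ : Matrix (Fin d) (Fin d) F)) = fun _ : Fin t => (-1 : F) • (J₁ : Matrix (Fin d) (Fin d) F) by simp,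
    pure'_smul, Finset.prod_const, Finset.card_univ, Fintype.card_fin]

include hJ in
theorem adjT_adjT (X : Matrix (Fin t → Fin d) (Fin t → Fin d) F) : adjJ (JT t J₁) (adjJ (JT t J₁) X) = X :=
  adjJ_adjJ _ (by rw [← mul_pow]; simp) (JT_transpose J₁ hJ) X

/-- The coefficient of a matrix along one slot. -/
def bop (i : Fin t) (v w : Fin d → F) (X : Matrix (Fin t → Fin d) (Fin t → Fin d) F) : Matrix (Fin t → Fin d) (Fin t → Fin d) F :=
  ∑ c, slot i (Matrix.vecMulVec (Pi.single c 1) (fw J₁ v)) * X * slot i (Matrix.vecMulVec w (Pi.single c 1))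

/-- Commuting with one slot. -/
def Cent (i : Fin t) (X : Matrix (Fin t → Fin d) (Fin t → Fin d) F) : Prop := ∀ A : Matrix (Fin d) (Fin d) F, slot i A * X = X * slot i A

theorem slot_zero (i : Fin t) : slot i (0 : Matrix (Fin d) (Fin d) F) = 0 := by ext; simp [slot]

theorem slot_neg (i : Fin t) (A : Matrix (Fin d) (Fin d) F) : slot i (-A) = -slot i A := by
  rw [← neg_one_smul F A, slot_smul, neg_one_smul]

theorem slot_sum {κ : Type*} (s : Finset κ) (i : Fin t) (A : κ → Matrix (Fin d) (Fin d) F) :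
    slot i (∑ c ∈ s, A c) = ∑ c ∈ s, slot i (A c) := by
  classical
  induction s using Finset.induction_on with
  | empty => simp [slot_zero]
  | insert c s hc ih => rw [Finset.sum_insert hc, Finset.sum_insert hc, slot_add, ih]

theorem slot_commute {i j : Fin t} (h : i ≠ j) (A B : Matrix (Fin d) (Fin d) F) : slot i A * slot j B = slot j B * slot i A := by
  rw [slot_eq_pure, slot_eq_pure, pure'_mul, pure'_mul]
  congr 1
  funext l
  rcases eq_or_ne l i with rfl | hl
  · simp [h]
  · rcases eq_or_ne l j with rfl | hl' <;> simp_all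

theorem cent_slot {i j : Fin t} (h : i ≠ j) (B : Matrix (Fin d) (Fin d) F) : Cent i (slot j B) := fun A => slot_commute h A B

theorem vmv_smul_mul (p π v w : Fin d → F) :
    Matrix.vecMulVec p π * Matrix.vecMulVec v w = (π ⬝ᵥ v) • Matrix.vecMulVec p w := by
  ext x y
  simp only [Matrix.mul_apply, Matrix.vecMulVec_apply, Matrix.smul_apply, smul_eq_mul, dotProduct, Finset.sum_mul]
  exact Finset.sum_congr rfl fun c _ => by ring

theorem sum_single (π : Fin d → F) : ∑ c, π c • (Pi.single c 1 : Fin d → F) = π := by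
  ext x; simp [Pi.single_apply]

theorem vmv_sum_right {κ : Type*} (s : Finset κ) (p : Fin d → F) (q : κ → Fin d → F) :
    Matrix.vecMulVec p (∑ c ∈ s, q c) = ∑ c ∈ s, Matrix.vecMulVec p (q c) := by
  ext x y; simp [Matrix.vecMulVec_apply, Matrix.sum_apply, Finset.mul_sum, Finset.sum_apply]

theorem vmv_sum_left {κ : Type*} (s : Finset κ) (p : κ → Fin d → F) (q : Fin d → F) :
    Matrix.vecMulVec (∑ c ∈ s, p c) q = ∑ c ∈ s, Matrix.vecMulVec (p c) q := by
  ext x y; simp [Matrix.vecMulVec_apply, Matrix.sum_apply, Finset.sum_mul, Finset.sum_apply]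

theorem sandwich (i : Fin t) (p v w r : Fin d → F) (X : Matrix (Fin t → Fin d) (Fin t → Fin d) F) :
    slot i (rk J₁ p v) * X * slot i (rk J₁ w r) = slot i (rk J₁ p r) * bop J₁ i v w X := by
  rw [bop, Finset.mul_sum]
  simp only [← mul_assoc, ← slot_mul, rk, vmv_smul_mul, dotProduct_single, mul_one, slot_smul, Matrix.smul_mul]
  conv_lhs => rw [show fw J₁ r = ∑ c, fw J₁ r c • (Pi.single c 1 : Fin d → F) from (sum_single _).symm]
  rw [vmv_sum_right, slot_sum, Finset.mul_sum]
  simp only [Matrix.vecMulVec_smul, slot_smul, Matrix.mul_smul]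

theorem cent_bop (i : Fin t) (v w : Fin d → F) (X : Matrix (Fin t → Fin d) (Fin t → Fin d) F) : Cent i (bop J₁ i v w X) := by
  intro A
  rw [bop, Finset.mul_sum, Finset.sum_mul]
  simp only [← mul_assoc, ← slot_mul, Matrix.mul_vecMulVec]
  simp only [mul_assoc, ← slot_mul, Matrix.vecMulVec_mul]
  have h1 : ∀ c, A *ᵥ (Pi.single c 1 : Fin d → F) = ∑ e, A e c • (Pi.single e 1 : Fin d → F) := fun c => by
    rw [sum_single fun e => A e c]; ext e; simp [Matrix.mulVec, dotProduct, Pi.single_apply]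
  have h2 : ∀ c, (Pi.single c 1 : Fin d → F) ᵥ* A = ∑ e, A c e • (Pi.single e 1 : Fin d → F) := fun c => by
    rw [sum_single (A c)]; ext e; simp [Matrix.vecMul, dotProduct, Pi.single_apply]
  simp only [h1, h2, vmv_sum_left, vmv_sum_right, Matrix.smul_vecMulVec, Matrix.vecMulVec_smul,
    slot_sum, slot_smul, Finset.sum_mul, Finset.mul_sum, Matrix.smul_mul, Matrix.mul_smul]
  exact Finset.sum_comm

theorem bop_add_left (i : Fin t) (u v w : Fin d → F) (X : Matrix (Fin t → Fin d) (Fin t → Fin d) F) :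
    bop J₁ i (u + v) w X = bop J₁ i u w X + bop J₁ i v w X := by
  simp only [bop, fw, Matrix.add_vecMul, Matrix.vecMulVec_add, slot_add, add_mul, Finset.sum_add_distrib]

theorem bop_add_right (i : Fin t) (u v w : Fin d → F) (X : Matrix (Fin t → Fin d) (Fin t → Fin d) F) :
    bop J₁ i u (v + w) X = bop J₁ i u v X + bop J₁ i u w X := by
  simp only [bop, Matrix.add_vecMulVec, slot_add, mul_add, Finset.sum_add_distrib]

theorem bop_smul_left (i : Fin t) (c : F) (v w : Fin d → F) (X : Matrix (Fin t → Fin d) (Fin t → Fin d) F) :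
    bop J₁ i (c • v) w X = c • bop J₁ i v w X := by
  simp only [bop, fw, Matrix.smul_vecMul, Matrix.vecMulVec_smul, slot_smul, Matrix.smul_mul, Finset.smul_sum]

theorem bop_smul_right (i : Fin t) (c : F) (v w : Fin d → F) (X : Matrix (Fin t → Fin d) (Fin t → Fin d) F) :
    bop J₁ i v (c • w) X = c • bop J₁ i v w X := by
  simp only [bop, Matrix.smul_vecMulVec, slot_smul, Matrix.mul_smul, Finset.smul_sum]

theorem bop_add (i : Fin t) (v w : Fin d → F) (X Y : Matrix (Fin t → Fin d) (Fin t → Fin d) F) :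
    bop J₁ i v w (X + Y) = bop J₁ i v w X + bop J₁ i v w Y := by
  simp only [bop, mul_add, add_mul, Finset.sum_add_distrib]

theorem bop_smul (i : Fin t) (c : F) (v w : Fin d → F) (X : Matrix (Fin t → Fin d) (Fin t → Fin d) F) :
    bop J₁ i v w (c • X) = c • bop J₁ i v w X := by
  simp only [bop, Matrix.mul_smul, Matrix.smul_mul, Finset.smul_sum]

theorem bop_zero (i : Fin t) (v w : Fin d → F) : bop J₁ i v w (0 : Matrix (Fin t → Fin d) (Fin t → Fin d) F) = 0 := by simp [bop]

theorem bop_slot_mul (i : Fin t) (A : Matrix (Fin d) (Fin d) F) (v w : Fin d → F) {X : Matrix (Fin t → Fin d) (Fin t → Fin d) F} (hX : Cent i X) :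
    bop J₁ i v w (slot i A * X) = fo J₁ v (A *ᵥ w) • X := by
  have h1 : ∑ c, slot (F := F) i (Matrix.vecMulVec (Pi.single c 1 : Fin d → F) (Pi.single c 1)) = 1 := by
    rw [← slot_sum, ← slot_one i]
    congr 1
    ext x y
    simp [Matrix.sum_apply, Matrix.vecMulVec_apply, Pi.single_apply, Matrix.one_apply, eq_comm]
  rw [bop]
  conv_rhs => rw [← mul_one X, ← h1, Finset.mul_sum, Finset.smul_sum]
  refine Finset.sum_congr rfl fun c _ => ?_
  rw [← mul_assoc, ← slot_mul, hX, mul_assoc, ← slot_mul, Matrix.vecMulVec_mul, vmv_smul_mul, slot_smul,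
    Matrix.mul_smul, fo, ← Matrix.dotProduct_mulVec]

theorem bop_of_cent (i : Fin t) (v w : Fin d → F) {X : Matrix (Fin t → Fin d) (Fin t → Fin d) F} (hX : Cent i X) :
    bop J₁ i v w X = fo J₁ v w • X := by
  simpa [slot_one] using bop_slot_mul J₁ i 1 v w hX

include J₁ in
theorem eq_zero_of_slot_mul (i : Fin t) {A : Matrix (Fin d) (Fin d) F} (hA : A ≠ 0) {X : Matrix (Fin t → Fin d) (Fin t → Fin d) F} (hX : Cent i X)
    (h : slot i A * X = 0) : X = 0 := by
  obtain ⟨x, y, hxy⟩ : ∃ x y, A x y ≠ 0 := by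
    by_contra hc; push Not at hc; exact hA (Matrix.ext hc)
  obtain ⟨v, hv⟩ := exists_fw J₁ (Pi.single x 1)
  have := bop_slot_mul J₁ i A v (Pi.single y 1) hX
  rw [h, bop_zero] at this
  refine (smul_eq_zero.1 this.symm).resolve_left ?_
  simpa [fo, hv] using hxy

theorem cent_adj (hJ : (J₁ : Matrix (Fin d) (Fin d) F)ᵀ = -(J₁ : Matrix (Fin d) (Fin d) F)) {i : Fin t} {X : Matrix (Fin t → Fin d) (Fin t → Fin d) F} (hX : Cent i X) :
    Cent i (adjJ (JT t J₁) X) := fun A => by
  have h := congrArg (adjJ (JT t J₁)) (hX (adjJ J₁ A))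
  rw [adjJ_mul, adjJ_mul, adj_slot, adjJ_adjJ J₁ (ε := -1) (by ring) (by simp [hJ])] at h
  exact h.symm

include hJ in
theorem adj_bop [NeZero d] (i : Fin t) (v w : Fin d → F) (X : Matrix (Fin t → Fin d) (Fin t → Fin d) F) :
    adjJ (JT t J₁) (bop J₁ i v w X) = -bop J₁ i w v (adjJ (JT t J₁) X) := by
  set p : Fin d → F := Pi.single 0 1
  have hp : p ≠ 0 := fun h => one_ne_zero (α := F) (by simpa [p] using congrFun h 0)
  have h := congrArg (adjJ (JT t J₁)) (sandwich J₁ i p v w p X)
  rw [adjJ_mul, adjJ_mul, adjJ_mul, adj_slot, adj_slot, adj_slot, adj_rk J₁ hJ, adj_rk J₁ hJ, adj_rk J₁ hJ,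
    slot_neg, slot_neg, slot_neg] at h
  simp only [mul_neg, neg_mul, neg_neg, ← mul_assoc] at h
  rw [sandwich, ← cent_adj J₁ hJ (cent_bop J₁ i v w X), ← mul_neg] at h
  refine sub_eq_zero.1 (eq_zero_of_slot_mul J₁ i (rk_ne_zero J₁ hp hp) (X := _ - _) (fun A => ?_) ?_)
  · rw [mul_sub, sub_mul, mul_neg, neg_mul, cent_adj J₁ hJ (cent_bop J₁ i v w X), cent_bop J₁ i w v _ A]
  · rw [mul_sub, mul_neg, h, mul_neg, neg_neg, sub_self]

include hJ h2 in
/-- A matrix killed by every one-slot root sandwich is self-adjoint. -/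
theorem adj_eq_of_sandwich {Y : Matrix (Fin t → Fin d) (Fin t → Fin d) F} (h : ∀ (j : Fin t) u, slot j (aR J₁ u) * Y * slot j (aR J₁ u) = 0) :
    adjJ (JT t J₁) Y = Y := by
  classical
  set G : Matrix (Fin t → Fin d) (Fin t → Fin d) F := (JT t J₁ : Matrix (Fin t → Fin d) (Fin t → Fin d) F) * Y with hG
  have hs : ∀ (j : Fin t) (x y : Fin t → Fin d), G (Function.update x j (y j)) (Function.update y j (x j)) = -G x y := by
    intro j x y
    let Φ : (Fin d → F) → F := fun u => ∑ a, ∑ b, u a * G (Function.update x j a) (Function.update y j b) * u b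
    have hΦ : ∀ u, Φ u = 0 := fun u => by
      rcases eq_or_ne u 0 with rfl | hu
      · simp [Φ]
      obtain ⟨z, hz⟩ := Function.ne_iff.1 fun e => hu ((fw_eq_zero J₁).1 e)
      have hA : (slot j (aR J₁ u))ᵀ * G * slot j (aR J₁ u) = 0 := by
        rw [hG, ← mul_assoc, adjJ_gram, adj_slot, adj_aR J₁ hJ, slot_neg, mul_assoc, mul_assoc, neg_mul, mul_neg,
          ← mul_assoc (slot j _), h, mul_zero, neg_zero]
      have e := congrFun (congrFun hA (Function.update x j z)) (Function.update y j z)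
      simp only [mul_slot_apply, trans_slot, slot_mul_apply, Function.update_self, Function.update_idem,
        Finset.sum_mul, Matrix.transpose_apply, aR, rk, Matrix.vecMulVec_apply, Matrix.zero_apply] at e
      rw [Finset.sum_comm] at e
      have : fw J₁ u z * fw J₁ u z * Φ u = 0 := by
        rw [← e]
        simp only [Φ, Finset.mul_sum]
        exact Finset.sum_congr rfl fun a _ => Finset.sum_congr rfl fun b _ => by ring
      exact (mul_eq_zero.1 this).resolve_left (mul_ne_zero hz hz)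
    have hsingle : ∀ a, G (Function.update x j a) (Function.update y j a) = 0 := fun a => by
      simpa [Φ, Pi.single_apply] using hΦ (Pi.single a 1)
    have hpair := hΦ (Pi.single (x j) 1 + Pi.single (y j) 1)
    simp only [Φ, Pi.add_apply, add_mul, mul_add, Finset.sum_add_distrib, Pi.single_apply, ite_mul, mul_ite, one_mul,
      mul_one, zero_mul, mul_zero, Finset.sum_ite_eq', Finset.mem_univ, if_true, hsingle, zero_add, add_zero] at hpair
    simp only [Function.update_eq_self] at hpair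
    linear_combination hpair
  have hS : ∀ (S : Finset (Fin t)) (x y : Fin t → Fin d),
      G (fun l => if l ∈ S then y l else x l) (fun l => if l ∈ S then x l else y l) = (-1) ^ S.card * G x y := by
    intro S
    induction S using Finset.induction_on with
    | empty => intro x y; simp
    | insert j S hj ih =>
      intro x y
      rw [Finset.card_insert_of_notMem hj, pow_succ, mul_assoc, neg_one_mul, ← hs j x y, ← ih]
      congr 1 <;> (funext l; rcases eq_or_ne l j with rfl | hl <;> simp_all)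
  have hT : Gᵀ = (-1 : F) ^ t • G := by
    ext x y
    have := hS Finset.univ x y
    simpa using this
  refine adjJ_eq _ ?_
  have ht : ((-1 : F) ^ t) * (-1) ^ t = 1 := by rw [← mul_pow]; simp
  rw [hG, Matrix.transpose_mul, JT_transpose J₁ hJ, Matrix.mul_smul] at hT
  have := congrArg (((-1 : F) ^ t) • ·) hT
  simp only [smul_smul, ht, one_smul] at this
  exact this

end CfsgLib.TensorWreath
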