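import Cfsg.Agent.Lib.TensorWreath.RadField

/-!
The field case over a base field of three elements: apart from quadratic generators the twisted group is the special
linear group.
-/

set_option autoImplicit false
set_option linter.unusedSectionVars false

namespace CfsgLib.TensorWreath

open Cfsg Polynomial CfsgLib.ThreeTransp
open CfsgLib.Classical (uSL lSL uSL_coe lSL_coe)
open scoped CfsgLib.OddOrder.SL2 OnePoint

variable {k K : Type*} [Field k] [Field K] [Algebra k K]

/-- The base field of three elements: the only exception is a quadratic generator. -/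
theorem pairGroup_eq_top_three [Finite k] [FiniteDimensional k K] (h2 : (2 : K) ≠ 0)
    {α : K} (hα : α ≠ 0) (hk3 : Nat.card k = 3) (hnq : ∀ A B : k, α * α ≠ algebraMap k K A * α + algebraMap k K B)
    (hgen : Algebra.adjoin k ({α} : Set K) = ⊤) : pairGroup k α = ⊤ := by
  classical
  haveI : Finite K := Module.finite_of_finite k
  set H := pairGroup k α with hH
  by_cases hin : α ∈ Set.range (algebraMap k K)
  · obtain ⟨a, rfl⟩ := hin
    have hall : ∀ r : K, r ∈ Set.range (algebraMap k K) := by
      intro r
      have : r ∈ Algebra.adjoin k ({algebraMap k K a} : Set K) := by rw [hgen]; trivial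
      exact Algebra.mem_bot.1 ((Algebra.adjoin_le (by
        rintro x rfl; exact Algebra.mem_bot.2 ⟨a, rfl⟩) :
        Algebra.adjoin k ({algebraMap k K a} : Set K) ≤ ⊥) this)
    refine eq_top_of_uSet (fun r => ?_) hα (by simpa using pairGroup_L (k := k) (algebraMap k K a) 1)
    obtain ⟨c, rfl⟩ := hall r
    exact pairGroup_U _ c
  obtain ⟨p, hpk⟩ := CharP.exists k
  haveI := hpk
  haveI hp : Fact p.Prime := ⟨CharP.char_is_prime k p⟩
  set L := AlgebraicClosure K
  haveI : CharP K p := charP_of_injective_algebraMap (algebraMap k K).injective p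
  haveI : CharP L p := charP_of_injective_algebraMap (algebraMap K L).injective p
  have hp2 : p ≠ 2 := fun h => h2 (by
    have := CharP.cast_eq_zero K p
    rw [h] at this
    exact_mod_cast this)
  set f := algebraMap K L with hf
  set Φ := Matrix.SpecialLinearGroup.map (n := Fin 2) f with hΦ
  have hΦU : ∀ r, Φ (sl2U K r) = uSL (f r) := fun r => by
    apply Subtype.ext
    ext i j
    fin_cases i <;> fin_cases j <;> simp [hΦ, uSL_coe, sl2U_val]
  have hΦL : ∀ r, Φ (sl2L K r) = lSL (f r) := fun r => by
    apply Subtype.ext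
    ext i j
    fin_cases i <;> fin_cases j <;> simp [hΦ, lSL_coe, sl2L_val]
  have hΦi : Function.Injective Φ := fun g g' h => by
    apply Subtype.ext
    ext i j
    have := congrArg (fun m : Matrix.SpecialLinearGroup (Fin 2) L => m.1 i j) h
    exact f.injective (by simpa [hΦ] using this)
  set H' := H.map Φ with hH'
  have hu : uSL (1 : L) ∈ H' := ⟨_, pairGroup_U α 1, by rw [hΦU, map_one, map_one]⟩
  have hfα : f α ≠ 0 := by rwa [_root_.map_ne_zero]
  have hw : lSL (f α) ∈ H' := ⟨_, pairGroup_L α 1, by rw [hΦL, map_one, one_mul]⟩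
  haveI : Finite H' := Finite.of_surjective (fun g : H => (⟨Φ g, g, g.2, rfl⟩ : H'))
    fun ⟨_, g, hg, h⟩ => ⟨⟨g, hg⟩, Subtype.ext h⟩
  rcases CfsgLib.OddOrder.SL2.dickson_count hp2 H' hu hfα hw with hcard | ⟨hp3, hS⟩
  · -- the field case
    have hw1 := CfsgLib.OddOrder.SL2.lSL_one_mem hp2 H' hu hfα hw hcard
    set S := CfsgLib.OddOrder.SL2.poleSet H'
    have hL1 : sl2L K 1 ∈ H := by
      obtain ⟨g, hg, hge⟩ := hw1
      rw [show sl2L K 1 = g from hΦi (by rw [hge, hΦL, map_one])]
      exact hg
    have hU1 : sl2U K 1 ∈ H := by simpa using pairGroup_U (k := k) α 1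
    obtain ⟨w, hwdef⟩ : ∃ w, w = sl2U K 1 * (sl2L K 1)⁻¹ * sl2U K 1 := ⟨_, rfl⟩
    have hwH : w ∈ H := hwdef ▸ mul_mem (mul_mem hU1 (inv_mem hL1)) hU1
    have hwv : (w : Matrix (Fin 2) (Fin 2) K) = !![0, 1; -1, 0] := by
      rw [hwdef, sl2L_inv]
      ext i j
      fin_cases i <;> fin_cases j <;>
        simp [Matrix.SpecialLinearGroup.coe_mul, Matrix.mul_apply, Fin.sum_univ_two, sl2U_val,
          sl2L_val]
    have hwα : ∀ c : k, algebraMap k K c * α ∈ uSet H := by
      intro c
      show sl2U K _ ∈ H
      have e : sl2U K (algebraMap k K c * α) = w * sl2L K (algebraMap k K (-c) * α) * w⁻¹ := by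
        rw [eq_mul_inv_iff_mul_eq]
        apply Subtype.ext
        rw [Matrix.SpecialLinearGroup.coe_mul, Matrix.SpecialLinearGroup.coe_mul, hwv, sl2U_val,
          sl2L_val]
        ext i j
        fin_cases i <;> fin_cases j <;> simp [Matrix.mul_apply, Fin.sum_univ_two]
      rw [e]
      exact mul_mem (mul_mem hwH (pairGroup_L α (-c))) (inv_mem hwH)
    -- the poles are exactly the translations
    have hXE : ∀ y : L, y ∈ S → ∃ x ∈ uSet H, f x = y := by
      have hsub : (CfsgLib.OddOrder.SL2.upperGroup H' : Set L) ⊆ S := by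
        intro b hb
        have h0 : ∃ g : H', g.1 • (OnePoint.infty : OnePoint L) = ((0 : L) : OnePoint L) := by
          refine ⟨⟨Φ w, w, hwH, rfl⟩, ?_⟩
          show Φ w • _ = _
          simp [CfsgLib.OddOrder.SL2.smul_infty, hΦ, hwv]
        obtain ⟨g, hg⟩ := h0
        refine ⟨(⟨uSL b, hb⟩ : H') * g, ?_⟩
        show ((⟨uSL b, hb⟩ : H') * g).1 • (OnePoint.infty : OnePoint L) = _
        rw [Subgroup.coe_mul, mul_smul, hg]
        simp [CfsgLib.OddOrder.SL2.smul_some, uSL_coe]
      have hfin : S.Finite :=
        Set.Finite.preimage (OnePoint.coe_injective.injOn)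
          (Set.finite_range (fun g : H' => g • (OnePoint.infty : OnePoint L)))
      have heq : (CfsgLib.OddOrder.SL2.upperGroup H' : Set L) = S :=
        Set.eq_of_subset_of_ncard_le hsub (by rw [← hcard, ← Nat.card_coe_set_eq]; rfl) hfin
      intro y hy
      rw [← heq] at hy
      obtain ⟨g, hg, hge⟩ := (hy : uSL y ∈ H')
      have h01 : f ((g : Matrix (Fin 2) (Fin 2) K) 0 1) = y := by
        have := congrArg (fun m : Matrix.SpecialLinearGroup (Fin 2) L => m.1 0 1) hge
        simpa [hΦ, uSL_coe] using this
      refine ⟨_, ?_, h01⟩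
      show sl2U K _ ∈ H
      rw [show sl2U K _ = g from hΦi (by rw [hΦU, h01, hge])]
      exact hg
    have hinv : ∀ x ∈ uSet H, x ≠ 0 → -1 / x ∈ uSet H := by
      intro x hx hx0
      have hmem : f (-1 / x) * 1 ∈ S := by
        rw [mul_one]
        -- `w (x + ·)` maps `∞` to `-1/x`
        refine ⟨⟨Φ (w⁻¹ * sl2U K x * w), _, mul_mem (mul_mem (inv_mem hwH) hx) hwH, rfl⟩, ?_⟩
        show Φ (w⁻¹ * sl2U K x * w) • (OnePoint.infty : OnePoint L) = _
        have hm : ((w⁻¹ * sl2U K x * w : Matrix.SpecialLinearGroup (Fin 2) K) :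
            Matrix (Fin 2) (Fin 2) K) = !![1, 0; -x, 1] := by
          simp [Matrix.SpecialLinearGroup.coe_mul, Matrix.SpecialLinearGroup.coe_inv, hwv,
            sl2U_val, Matrix.adjugate_fin_two]
        simp [CfsgLib.OddOrder.SL2.smul_infty, hΦ, hwv, sl2U_val, Matrix.adjugate_fin_two,
          Matrix.mul_apply, Matrix.vecMul, dotProduct, Matrix.map_apply, Fin.sum_univ_two, hx0,
          neg_div]
        ring
      obtain ⟨y, hy, hye⟩ := hXE _ hmem
      rw [mul_one] at hye
      rw [← f.injective hye]; exact hy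
    have hone : (1 : K) ∈ uSet H := hU1
    have hsq : ∀ x ∈ uSet H, x * x ∈ uSet H := by
      intro x hx
      rcases eq_or_ne x 0 with rfl | hx0
      · simpa using zero_mem (uSet H)
      rcases eq_or_ne x (-1) with rfl | hx1
      · simpa using hone
      have hx1' : x + 1 ≠ 0 := fun h => hx1 (eq_neg_of_add_eq_zero_left h)
      have hd := sub_mem (hinv _ (add_mem hx hone) hx1') (hinv x hx hx0)
      have hd' : (-1 : K) / (x + 1) - -1 / x = 1 / (x * x + x) := by field_simp; ring
      rw [hd'] at hd
      have h0 : x * x + x ≠ 0 := by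
        rw [show x * x + x = x * (x + 1) by ring]; exact mul_ne_zero hx0 hx1'
      have hd2 := hinv _ hd (one_div_ne_zero h0)
      rw [show (-1 : K) / (1 / (x * x + x)) = -(x * x + x) by field_simp] at hd2
      have := sub_mem (neg_mem hd2) hx
      simpa using this
    have hmul : ∀ x ∈ uSet H, ∀ y ∈ uSet H, x * y ∈ uSet H := by
      intro x hx y hy
      have h := sub_mem (sub_mem (hsq _ (add_mem hx hy)) (hsq x hx)) (hsq y hy)
      have h' : (x + y) * (x + y) - x * x - y * y = 2 * (x * y) := by ring
      rw [h'] at h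
      obtain ⟨m, hm⟩ : Odd p := (Fact.out : p.Prime).odd_of_ne_two hp2
      have h'' := nsmul_mem h (m + 1)
      rw [nsmul_eq_mul, ← mul_assoc] at h''
      have e : ((m + 1 : ℕ) : K) * 2 = 1 := by
        have h0 := CharP.cast_eq_zero K p
        rw [hm] at h0
        push_cast at h0 ⊢
        linear_combination h0
      rwa [e, one_mul] at h''
    let A : Subalgebra k K :=
      { carrier := uSet H
        mul_mem' := fun {a b} ha hb => hmul a ha b hb
        one_mem' := hone
        add_mem' := fun {a b} ha hb => add_mem ha hb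
        zero_mem' := zero_mem _
        algebraMap_mem' := fun c => pairGroup_U α c }
    have hA : A = ⊤ := by
      rw [eq_top_iff, ← hgen, Algebra.adjoin_le_iff, Set.singleton_subset_iff]
      have := hwα 1
      rwa [map_one, one_mul] at this
    exact eq_top_of_uSet (fun r => (show r ∈ A by rw [hA]; trivial)) hα
      (by simpa using pairGroup_L (k := k) α 1)
  · -- characteristic three: `α ^ 9 = α`
    exfalso
    subst hp3
    haveI := Fintype.ofFinite k
    haveI := Fintype.ofFinite K
    have hg : uSL (f (algebraMap k K 1)) * lSL (f α) ∈ H' := mul_mem ⟨_, pairGroup_U α 1, hΦU _⟩ hw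
    have htr : CfsgLib.OddOrder.SL2.tr (uSL (f (algebraMap k K 1)) * lSL (f α)) = f (2 + α) := by
      simp [CfsgLib.OddOrder.SL2.tr, Matrix.mul_apply, Fin.sum_univ_two, uSL_coe, lSL_coe, map_add, map_ofNat]
      ring
    have hs : f (2 + α) ^ 9 = f (2 + α) := by
      rcases hS _ hg with h | h | h <;> rw [htr] at h
      · rw [h]; ring
      · linear_combination (f (2 + α) ^ 5 + f (2 + α)) * h
      · linear_combination (f (2 + α) ^ 5 - f (2 + α)) * h
    rw [← map_pow] at hs
    have hs' : (2 + α) ^ 9 = 2 + α := f.injective hs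
    have h9 : ∀ x : k, algebraMap k K x ^ 9 = algebraMap k K x := fun x => by
      obtain ⟨m, -, hm⟩ := FiniteField.card k 3
      have hx : x ^ 3 = x := by
        have := FiniteField.pow_card x
        rwa [← Nat.card_eq_fintype_card, hk3] at this
      rw [← map_pow, show x ^ 9 = (x ^ 3) ^ 3 by ring, hx, hx]
    have h2' : (2 : K) ^ 9 = 2 := by simpa [map_ofNat] using h9 2
    have hα9 : α ^ 9 = α := by
      have h3K : (3 : K) = 0 := by exact_mod_cast CharP.cast_eq_zero K 3
      have e := add_pow_char_pow (R := K) 2 α 3 2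
      norm_num at e
      rw [e] at hs'
      linear_combination hs' - (170 : K) * h3K
    -- the nine roots of `X ^ 9 - X`
    set S := Finset.univ.filter fun x : K => x ^ 9 = x with hSdef
    have hcard : S.card ≤ 9 := by
      have hne := FiniteField.X_pow_card_sub_X_ne_zero K (show 1 < 9 by norm_num)
      refine le_trans (Finset.card_le_card fun x hx => ?_) ((Multiset.toFinset_card_le _).trans
        ((card_roots' (X ^ 9 - X : K[X])).trans
          (le_of_eq (FiniteField.X_pow_card_sub_X_natDegree_eq K (by norm_num)))))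
      rw [Multiset.mem_toFinset, mem_roots hne, IsRoot, eval_sub, eval_pow, eval_X, sub_eq_zero]
      exact (Finset.mem_filter.1 hx).2
    set g : k × k → K := fun t => algebraMap k K t.1 * α + algebraMap k K t.2
    have hginj : Function.Injective g := fun a b h => by
      have h1 : algebraMap k K (a.1 - b.1) * α = algebraMap k K (b.2 - a.2) := by
        simp only [map_sub, g] at h ⊢; linear_combination h
      by_cases hab : a.1 = b.1
      · rw [hab, sub_self, map_zero, zero_mul] at h1
        exact Prod.ext hab (sub_eq_zero.1 ((map_eq_zero _).1 h1.symm)).symm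
      · refine absurd ⟨(a.1 - b.1)⁻¹ * (b.2 - a.2), ?_⟩ hin
        rw [map_mul, ← h1, ← mul_assoc, ← map_mul, inv_mul_cancel₀ (sub_ne_zero.2 hab), map_one, one_mul]
    have himg : Finset.univ.image g = S := by
      refine Finset.eq_of_subset_of_card_le (fun x hx => ?_) ?_
      · obtain ⟨t, -, rfl⟩ := Finset.mem_image.1 hx
        refine Finset.mem_filter.2 ⟨Finset.mem_univ _, ?_⟩
        have e := add_pow_char_pow (R := K) (algebraMap k K t.1 * α) (algebraMap k K t.2) 3 2
        norm_num at e
        show g t ^ 9 = g t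
        rw [show g t = algebraMap k K t.1 * α + algebraMap k K t.2 from rfl, e, mul_pow, h9, h9, hα9]
      · rw [Finset.card_image_of_injective _ hginj, Finset.card_univ, Fintype.card_prod, ← Nat.card_eq_fintype_card,
          hk3]
        exact hcard
    obtain ⟨t, -, ht⟩ := Finset.mem_image.1 (himg.ge (Finset.mem_filter.2 ⟨Finset.mem_univ (α * α),
      by rw [mul_pow, hα9]⟩ : α * α ∈ S))
    exact hnq t.1 t.2 ht.symm

end CfsgLib.TensorWreath
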