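import Cfsg.Agent.Lib.TensorWreath.Root

/-!
A product of a one-slot root element with a non-scalar matrix spreads over all slots: the group contains the
elements of a tensor product of root elements in all the slots (odd number of slots, all transpositions of slots).
-/

set_option autoImplicit false
set_option linter.unusedSectionVars false

namespace CfsgLib.TensorWreath

open CfsgLib.Aschbacher CfsgLib.AschbacherForm
open scoped Matrix MatrixGroups

section abstract

variable {k E : Type*} [Field k] [Ring E] [Algebra k E] {M : Subgroup Eˣ}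

theorem InM.smul_one_sub {x : E} (h : InM M (1 + x)) (hx : x * x = 0) : InM M (1 - x) := by
  obtain ⟨g, hg, hge⟩ := h
  refine ⟨g⁻¹, inv_mem hg, left_inv_eq_right_inv (Units.inv_mul g) ?_⟩
  rw [hge, add_mul, one_mul, mul_sub, mul_one, hx, sub_zero, sub_add_cancel]

/-- The Jordan product of two coefficients of a root element. -/
theorem jordan_mem {a b Y Z : E} (ha : Unip k M a) (hb : Unip k M b) (hab : a * b * a = a) (hba : b * a * b = b)
    (hYa : Commute a Y) (hYb : Commute b Y) (hZa : Commute a Z) (hZb : Commute b Z) (hY : Y * Y = 0)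
    (h1 : Unip k M (a * Y)) (h1' : Unip k M (b * Y)) (h2 : Unip k M (a * Z)) :
    InM M (1 + (2 : k) • (a * (Y * Z + Z * Y))) := by
  have hconj : ∀ s : k, InM M (1 + a * ((1 + s • Y) * Z * (1 + s • Y))) := by
    intro s
    -- the torus element
    set U := 1 + s • (a * b * Y) - s • (b * a * Y) with hU
    set V := 1 - s • (a * b * Y) + s • (b * a * Y) with hV
    have cab : Commute (a * b) Y := hYa.mul_left hYb
    have cba : Commute (b * a) Y := hYb.mul_left hYa
    have z1 : ∀ x y : E, Commute x Y → Commute y Y → x * Y * (y * Y) = 0 := fun x y _ hy => by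
      rw [mul_assoc, ← mul_assoc Y, ← hy.eq, mul_assoc, hY, mul_zero, mul_zero]
    have hUV : U * V = 1 := by
      rw [hU, hV]
      simp only [add_mul, mul_add, sub_mul, mul_sub, one_mul, mul_one, smul_mul_smul_comm, z1 _ _ cab cab,
        z1 _ _ cab cba, z1 _ _ cba cab, z1 _ _ cba cba, smul_zero, sub_zero, add_zero]
      abel
    have hUmem : InM M U := by
      have e := ((((h1.mem 1).mul (hb.mem s)).mul (h1.mem (-1))).mul (hb.mem (-s))).mul (h1'.mem (-(s * s)))
      convert e using 1
      have aa : ∀ x : E, a * (a * x) = 0 := fun x => by rw [← mul_assoc, ha.sq, zero_mul]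
      have bb : ∀ x : E, b * (b * x) = 0 := fun x => by rw [← mul_assoc, hb.sq, zero_mul]
      have aba : ∀ x : E, a * (b * (a * x)) = a * x := fun x => by rw [← mul_assoc, ← mul_assoc, hab]
      have bab : ∀ x : E, b * (a * (b * x)) = b * x := fun x => by rw [← mul_assoc, ← mul_assoc, hba]
      have ya : ∀ x : E, Y * (a * x) = a * (Y * x) := fun x => by rw [← mul_assoc, ← hYa.eq, mul_assoc]
      have yb : ∀ x : E, Y * (b * x) = b * (Y * x) := fun x => by rw [← mul_assoc, ← hYb.eq, mul_assoc]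
      have yy : ∀ x : E, Y * (Y * x) = 0 := fun x => by rw [← mul_assoc, hY, zero_mul]
      have ab' : a * (b * a) = a := by rw [← mul_assoc]; exact hab
      have ba' : b * (a * b) = b := by rw [← mul_assoc]; exact hba
      simp only [hU, add_mul, mul_add, one_mul, mul_one, smul_mul_assoc, mul_smul_comm, smul_add, smul_smul,
        mul_assoc, aa, bb, aba, bab, ya, yb, yy, ab', ba', ← hYa.eq, ← hYb.eq, ha.sq, hb.sq, hY, mul_zero,
        zero_mul, smul_zero, add_zero, zero_add]
      module
    have hVmem : InM M V := by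
      obtain ⟨g, hg, hge⟩ := hUmem
      exact ⟨g⁻¹, inv_mem hg, left_inv_eq_right_inv (Units.inv_mul g) (hge ▸ hUV)⟩
    have h := (hUmem.mul (h2.mem 1)).mul hVmem
    rw [one_smul, mul_add U 1 (a * Z), mul_one, add_mul U (U * (a * Z)) V, hUV] at h
    convert h using 2
    have hUa : U * a = a * (1 + s • Y) := by
      rw [hU]
      simp only [add_mul, sub_mul, one_mul, mul_add, mul_one, smul_mul_assoc, mul_smul_comm, mul_assoc, ← hYa.eq]
      rw [show b * (a * (a * Y)) = 0 by rw [← mul_assoc a a Y, ha.sq, zero_mul, mul_zero],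
        show a * (b * (a * Y)) = a * Y by rw [← mul_assoc, ← mul_assoc, hab]]
      simp
    have haV : a * V = a * (1 + s • Y) := by
      rw [hV]
      simp only [mul_add, mul_sub, mul_one, mul_smul_comm, ← mul_assoc, hab, ha.sq, zero_mul, smul_zero, sub_zero]
    rw [← mul_assoc U, hUa, mul_assoc (a * (1 + s • Y)) Z V, mul_assoc a (1 + s • Y)]
    have hc : Commute a ((1 + s • Y) * Z) := ((Commute.one_right a).add_right (hYa.smul_right s)).mul_right hZa
    rw [← mul_assoc (1 + s • Y) Z V, ← mul_assoc a ((1 + s • Y) * Z) (1 + s • Y), ← mul_assoc a ((1 + s • Y) * Z) V,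
      hc.eq, mul_assoc _ a V, mul_assoc _ a (1 + s • Y), haV]
  have hp := hconj 1
  have hm := hconj (-1)
  set W := a * ((1 + (-1 : k) • Y) * Z * (1 + (-1 : k) • Y))
  set W' := a * ((1 + (1 : k) • Y) * Z * (1 + (1 : k) • Y))
  have cY : ∀ s : k, Commute a ((1 + s • Y) * Z * (1 + s • Y)) := fun s =>
    (((Commute.one_right a).add_right (hYa.smul_right s)).mul_right hZa).mul_right
      ((Commute.one_right a).add_right (hYa.smul_right s))
  have hW : ∀ s s' : k, a * ((1 + s • Y) * Z * (1 + s • Y)) * (a * ((1 + s' • Y) * Z * (1 + s' • Y))) = 0 :=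
    fun s s' => by rw [mul_assoc, ← mul_assoc _ a, ← (cY s).eq, mul_assoc, ← mul_assoc a a, ha.sq, zero_mul]
  have := hp.mul (hm.smul_one_sub (hW _ _))
  rw [mul_sub, mul_one, add_mul, one_mul, hW, add_zero] at this
  convert this using 1
  simp only [W', W, one_smul, neg_smul, add_mul, mul_add, one_mul, mul_one, neg_mul, mul_neg, neg_neg]
  module

end abstract

variable {F : Type*} [Field F] [Fintype F] {d t : ℕ}
variable (J₁ : GL (Fin d) F) {M : Subgroup (GL (Fin t → Fin d) F)}

/-- The self-adjoint nilpotent of an orthogonal pair. -/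
def nR (v w : Fin d → F) : Matrix (Fin d) (Fin d) F := rk J₁ v w - rk J₁ w v

/-- A factor of a pattern. -/
def Nil (A : Matrix (Fin d) (Fin d) F) : Prop :=
  (∃ u, u ≠ 0 ∧ A = aR J₁ u) ∨ ∃ v w, fo J₁ v w = 0 ∧ nR J₁ v w ≠ 0 ∧ A = nR J₁ v w

theorem aR_conj (hc : Ctx J₁ M) (c : F) (s u : Fin d → F) :
    (1 + c • aR J₁ s) * aR J₁ u * (1 - c • aR J₁ s) = aR J₁ (u + (c * fo J₁ s u) • s) := by
  simp only [aR, add_mul, one_mul, mul_sub, mul_one, smul_mul_assoc, mul_smul_comm, rk_mul, Matrix.smul_mul,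
    smul_smul, rk_add_left, rk_add_right, rk_smul_left, rk_smul_right, fo_skew J₁ hc.skew u s, sub_mul, smul_add]
  module

variable [NeZero d]

theorem Nil.pair (hc : Ctx J₁ M) {A : Matrix (Fin d) (Fin d) F} (hA : Nil J₁ A) :
    ∃ (c : F) (s u : Fin d → F) (e : F), e ≠ 0 ∧ u ≠ 0 ∧ Nil J₁ ((1 + c • aR J₁ s) * A * (1 - c • aR J₁ s)) ∧
      aR J₁ u * (A * ((1 + c • aR J₁ s) * A * (1 - c • aR J₁ s))) * aR J₁ u = e • aR J₁ u ∧
      aR J₁ u * ((1 + c • aR J₁ s) * A * (1 - c • aR J₁ s) * A) * aR J₁ u = -(e • aR J₁ u) := by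
  have hsk := fo_skew J₁ hc.skew
  rcases hA with ⟨w, hw, rfl⟩ | ⟨v, w, hvw, hne, rfl⟩
  · obtain ⟨w', hw'⟩ := exists_partner J₁ hw
    have hw'0 : w' ≠ 0 := fun e => by simp [e, fo] at hw'
    obtain ⟨u, hu1, hu2⟩ := exists_nonorth J₁ hsk hw hw'0
    have hu : u ≠ 0 := fun e => hu1 (by simp [e, fo])
    have hG : (1 + (-1 : F) • aR J₁ (w' - w)) * aR J₁ w * (1 - (-1 : F) • aR J₁ (w' - w)) = aR J₁ w' := by
      rw [aR_conj J₁ hc]
      congr 1
      have : fo J₁ (w' - w) w = -1 := by
        rw [hsk, show fo J₁ w (w' - w) = 1 by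
          rw [sub_eq_add_neg, ← neg_one_smul F w, fo_add_right, fo_smul_right, fo_self J₁ hc.skew hc.two, hw']; ring]
      rw [this]; simp
    refine ⟨-1, w' - w, u, fo J₁ u w * fo J₁ w' u, mul_ne_zero (by rw [hsk]; exact neg_ne_zero.2 hu1) hu2, hu,
      Or.inl ⟨w', hw'0, hG⟩, ?_, ?_⟩
    all_goals
      rw [hG]
      simp only [aR, rk_mul, hw', hsk w' w, Matrix.mul_smul, Matrix.smul_mul, smul_smul, one_smul, neg_smul,
        Matrix.mul_neg, Matrix.neg_mul, hsk w u, hsk u w', neg_mul, mul_neg, neg_neg]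
      try module
  · have hv : v ≠ 0 := fun e => hne (by
      simp [nR, e, rk, fw])
    have hw : w ≠ 0 := fun e => hne (by
      simp [nR, e, rk, fw])
    have hwv : fo J₁ w v = 0 := by rw [hsk, hvw, neg_zero]
    -- a vector orthogonal to `w` and not to `v`
    obtain ⟨s, hsv, hsw⟩ : ∃ s, fo J₁ s v = 1 ∧ fo J₁ s w = 0 := by
      obtain ⟨r, hr⟩ := exists_partner J₁ hw
      by_contra hcon
      push Not at hcon
      refine hne ?_
      have key : ∀ p, fo J₁ p w = 0 → fo J₁ p v = 0 := fun p hp => by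
        by_contra h
        exact hcon ((fo J₁ p v)⁻¹ • p) (by rw [fo_smul_left, inv_mul_cancel₀ h]) (by rw [fo_smul_left, hp, mul_zero])
      set c := fo J₁ r v / fo J₁ r w
      have hrw : fo J₁ r w ≠ 0 := by rw [hsk, hr]; exact neg_ne_zero.2 one_ne_zero
      have hz : ∀ p, fo J₁ p (v + (-c) • w) = 0 := fun p => by
        have h := key (p + (-(fo J₁ p w / fo J₁ r w)) • r) (by
          rw [fo_add_left, fo_smul_left]; field_simp; ring)
        rw [fo_add_left, fo_smul_left] at h
        rw [fo_add_right, fo_smul_right, ← h]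
        simp only [c]
        field_simp
      have hvc : v + (-c) • w = 0 := funext fun x => by
        obtain ⟨p, hp⟩ := exists_fw J₁ (Pi.single x 1)
        simpa [fo, hp] using hz p
      rw [neg_smul, ← sub_eq_add_neg, sub_eq_zero] at hvc
      rw [nR, hvc, rk_smul_left, rk_smul_right, sub_self]
    have hvs : fo J₁ v s = -1 := by rw [hsk, hsv]
    have hws : fo J₁ w s = 0 := by rw [hsk, hsw, neg_zero]
    have hss := fo_self J₁ hc.skew hc.two s
    have hG : (1 + (1 : F) • aR J₁ s) * nR J₁ v w * (1 - (1 : F) • aR J₁ s) = nR J₁ (v + s) w := by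
      simp only [nR, aR, add_mul, one_mul, mul_sub, sub_mul, mul_one, smul_mul_assoc, mul_smul_comm, rk_mul,
        Matrix.smul_mul, smul_smul, rk_add_left, rk_add_right, hsv, hsw, hvs, hws]
      module
    obtain ⟨u, hu⟩ := exists_partner J₁ hw
    have hu0 : u ≠ 0 := fun e => by simp [e, fo] at hu
    have huw : fo J₁ u w = -1 := by rw [hsk, hu]
    have hww := fo_self J₁ hc.skew hc.two w
    have hvv := fo_self J₁ hc.skew hc.two v
    refine ⟨1, s, u, -1, neg_ne_zero.2 one_ne_zero, hu0, Or.inr ⟨v + s, w, ?_, ?_, hG⟩, ?_, ?_⟩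
    · rw [fo_add_left, hvw, hsw, add_zero]
    · intro h
      have := congrArg (fun X => X *ᵥ s) h
      simp only [nR, Matrix.sub_mulVec, rk_mulVec, fo_add_left, hws, hvs, hss, zero_smul, add_zero, zero_sub,
        Matrix.zero_mulVec, neg_smul, one_smul, neg_neg] at this
      exact hw this
    all_goals
      rw [hG]
      simp only [nR, aR, sub_mul, mul_sub, add_mul, mul_add, rk_mul, rk_add_left, rk_add_right, Matrix.mul_smul,
        Matrix.smul_mul, smul_smul, fo_add_left, fo_add_right, hvw, hwv, hsv, hsw, hvs, hws, hww, hvv, hu, huw]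
      try module

/-- Coefficients giving group elements. -/
def Coef (i : Fin t) (u : Fin d → F) (M : Subgroup (GL (Fin t → Fin d) F))
    (Y : Matrix (Fin t → Fin d) (Fin t → Fin d) F) : Prop :=
  Cent i Y ∧ InM M (1 + slot i (aR J₁ u) * Y)

variable {i : Fin t} {u : Fin d → F}

theorem Coef.unip (hc : Ctx J₁ M) (hu : u ≠ 0) {Y : Matrix (Fin t → Fin d) (Fin t → Fin d) F}
    (h : Coef J₁ i u M Y) : Unip F M (slot i (aR J₁ u) * Y) := hc.scale_mem J₁ hu h.1 h.2

theorem Coef.smul (hc : Ctx J₁ M) (hu : u ≠ 0) {Y : Matrix (Fin t → Fin d) (Fin t → Fin d) F}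
    (h : Coef J₁ i u M Y) (c : F) : Coef J₁ i u M (c • Y) :=
  ⟨fun A => by rw [mul_smul_comm, smul_mul_assoc, h.1], by rw [mul_smul_comm]; exact (h.unip J₁ hc hu).mem c⟩

theorem Coef.add (hc : Ctx J₁ M) {Y Z : Matrix (Fin t → Fin d) (Fin t → Fin d) F} (h : Coef J₁ i u M Y)
    (h' : Coef J₁ i u M Z) : Coef J₁ i u M (Y + Z) := by
  refine ⟨fun A => by rw [mul_add, add_mul, h.1, h'.1], ?_⟩
  have := h.2.mul h'.2
  rwa [add_mul, one_mul, mul_add, mul_one, mul_assoc, ← mul_assoc Y, ← h.1, mul_assoc, ← mul_assoc,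
    (hc.root i u).sq, zero_mul, add_zero, add_assoc, add_comm (slot i _ * Z), ← mul_add] at this

theorem cent_mul {Y Z : Matrix (Fin t → Fin d) (Fin t → Fin d) F} (hY : Cent i Y) (hZ : Cent i Z) :
    Cent i (Y * Z) := fun A => by rw [← mul_assoc, hY, mul_assoc, hZ, ← mul_assoc]

theorem Coef.conj (hc : Ctx J₁ M) {j : Fin t} (hj : j ≠ i) {Y : Matrix (Fin t → Fin d) (Fin t → Fin d) F}
    (h : Coef J₁ i u M Y) {b : Matrix (Fin d) (Fin d) F} (hb : Unip F M (slot j b)) (c : F) :
    Coef J₁ i u M ((1 + c • slot j b) * Y * (1 - c • slot j b)) := by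
  have hcs : ∀ c : F, Cent i (1 + c • slot j b) := fun c A => by
    rw [mul_add, add_mul, mul_one, one_mul, mul_smul_comm, smul_mul_assoc, slot_commute (Ne.symm hj)]
  have h1 : Cent i (1 - c • slot j b) := by rw [sub_eq_add_neg, ← neg_smul]; exact hcs _
  refine ⟨cent_mul (cent_mul (hcs c) h.1) h1, ?_⟩
  have := ((hb.mem c).mul h.2).mul (hb.mem (-c))
  rw [neg_smul, ← sub_eq_add_neg, mul_add, mul_one, add_mul] at this
  rw [show (1 + c • slot j b) * (1 - c • slot j b) = 1 by
    simp [add_mul, mul_sub, smul_mul_smul_comm, hb.sq]] at this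
  rwa [show (1 + c • slot j b) * (slot i (aR J₁ u) * Y) * (1 - c • slot j b) =
      slot i (aR J₁ u) * ((1 + c • slot j b) * Y * (1 - c • slot j b)) by
    rw [← mul_assoc (1 + c • slot j b), ← hcs c]; simp only [mul_assoc]] at this

theorem Coef.sandwich (hc : Ctx J₁ M) (hu : u ≠ 0) {j : Fin t} (hj : j ≠ i)
    {Y : Matrix (Fin t → Fin d) (Fin t → Fin d) F} (h : Coef J₁ i u M Y) {b : Matrix (Fin d) (Fin d) F}
    (hb : Unip F M (slot j b)) : Coef J₁ i u M (slot j b * Y * slot j b) := by
  have h1 := ((h.conj J₁ hc hj hb 1).add J₁ hc (h.conj J₁ hc hj hb (-1))).add J₁ hc (h.smul J₁ hc hu (-2))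
  have h2 := h1.smul J₁ hc hu (-(2 : F)⁻¹)
  convert h2 using 1
  simp only [one_smul, neg_smul, sub_neg_eq_add, add_mul, mul_add, mul_sub, one_mul, mul_one, mul_neg, neg_mul]
  have e : (2 : F)⁻¹ * 2 = 1 := inv_mul_cancel₀ hc.two
  linear_combination (norm := module)
    (-1 : F) • congrArg (fun x : F => x • (slot j b * Y * slot j b)) e

theorem Coef.jordan (hc : Ctx J₁ M) (hu : u ≠ 0) {Y Z : Matrix (Fin t → Fin d) (Fin t → Fin d) F}
    (hY : Coef J₁ i u M Y) (hY2 : Y * Y = 0) (hZ : Coef J₁ i u M Z) : Coef J₁ i u M (Y * Z + Z * Y) := by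
  obtain ⟨v, hv⟩ := exists_partner J₁ hu
  have hv' : fo J₁ v u = -1 := by rw [fo_skew J₁ hc.skew, hv]
  set a := slot (s := t) i (aR J₁ u) with ha
  set b := -slot (s := t) i (aR J₁ v) with hb
  have hbU : Unip F M b := ⟨by rw [hb, neg_mul_neg, (hc.root i v).sq], fun x => by
    rw [hb, smul_neg, ← neg_smul]; exact (hc.root i v).mem (-x)⟩
  have hab : a * b * a = a := by
    rw [ha, hb, ← slot_neg, ← slot_mul, ← slot_mul]
    congr 1
    rw [aR, aR, mul_neg, neg_mul, rk_mul, Matrix.smul_mul, rk_mul, smul_smul, hv, hv']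
    simp
  have hba : b * a * b = b := by
    rw [ha, hb, ← slot_neg, ← slot_mul, ← slot_mul]
    congr 1
    rw [aR, aR, neg_mul, neg_mul, mul_neg, neg_neg, rk_mul, Matrix.smul_mul, rk_mul, smul_smul, hv, hv']
    simp
  have hbY : Unip F M (b * Y) := by
    have hd : fo J₁ (v - u) u = -1 := by
      rw [sub_eq_add_neg, ← neg_one_smul F u, fo_add_left, fo_smul_left, fo_self J₁ hc.skew hc.two, hv']; ring
    have hav : aR J₁ v = (1 + (-1 : F) • aR J₁ (v - u)) * aR J₁ u * (1 - (-1 : F) • aR J₁ (v - u)) := by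
      rw [aR_conj J₁ hc, hd]
      congr 1
      simp
    set x := slot (s := t) i (aR J₁ (v - u))
    have hinv : (1 + (-1 : F) • x) * (1 - (-1 : F) • x) = 1 := by
      simp [add_mul, mul_add, sub_mul, x, (hc.root i (v - u)).sq]
    have hslot : slot i (aR J₁ v) = (1 + (-1 : F) • x) * a * (1 - (-1 : F) • x) := by
      rw [hav]
      simp [slot_mul, slot_add, slot_one, slot_smul, slot_neg, x, a, sub_eq_add_neg]
    have hcY : ∀ c : F, Commute (1 + c • x) Y := fun c =>
      (Commute.one_left Y).add_left ((show Commute x Y from hY.1 _).smul_left c)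
    refine ⟨by rw [mul_assoc, ← mul_assoc Y, ← (show Commute b Y from (show Commute _ Y from hY.1 _).neg_left).eq,
      mul_assoc, ← mul_assoc, hbU.sq, zero_mul], fun c => ?_⟩
    have h := (((hc.root i (v - u)).mem (-1)).mul ((hY.unip J₁ hc hu).mem (-c))).mul ((hc.root i (v - u)).mem 1)
    rw [show 1 + (1 : F) • slot i (aR J₁ (v - u)) = 1 - (-1 : F) • x by simp [x], mul_add, mul_one, add_mul, hinv] at h
    rw [hb, hslot, neg_mul, smul_neg, ← neg_smul]
    convert h using 2
    rw [mul_smul_comm, smul_mul_assoc]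
    congr 1
    rw [← mul_assoc, mul_assoc _ (1 - (-1 : F) • x) Y, sub_eq_add_neg, ← neg_smul, (hcY _).eq, ← mul_assoc]
  have h := jordan_mem (hc.root i u) hbU hab hba (hY.1 _) (show Commute b Y from (show Commute _ Y from hY.1 _).neg_left)
    (hZ.1 _) (show Commute b Z from (show Commute _ Z from hZ.1 _).neg_left) hY2 (hY.unip J₁ hc hu) hbY
    (hZ.unip J₁ hc hu)
  have hcent : Cent i (Y * Z + Z * Y) := fun A => by
    rw [mul_add, add_mul, cent_mul hY.1 hZ.1, cent_mul hZ.1 hY.1]
  have h' : Coef J₁ i u M ((2 : F) • (Y * Z + Z * Y)) :=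
    ⟨fun A => by rw [mul_smul_comm, smul_mul_assoc, hcent], by rwa [mul_smul_comm]⟩
  have := h'.smul J₁ hc hu (2 : F)⁻¹
  rwa [inv_smul_smul₀ hc.two] at this

/-- A coefficient which is a product of factors. -/
structure Pat (i : Fin t) (u : Fin d → F) (M : Subgroup (GL (Fin t → Fin d) F)) (S : Finset (Fin t))
    (A : Fin t → Matrix (Fin d) (Fin d) F) : Prop where
  nil : ∀ j ∈ S, Nil J₁ (A j)
  one : ∀ j ∉ S, A j = 1
  notMem : i ∉ S
  coef : Coef J₁ i u M (pure' A)

theorem pure'_update_mul (j : Fin t) (X : Matrix (Fin d) (Fin d) F) (A : Fin t → Matrix (Fin d) (Fin d) F)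
    (Y : Matrix (Fin d) (Fin d) F) :
    slot j X * pure' A * slot j Y = pure' (Function.update A j (X * A j * Y)) := by
  rw [slot_eq_pure, slot_eq_pure, pure'_mul, pure'_mul]
  congr 1
  funext l
  rcases eq_or_ne l j with rfl | hl <;> simp [*]

theorem slot_one_add (j : Fin t) (c : F) (b : Matrix (Fin d) (Fin d) F) :
    slot j (1 + c • b) = 1 + c • slot j b := by rw [slot_add, slot_one, slot_smul]

theorem slot_one_sub (j : Fin t) (c : F) (b : Matrix (Fin d) (Fin d) F) :
    slot j (1 - c • b) = 1 - c • slot j b := by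
  rw [sub_eq_add_neg, sub_eq_add_neg, ← neg_smul, ← neg_smul, slot_one_add]

theorem Pat.unip_sq {S : Finset (Fin t)} {A : Fin t → Matrix (Fin d) (Fin d) F} (hc : Ctx J₁ M)
    (h : Pat J₁ i u M S A) (hS : S.Nonempty) : pure' A * pure' A = 0 := by
  obtain ⟨j, hj⟩ := hS
  rw [pure'_mul]
  ext x y
  refine Finset.prod_eq_zero (Finset.mem_univ j) ?_
  have : A j * A j = 0 := by
    rcases h.nil j hj with ⟨w, -, e⟩ | ⟨v, w, hvw, -, e⟩
    · rw [e, aR_sq J₁ hc.skew hc.two]
    · rw [e, nR]
      simp [sub_mul, mul_sub, rk_mul, hvw, fo_skew J₁ hc.skew w v, fo_self J₁ hc.skew hc.two]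
  show (A j * A j) (x j) (y j) = 0
  rw [this]; rfl

/-- Conjugating each factor of a coefficient. -/
theorem Pat.conj_all (hc : Ctx J₁ M) {A : Fin t → Matrix (Fin d) (Fin d) F}
    (h : Coef J₁ i u M (pure' A)) (S : Finset (Fin t)) (hS : i ∉ S) (c : Fin t → F) (s : Fin t → Fin d → F) :
    Coef J₁ i u M (pure' fun j => if j ∈ S then (1 + c j • aR J₁ (s j)) * A j * (1 - c j • aR J₁ (s j)) else A j) := by
  induction S using Finset.induction_on with
  | empty => simpa using h
  | insert j S hj ih =>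
    have hji : j ≠ i := fun e => hS (e ▸ Finset.mem_insert_self _ _)
    have h' := (ih fun e => hS (Finset.mem_insert_of_mem e)).conj J₁ hc hji (hc.root j (s j)) (c j)
    rw [← slot_one_add, ← slot_one_sub, pure'_update_mul] at h'
    convert h' using 2
    congr 1
    funext l
    rcases eq_or_ne l j with rfl | hl
    · simp [hj]
    · simp [hl]

/-- Two coefficients which differ by moving some factors: their Jordan product, with the common factors
turned into root elements. -/
theorem Pat.merge (hc : Ctx J₁ M) (hu : u ≠ 0) (ht : 0 < t) {S O T : Finset (Fin t)}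
    {A B : Fin t → Matrix (Fin d) (Fin d) F} (hA : Pat J₁ i u M S A) (hB : Pat J₁ i u M T B)
    (hO : Even O.card) (hO' : O = S ∩ T) (hne : S.Nonempty) (hsame : ∀ j ∈ O, B j = A j) :
    ∃ C, Pat J₁ i u M (S ∪ T) C ∧ ∀ j ∈ O, ∃ w, w ≠ 0 ∧ C j = aR J₁ w := by
  classical
  have hex : ∀ j, ∃ (c : F) (s w : Fin d → F) (e : F), j ∈ O → e ≠ 0 ∧ w ≠ 0 ∧
      Nil J₁ ((1 + c • aR J₁ s) * A j * (1 - c • aR J₁ s)) ∧
      aR J₁ w * (A j * ((1 + c • aR J₁ s) * A j * (1 - c • aR J₁ s))) * aR J₁ w = e • aR J₁ w ∧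
      aR J₁ w * ((1 + c • aR J₁ s) * A j * (1 - c • aR J₁ s) * A j) * aR J₁ w = -(e • aR J₁ w) := fun j => by
    by_cases hj : j ∈ O
    · have := (hA.nil j (Finset.mem_inter.1 (hO' ▸ hj)).1).pair J₁ hc
      obtain ⟨c, s, w, e, h⟩ := this
      exact ⟨c, s, w, e, fun _ => h⟩
    · exact ⟨0, 0, 0, 0, fun h => absurd h hj⟩
  choose c s w e hpair using hex
  have hiO : i ∉ O := fun h => hA.notMem (Finset.mem_inter.1 (hO' ▸ h)).1
  set B' := fun j => if j ∈ O then (1 + c j • aR J₁ (s j)) * A j * (1 - c j • aR J₁ (s j)) else B j with hB'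
  have hB'c : Coef J₁ i u M (pure' B') := by
    have := Pat.conj_all J₁ hc hB.coef O hiO c s
    convert this using 3 with j
    by_cases hj : j ∈ O
    · simp [hB', hj, hsame j hj]
    · simp [hB', hj]
  have hj0 := hA.coef.jordan J₁ hc hu (hA.unip_sq J₁ hc hne) hB'c
  rw [pure'_mul, pure'_mul] at hj0
  -- sandwich over the common factors
  have key : ∀ R : Finset (Fin t), R ⊆ O → Coef J₁ i u M
      (pure' (fun j => if j ∈ R then aR J₁ (w j) * (A j * B' j) * aR J₁ (w j) else A j * B' j) +
        pure' (fun j => if j ∈ R then aR J₁ (w j) * (B' j * A j) * aR J₁ (w j) else B' j * A j)) := by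
    intro R hR
    induction R using Finset.induction_on with
    | empty => simpa using hj0
    | insert j R hj ih =>
      have hji : j ≠ i := fun h => hiO (h ▸ hR (Finset.mem_insert_self _ _))
      have h' := (ih fun x hx => hR (Finset.mem_insert_of_mem hx)).sandwich J₁ hc hu hji (hc.root j (w j))
      rw [mul_add, add_mul, pure'_update_mul, pure'_update_mul] at h'
      convert h' using 3
      all_goals (congr 1; funext l; rcases eq_or_ne l j with rfl | hl <;> simp [*])
  have hfin := key O subset_rfl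
  set C := fun j => if j ∈ O then aR J₁ (w j) else A j * B j with hC
  set E := fun j => if j ∈ O then e j else 1 with hE
  have hoff : ∀ j ∉ O, A j = 1 ∨ B j = 1 := fun j hj => by
    by_cases hjS : j ∈ S
    · exact Or.inr (hB.one j fun hjT => hj (hO' ▸ Finset.mem_inter.2 ⟨hjS, hjT⟩))
    · exact Or.inl (hA.one j hjS)
  have e1 : pure' (fun j => if j ∈ O then aR J₁ (w j) * (A j * B' j) * aR J₁ (w j) else A j * B' j) =
      (∏ j, E j) • pure' C := by
    rw [← pure'_smul]
    congr 1
    funext j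
    by_cases hj : j ∈ O
    · simp only [hj, if_true, hC, hE, hB']; exact (hpair j hj).2.2.2.1
    · simp [hC, hE, hB', hj]
  have e2 : pure' (fun j => if j ∈ O then aR J₁ (w j) * (B' j * A j) * aR J₁ (w j) else B' j * A j) =
      (∏ j, if j ∈ O then -E j else E j) • pure' C := by
    rw [← pure'_smul]
    congr 1
    funext j
    by_cases hj : j ∈ O
    · simp only [hj, if_true, hC, hE, hB', neg_smul]; exact (hpair j hj).2.2.2.2
    · rcases hoff j hj with h | h <;> simp [hC, hE, hB', hj, h]
  have e3 : (∏ j, if j ∈ O then -E j else E j) = ∏ j, E j := by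
    rw [← Finset.prod_filter_mul_prod_filter_not Finset.univ (· ∈ O),
      ← Finset.prod_filter_mul_prod_filter_not Finset.univ (· ∈ O) (f := E)]
    congr 1
    · rw [Finset.prod_congr rfl fun j hj => if_pos (Finset.mem_filter.1 hj).2, Finset.prod_neg,
        show Finset.univ.filter (· ∈ O) = O by ext; simp, hO.neg_one_pow, one_mul]
    · exact Finset.prod_congr rfl fun j hj => if_neg (Finset.mem_filter.1 hj).2
  rw [e1, e2, e3, ← add_smul, ← two_mul] at hfin
  have hne' : (2 : F) * ∏ j, E j ≠ 0 := mul_ne_zero hc.two (Finset.prod_ne_zero_iff.2 fun j _ => by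
    by_cases hj : j ∈ O
    · simp [hE, hj, (hpair j hj).1]
    · simp [hE, hj])
  refine ⟨C, ⟨fun j hj => ?_, fun j hj => ?_, fun h => ?_, ?_⟩, fun j hj => ⟨w j, (hpair j hj).2.1, by simp [hC, hj]⟩⟩
  · by_cases hjO : j ∈ O
    · exact Or.inl ⟨w j, (hpair j hjO).2.1, by simp [hC, hjO]⟩
    rcases Finset.mem_union.1 hj with h | h
    · simp only [hC, hjO, if_false, hB.one j fun h' => hjO (hO' ▸ Finset.mem_inter.2 ⟨h, h'⟩), mul_one]
      exact hA.nil j h
    · simp only [hC, hjO, if_false, hA.one j fun h' => hjO (hO' ▸ Finset.mem_inter.2 ⟨h', h⟩), one_mul]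
      exact hB.nil j h
  · rw [Finset.mem_union, not_or] at hj
    have hjO : j ∉ O := fun h => hj.1 (Finset.mem_inter.1 (hO' ▸ h)).1
    simp [hC, hjO, hA.one j hj.1, hB.one j hj.2]
  · rcases Finset.mem_union.1 h with h | h
    · exact hA.notMem h
    · exact hB.notMem h
  · have := hfin.smul J₁ hc hu ((2 : F) * ∏ j, E j)⁻¹
    rwa [inv_smul_smul₀ hne'] at this

theorem permGL_conj_pure (σ : Equiv.Perm (Fin t)) (A : Fin t → Matrix (Fin d) (Fin d) F) :
    cj (permGL σ) (pure' A) = pure' (fun j => A (σ.symm j)) := by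
  classical
  ext x y
  rw [cj_apply, Matrix.mul_apply, Finset.sum_eq_single (y ∘ σ), Matrix.mul_apply, Finset.sum_eq_single (x ∘ σ)]
  · show (if x ∘ σ = x ∘ σ then (1 : F) else 0) * pure' A (x ∘ σ) (y ∘ σ) * (if y = (y ∘ σ) ∘ σ.symm then 1 else 0) = _
    rw [if_pos rfl, if_pos (by simp [Function.comp_assoc]), one_mul, mul_one]
    simp only [pure', Matrix.of_apply, Function.comp_apply]
    rw [← Equiv.prod_comp σ fun j => A (σ.symm j) (x j) (y j)]
    simp
  · intro b _ hb
    show (if b = x ∘ σ then (1 : F) else 0) * _ = 0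
    rw [if_neg hb, zero_mul]
  · simp
  · intro b _ hb
    show _ * (if y = b ∘ σ.symm then (1 : F) else 0) = 0
    rw [if_neg (fun e => hb (by rw [e]; simp [Function.comp_assoc])), mul_zero]
  · simp

theorem Pat.perm {S : Finset (Fin t)} {A : Fin t → Matrix (Fin d) (Fin d) F} (h : Pat J₁ i u M S A)
    {σ : Equiv.Perm (Fin t)} (hσ : permGL σ ∈ M) (hσi : σ i = i) :
    Pat J₁ i u M (S.map σ.toEmbedding) fun j => A (σ.symm j) := by
  refine ⟨fun j hj => h.nil _ ?_, fun j hj => h.one _ ?_, ?_, ?_⟩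
  · simpa [Finset.mem_map_equiv] using hj
  · simpa [Finset.mem_map_equiv] using hj
  · rw [Finset.mem_map_equiv, ← hσi, Equiv.symm_apply_apply]; exact h.notMem
  · refine ⟨fun X => ?_, ?_⟩
    · have := congrArg (cj (permGL σ)) (h.coef.1 X)
      rw [map_mul, map_mul, permGL_conj_slot, permGL_conj_pure, hσi] at this
      exact this
    · obtain ⟨g, hg, hge⟩ := h.coef.2
      refine ⟨permGL σ * g * (permGL σ)⁻¹, mul_mem (mul_mem hσ hg) (inv_mem hσ), ?_⟩
      rw [Units.val_mul, Units.val_mul, hge, ← cj_apply, map_add, map_one, map_mul, permGL_conj_slot,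
        permGL_conj_pure, hσi]

/-- Reduction to a coefficient which is a product of factors. -/
theorem exists_pat (hc : Ctx J₁ M) (hu : u ≠ 0) {Y : Matrix (Fin t → Fin d) (Fin t → Fin d) F}
    (hY : Coef J₁ i u M Y) (hn : ∀ c : F, Y ≠ c • 1) : ∃ S A, S.Nonempty ∧ Pat J₁ i u M S A := by
  classical
  have key : ∀ R : Finset (Fin t), ∃ (S : Finset (Fin t)) (A : Fin t → Matrix (Fin d) (Fin d) F)
      (Y' : Matrix (Fin t → Fin d) (Fin t → Fin d) F), S ⊆ R ∧ (∀ j ∈ S, Nil J₁ (A j)) ∧ (∀ j ∉ S, A j = 1) ∧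
      i ∉ S ∧ Coef J₁ i u M (pure' A * Y') ∧ Cent i Y' ∧ (∀ j ∈ R, Cent j Y') ∧ Y' ≠ 0 ∧
      (S = ∅ → ∀ c : F, Y' ≠ c • 1) := by
    intro R
    induction R using Finset.induction_on with
    | empty =>
      exact ⟨∅, fun _ => 1, Y, subset_rfl, by simp, fun _ _ => rfl, by simp, by rwa [pure'_one, one_mul], hY.1,
        by simp, fun e => hn 0 (by rw [e, zero_smul]), fun _ => hn⟩
    | insert j R hjR ih =>
      obtain ⟨S, A, Y', hSR, hnil, hone, hiS, hco, hci, hcR, hY0, hemp⟩ := ih
      by_cases hcj : Cent j Y'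
      · refine ⟨S, A, Y', hSR.trans (Finset.subset_insert _ _), hnil, hone, hiS, hco, hci, ?_, hY0, hemp⟩
        intro l hl
        rcases Finset.mem_insert.1 hl with rfl | hl
        exacts [hcj, hcR l hl]
      have hji : j ≠ i := fun e => hcj (e ▸ hci)
      have hjS : j ∉ S := fun h => hjR (hSR h)
      have hsk := fo_skew J₁ hc.skew
      -- a square-zero sandwich
      obtain ⟨b, hbU, N, hN, B, hB, hB0, hbY⟩ : ∃ b, Unip F M (slot j b) ∧ ∃ N, Nil J₁ N ∧ ∃ B, Cent j B ∧ B ≠ 0 ∧
          slot j b * Y' * slot j b = slot j N * B ∧ True := by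
        by_cases hdiag : ∀ w, bop J₁ j w w Y' = 0
        swap
        · push Not at hdiag
          obtain ⟨w, hw⟩ := hdiag
          have hw0 : w ≠ 0 := fun e => hw (by
            rw [e, ← zero_smul F (0 : Fin d → F), bop_smul_left, zero_smul])
          exact ⟨aR J₁ w, hc.root j w, aR J₁ w, Or.inl ⟨w, hw0, rfl⟩, _, cent_bop J₁ j w w Y', hw,
            sandwich J₁ j w w w w Y', trivial⟩
        have hanti : ∀ p q, bop J₁ j p q Y' + bop J₁ j q p Y' = 0 := fun p q => by
          have h := hdiag (p + q)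
          rw [bop_add_left, bop_add_right, bop_add_right, hdiag, hdiag, zero_add, add_zero] at h
          exact h
        obtain ⟨v, w, hvw, hB⟩ : ∃ v w, fo J₁ v w = 0 ∧ bop J₁ j v w Y' ≠ 0 := by
          by_contra hcon
          push Not at hcon
          refine hcj ?_
          have hval : ∀ p r q, fo J₁ p r = 1 → bop J₁ j p q Y' = fo J₁ p q • bop J₁ j p r Y' := fun p r q hr => by
            have h := hcon p (q + (-fo J₁ p q) • r) (by rw [fo_add_right, fo_smul_right, hr]; ring)
            rw [bop_add_right, bop_smul_right, neg_smul, add_neg_eq_zero] at h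
            exact h
          have step : ∀ p r q r', fo J₁ p r = 1 → fo J₁ q r' = 1 → fo J₁ p q ≠ 0 →
              bop J₁ j p r Y' = bop J₁ j q r' Y' := fun p r q r' hr hr' hpq => by
            have h := hanti p q
            rw [hval p r q hr, hval q r' p hr', hsk q p, neg_smul, ← sub_eq_add_neg, ← smul_sub] at h
            exact sub_eq_zero.1 ((smul_eq_zero.1 h).resolve_left hpq)
          set v₀ : Fin d → F := Pi.single 0 1
          have hv₀ : v₀ ≠ 0 := fun h => one_ne_zero (α := F) (by simpa [v₀] using congrFun h 0)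
          obtain ⟨r₀, hr₀⟩ := exists_partner J₁ hv₀
          set X := bop J₁ j v₀ r₀ Y'
          have hall : ∀ p q, bop J₁ j p q Y' = fo J₁ p q • X := fun p q => by
            rcases eq_or_ne p 0 with rfl | hp
            · rw [← zero_smul F (0 : Fin d → F), bop_smul_left, fo_smul_left, zero_mul, zero_smul, zero_smul]
            obtain ⟨s, hs1, hs2⟩ := exists_nonorth J₁ hsk hp hv₀
            have hs0 : s ≠ 0 := fun e => hs1 (by simp [e, fo])
            obtain ⟨r, hr⟩ := exists_partner J₁ hp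
            obtain ⟨r', hr'⟩ := exists_partner J₁ hs0
            rw [hval p r q hr, step p r s r' hr hr' hs1, ← step v₀ r₀ s r' hr₀ hr' hs2]
          choose v hv using fun c : Fin d => exists_fw J₁ (Pi.single c 1)
          have : Y' = X := sub_eq_zero.1 (eq_zero_of_bop J₁ j hv fun c e => by
            rw [sub_eq_add_neg, ← neg_one_smul F X, bop_add, bop_smul, bop_of_cent J₁ j _ _ (cent_bop J₁ j v₀ r₀ Y'),
              hall]
            module)
          rw [this]
          exact cent_bop J₁ j v₀ r₀ Y'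
        have hwv : fo J₁ w v = 0 := by rw [hsk, hvw, neg_zero]
        refine ⟨aR J₁ v + aR J₁ w, ⟨?_, fun c => ?_⟩, nR J₁ v w, Or.inr ⟨v, w, hvw, ?_, rfl⟩, _,
          cent_bop J₁ j v w Y', hB, ?_, trivial⟩
        · rw [← slot_mul]
          simp [aR, add_mul, mul_add, rk_mul, hvw, hwv, fo_self J₁ hc.skew hc.two, slot_zero]
        · have := ((hc.root j v).mem c).mul ((hc.root j w).mem c)
          rw [add_mul, one_mul, mul_add, mul_one, smul_mul_smul_comm, ← slot_mul] at this
          simp only [aR, rk_mul, hvw, zero_smul, slot_zero, smul_zero, add_zero] at this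
          rwa [slot_add, smul_add, ← add_assoc, add_right_comm]
        · intro h
          refine hB ?_
          have hbop := bop_slot_mul J₁ j (nR J₁ v w) (X := (1 : Matrix (Fin t → Fin d) (Fin t → Fin d) F))
          have : v = 0 ∨ w = 0 ∨ ∃ c : F, v = c • w := by
            rcases eq_or_ne w 0 with hw | hw
            · exact Or.inr (Or.inl hw)
            obtain ⟨r, hr⟩ := exists_partner J₁ hw
            have h1 := congrArg (· *ᵥ r) h
            simp only [nR, Matrix.sub_mulVec, rk_mulVec, Matrix.zero_mulVec, hr, one_smul, sub_eq_zero] at h1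
            exact Or.inr (Or.inr ⟨fo J₁ v r, h1⟩)
          rcases this with e | e | ⟨c, e⟩
          · rw [e, ← zero_smul F (0 : Fin d → F), bop_smul_left, zero_smul]
          · rw [e, ← zero_smul F (0 : Fin d → F), bop_smul_right, zero_smul]
          · rw [e, bop_smul_left, hdiag, smul_zero]
        · simp only [slot_add, add_mul, mul_add, aR, sandwich, hdiag, mul_zero, zero_add, add_zero]
          rw [nR, sub_eq_add_neg, slot_add, slot_neg, add_mul, neg_mul, ← mul_neg,
            show -bop J₁ j v w Y' = bop J₁ j w v Y' from neg_eq_of_add_eq_zero_right (hanti v w)]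
          abel
      refine ⟨insert j S, Function.update A j N, B, Finset.insert_subset_insert _ hSR, fun l hl => ?_, fun l hl => ?_,
        ?_, ?_, ?_, ?_, hB0, fun h => absurd h (Finset.insert_ne_empty _ _)⟩
      · rcases eq_or_ne l j with rfl | hl'
        · simpa using hN
        · simpa [hl'] using hnil l ((Finset.mem_insert.1 hl).resolve_left hl')
      · rw [Finset.mem_insert, not_or] at hl
        simpa [hl.1] using hone l hl.2
      · simp [Finset.mem_insert, Ne.symm hji, hiS]
      · have h' := hco.sandwich J₁ hc hu hji hbU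
        have hcA : slot j b * pure' A = pure' A * slot j b := by
          rw [slot_eq_pure, pure'_mul, pure'_mul]
          congr 1
          funext l
          rcases eq_or_ne l j with rfl | hl <;> simp [*, hone _ hjS]
        rw [← mul_assoc, hcA, mul_assoc (pure' A), mul_assoc (pure' A), hbY.1, ← mul_assoc] at h'
        rw [show pure' (Function.update A j N) = pure' A * slot j N by
          rw [slot_eq_pure, pure'_mul]
          congr 1
          funext l
          rcases eq_or_ne l j with rfl | hl <;> simp [*, hone _ hjS]]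
        exact h'
      all_goals
        try intro l hl
      · -- slot `i`
        intro X
        refine sub_eq_zero.1 (eq_zero_of_slot_mul J₁ j (A := N) ?_ (X := _ - _) ?_ ?_)
        · rcases hN with ⟨w, hw, rfl⟩ | ⟨v, w, -, hne, rfl⟩
          exacts [rk_ne_zero J₁ hw hw, hne]
        · intro Z
          rw [mul_sub, sub_mul, cent_mul (cent_slot hji X) hB, cent_mul hB (cent_slot hji X)]
        · have hcY : Cent i (slot j b * Y' * slot j b) :=
            cent_mul (cent_mul (cent_slot (Ne.symm hji) b) hci) (cent_slot (Ne.symm hji) b)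
          rw [hbY.1] at hcY
          rw [mul_sub, ← mul_assoc, slot_commute hji, mul_assoc, hcY, mul_assoc, sub_self]
      · rcases Finset.mem_insert.1 hl with rfl | hl'
        · exact hB
        have hlj : l ≠ j := fun e => hjR (e ▸ hl')
        intro X
        refine sub_eq_zero.1 (eq_zero_of_slot_mul J₁ j (A := N) ?_ (X := _ - _) ?_ ?_)
        · rcases hN with ⟨w, hw, rfl⟩ | ⟨v, w, -, hne, rfl⟩
          exacts [rk_ne_zero J₁ hw hw, hne]
        · intro Z
          rw [mul_sub, sub_mul, cent_mul (cent_slot (Ne.symm hlj) X) hB, cent_mul hB (cent_slot (Ne.symm hlj) X)]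
        · have hcY : Cent l (slot j b * Y' * slot j b) :=
            cent_mul (cent_mul (cent_slot hlj b) (hcR l hl')) (cent_slot hlj b)
          rw [hbY.1] at hcY
          rw [mul_sub, ← mul_assoc, slot_commute (Ne.symm hlj), mul_assoc, hcY, mul_assoc, sub_self]
  obtain ⟨S, A, Y', -, hnil, hone, hiS, hco, -, hcent, hY0, hemp⟩ := key Finset.univ
  obtain ⟨c, rfl⟩ := scalar_of_commutes_slots Y' fun j X => hcent j (Finset.mem_univ j) X
  have hc0 : c ≠ 0 := fun e => hY0 (by rw [e, zero_smul])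
  refine ⟨S, A, Finset.nonempty_iff_ne_empty.2 fun e => hemp e c rfl, hnil, hone, hiS, ?_⟩
  rw [mul_smul_comm, mul_one] at hco
  have := hco.smul J₁ hc hu c⁻¹
  rwa [inv_smul_smul₀ hc0] at this

/-- The spreading: a tensor product of root elements in all slots. -/
theorem NonRoot.spread (hc : Ctx J₁ M) (ht : Odd t) (hperm : ∀ x y : Fin t, permGL (Equiv.swap x y) ∈ M)
    (h : NonRoot J₁ M) : ∃ w : Fin t → Fin d → F, (∀ j, w j ≠ 0) ∧ Unip F M (pure' fun j => aR J₁ (w j)) := by
  classical
  obtain ⟨i, u, hu, Y, hYc, -, hYn, hYu⟩ := h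
  obtain ⟨S₀, A₀, hne, hP⟩ := exists_pat J₁ hc hu (Y := Y) ⟨hYc, by simpa using hYu.mem 1⟩ hYn
  have htpos : 0 < t := ht.pos
  have hpair : ∀ (S : Finset (Fin t)) A, S.Nonempty → Pat J₁ i u M S A →
      ∀ x ∈ S, ∀ y, y ∉ S → y ≠ i → Even (S.erase x).card →
      ∃ C, Pat J₁ i u M (insert y S) C := by
    intro S A hS hA x hx y hy hyi hev
    have hxi : x ≠ i := fun e => hA.notMem (e ▸ hx)
    have hB := hA.perm J₁ (hperm x y) (Equiv.swap_apply_of_ne_of_ne (Ne.symm hxi) (Ne.symm hyi))
    have hmap : S.map (Equiv.swap x y).toEmbedding = insert y (S.erase x) := by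
      ext j
      rw [Finset.mem_map_equiv, Equiv.symm_swap, Finset.mem_insert, Finset.mem_erase]
      rcases eq_or_ne j x with rfl | hjx
      · have hxy : j ≠ y := fun e => hy (by rw [← e]; exact hx)
        simp [hy, hxy]
      rcases eq_or_ne j y with rfl | hjy
      · simp [hx]
      · simp [Equiv.swap_apply_of_ne_of_ne hjx hjy, hjx, hjy]
    rw [hmap] at hB
    have hO : S.erase x = S ∩ insert y (S.erase x) := by
      ext j; simp only [Finset.mem_erase, Finset.mem_inter, Finset.mem_insert]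
      constructor
      · exact fun h => ⟨h.2, Or.inr h⟩
      · rintro ⟨h, rfl | h'⟩
        exacts [absurd h hy, h']
    obtain ⟨C, hC, -⟩ := hA.merge J₁ hc hu htpos hB hev hO hS fun j hj => by
      rw [Finset.mem_erase] at hj
      rw [Equiv.symm_swap, Equiv.swap_apply_of_ne_of_ne hj.1 fun e => hy (by rw [← e]; exact hj.2)]
    refine ⟨C, ?_⟩
    convert hC using 2
    ext j
    simp only [Finset.mem_union, Finset.mem_insert, Finset.mem_erase]
    tauto
  -- even support
  obtain ⟨S₁, A₁, hne₁, hP₁, hev₁⟩ : ∃ S A, S.Nonempty ∧ Pat J₁ i u M S A ∧ Even S.card := by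
    rcases Nat.even_or_odd S₀.card with he | ho
    · exact ⟨S₀, A₀, hne, hP, he⟩
    obtain ⟨x, hx⟩ := hne
    have hlt : S₀.card < (Finset.univ.erase i).card := by
      refine lt_of_le_of_ne (Finset.card_le_card fun j hj => Finset.mem_erase.2
        ⟨fun e => hP.notMem (e ▸ hj), Finset.mem_univ j⟩) fun e => ?_
      rw [Finset.card_erase_of_mem (Finset.mem_univ i), Finset.card_univ, Fintype.card_fin] at e
      obtain ⟨a, ha⟩ := ht
      obtain ⟨b, hb⟩ := ho
      omega
    obtain ⟨y, hy, hy'⟩ := Finset.exists_mem_notMem_of_card_lt_card hlt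
    obtain ⟨C, hC⟩ := hpair S₀ A₀ ⟨x, hx⟩ hP x hx y hy' (Finset.mem_erase.1 hy).1 (by
      rw [Finset.card_erase_of_mem hx]
      obtain ⟨b, hb⟩ := ho
      exact ⟨b, by omega⟩)
    refine ⟨_, C, Finset.insert_nonempty _ _, hC, ?_⟩
    rw [Finset.card_insert_of_notMem hy']
    exact Odd.add_odd ho odd_one
  -- full support
  have grow : ∀ n (S : Finset (Fin t)) A, S.Nonempty → Pat J₁ i u M S A → Even S.card → t - S.card = n →
      ∃ A, Pat J₁ i u M (Finset.univ.erase i) A := by
    intro n
    induction n using Nat.strong_induction_on with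
    | _ n ih =>
      intro S A hS hA hev hn
      have hsub : S ⊆ Finset.univ.erase i := fun j hj => Finset.mem_erase.2
        ⟨fun e => hA.notMem (e ▸ hj), Finset.mem_univ j⟩
      by_cases hfull : S = Finset.univ.erase i
      · exact ⟨A, hfull ▸ hA⟩
      have hlt : S.card < (Finset.univ.erase i).card :=
        Finset.card_lt_card (Finset.ssubset_iff_subset_ne.2 ⟨hsub, hfull⟩)
      have hcardi : (Finset.univ.erase i).card = t - 1 := by simp
      have h2S : 2 ≤ S.card := by
        obtain ⟨b, hb⟩ := hev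
        have := hS.card_pos
        omega
      obtain ⟨x₁, hx₁, x₂, hx₂, hxne⟩ := Finset.one_lt_card.1 (show 1 < S.card by omega)
      have h2T : 1 < ((Finset.univ.erase i) \ S).card := by
        rw [Finset.card_sdiff_of_subset hsub, hcardi]
        obtain ⟨a, ha⟩ := ht
        obtain ⟨b, hb⟩ := hev
        omega
      obtain ⟨y₁, hy₁, y₂, hy₂, hyne⟩ := Finset.one_lt_card.1 h2T
      simp only [Finset.mem_sdiff, Finset.mem_erase, Finset.mem_univ, and_true] at hy₁ hy₂
      have hx1i : x₁ ≠ i := fun e => hA.notMem (e ▸ hx₁)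
      have hx2i : x₂ ≠ i := fun e => hA.notMem (e ▸ hx₂)
      have hfix₁ := Equiv.swap_apply_of_ne_of_ne (Ne.symm hx1i) (Ne.symm hy₁.1)
      have hfix₂ := Equiv.swap_apply_of_ne_of_ne (Ne.symm hx2i) (Ne.symm hy₂.1)
      have hB := (hA.perm J₁ (hperm x₁ y₁) hfix₁).perm J₁ (hperm x₂ y₂) hfix₂
      have a1 : x₁ ≠ y₁ := fun e => hy₁.2 (e ▸ hx₁)
      have a2 : x₁ ≠ y₂ := fun e => hy₂.2 (e ▸ hx₁)
      have a3 : x₂ ≠ y₁ := fun e => hy₁.2 (e ▸ hx₂)
      have a4 : x₂ ≠ y₂ := fun e => hy₂.2 (e ▸ hx₂)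
      set O := (S.erase x₁).erase x₂ with hOdef
      have hmap : (S.map (Equiv.swap x₁ y₁).toEmbedding).map (Equiv.swap x₂ y₂).toEmbedding =
          insert y₁ (insert y₂ O) := by
        ext j
        simp only [Finset.mem_map_equiv, Equiv.symm_swap, Finset.mem_insert, hOdef, Finset.mem_erase]
        rcases eq_or_ne j x₁ with rfl | j1
        · simp [Equiv.swap_apply_of_ne_of_ne hxne a2, hy₁.2, a1, a2]
        rcases eq_or_ne j x₂ with rfl | j2
        · simp [Equiv.swap_apply_of_ne_of_ne (Ne.symm a2) (Ne.symm hyne), hy₂.2, a3, a4]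
        rcases eq_or_ne j y₁ with rfl | j3
        · simp [Equiv.swap_apply_of_ne_of_ne (Ne.symm a3) hyne, hx₁]
        rcases eq_or_ne j y₂ with rfl | j4
        · simp [Equiv.swap_apply_of_ne_of_ne (Ne.symm hxne) a3, hx₂]
        · simp [Equiv.swap_apply_of_ne_of_ne j2 j4, Equiv.swap_apply_of_ne_of_ne j1 j3, j1, j2, j3, j4]
      rw [hmap] at hB
      have hOsub : O ⊆ S := fun j hj => Finset.mem_of_mem_erase (Finset.mem_of_mem_erase hj)
      have hOcard : O.card = S.card - 2 := by
        rw [hOdef, Finset.card_erase_of_mem (Finset.mem_erase.2 ⟨Ne.symm hxne, hx₂⟩),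
          Finset.card_erase_of_mem hx₁]
        omega
      have hO : O = S ∩ insert y₁ (insert y₂ O) := by
        ext j
        simp only [Finset.mem_inter, Finset.mem_insert]
        constructor
        · exact fun h => ⟨hOsub h, Or.inr (Or.inr h)⟩
        · rintro ⟨h, rfl | rfl | h'⟩
          exacts [absurd h hy₁.2, absurd h hy₂.2, h']
      obtain ⟨C, hC, -⟩ := hA.merge J₁ hc hu htpos hB (by
        rw [hOcard]
        obtain ⟨b, hb⟩ := hev
        exact ⟨b - 1, by omega⟩) hO hS fun j hj => by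
          simp only [hOdef, Finset.mem_erase] at hj
          rw [Equiv.symm_swap, Equiv.symm_swap,
            Equiv.swap_apply_of_ne_of_ne hj.1 fun e => hy₂.2 (by rw [← e]; exact hj.2.2),
            Equiv.swap_apply_of_ne_of_ne hj.2.1 fun e => hy₁.2 (by rw [← e]; exact hj.2.2)]
      have hU : S ∪ insert y₁ (insert y₂ O) = insert y₁ (insert y₂ S) := by
        ext j; simp only [Finset.mem_union, Finset.mem_insert]
        constructor
        · rintro (h | h | h | h)
          exacts [Or.inr (Or.inr h), Or.inl h, Or.inr (Or.inl h), Or.inr (Or.inr (hOsub h))]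
        · rintro (h | h | h)
          exacts [Or.inr (Or.inl h), Or.inr (Or.inr (Or.inl h)), Or.inl h]
      rw [hU] at hC
      have hcard : (insert y₁ (insert y₂ S)).card = S.card + 2 := by
        rw [Finset.card_insert_of_notMem (by simp [hyne, hy₁.2]), Finset.card_insert_of_notMem hy₂.2]
      exact ih (t - (S.card + 2)) (by omega) _ C (Finset.insert_nonempty _ _) hC
        (hcard ▸ hev.add (by decide)) (by rw [hcard])
  obtain ⟨A₂, hP₂⟩ := grow _ S₁ A₁ hne₁ hP₁ hev₁ rfl
  have hU0 : (Finset.univ.erase i).Nonempty := by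
    obtain ⟨j, hj⟩ := hne₁
    exact ⟨j, Finset.mem_erase.2 ⟨fun e => hP₁.notMem (e ▸ hj), Finset.mem_univ j⟩⟩
  have hevU : Even (Finset.univ.erase i).card := by
    rw [Finset.card_erase_of_mem (Finset.mem_univ i), Finset.card_univ, Fintype.card_fin]
    exact Nat.Odd.sub_odd ht odd_one
  obtain ⟨C, hC, hCw⟩ := hP₂.merge J₁ hc hu htpos hP₂ hevU (Finset.inter_self _).symm hU0 fun _ _ => rfl
  choose w hw using hCw
  let W : Fin t → Fin d → F := fun j => if h : j ∈ Finset.univ.erase i then w j h else u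
  refine ⟨W, fun j => ?_, ?_⟩
  · by_cases hj : j ∈ Finset.univ.erase i
    · simp only [W, dif_pos hj]; exact (hw j hj).1
    · simp only [W, dif_neg hj]; exact hu
  · have := hC.coef.unip J₁ hc hu
    convert this using 1
    rw [slot_eq_pure, pure'_mul]
    congr 1
    funext j
    rcases eq_or_ne j i with rfl | hj
    · simp [W, hC.one j hC.notMem]
    · have hj' : j ∈ Finset.univ.erase i := by simp [hj]
      simp [W, hj, (hw j hj').2]

end CfsgLib.TensorWreath
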