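import Cfsg.Agent.Lib.TensorWreath.Tw
import Cfsg.Agent.Lib.ThreeTransp.DicksonPairs

/-! Over a field the twisted group of a non-zero element is the special linear group. -/

set_option autoImplicit false

namespace CfsgLib.TensorWreath.Tw

open CfsgLib.ThreeTransp

variable {K : Type*} [Field K] (α : K)

/-- The matrix of an element. -/
def toSL : Tw α →* Matrix.SpecialLinearGroup (Fin 2) K where
  toFun g := ⟨!![1 + α * g.u, g.r; α * g.q, 1 + α * g.v], by
    rw [Matrix.det_fin_two_of]; linear_combination α * g.red⟩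
  map_one' := Subtype.ext (by simp [Matrix.one_fin_two])
  map_mul' g h := Subtype.ext (by
    show _ = !![1 + α * g.u, g.r; α * g.q, 1 + α * g.v] * !![1 + α * h.u, h.r; α * h.q, 1 + α * h.v]
    ext i j
    fin_cases i <;> fin_cases j <;> simp [Matrix.mul_apply, Fin.sum_univ_two] <;> ring)

@[simp] theorem toSL_val (g : Tw α) :
    ((toSL α g : Matrix.SpecialLinearGroup (Fin 2) K) : Matrix (Fin 2) (Fin 2) K) =
      !![1 + α * g.u, g.r; α * g.q, 1 + α * g.v] := rfl

variable {α}

theorem toSL_inj (hα : α ≠ 0) {g h : Tw α} (e : toSL α g = toSL α h) : g = h := by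
  have e' := congrArg (fun x : Matrix.SpecialLinearGroup (Fin 2) K => (x : Matrix (Fin 2) (Fin 2) K)) e
  simp only [toSL_val] at e'
  have h00 := congrFun (congrFun e' 0) 0
  have h01 := congrFun (congrFun e' 0) 1
  have h10 := congrFun (congrFun e' 1) 0
  have h11 := congrFun (congrFun e' 1) 1
  simp [hα] at h00 h01 h10 h11
  exact Tw.ext h01 h10 h00 h11

variable {k : Type*} [Field k] [Algebra k K] [Finite K] [Finite k]

/-- Every element of the special linear group comes from the group. -/
theorem exists_toSL (h2 : (2 : k) ≠ 0) (h5 : 5 ≤ Nat.card k) (hα : α ≠ 0)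
    (hgen : Algebra.adjoin k ({α} : Set K) = ⊤) (x : Matrix.SpecialLinearGroup (Fin 2) K) :
    ∃ g ∈ G α k, toSL α g = x := by
  haveI : Module.Finite k K := Module.Finite.of_finite
  have h2K : (2 : K) ≠ 0 := fun h => h2 ((algebraMap k K).injective (by rw [map_ofNat, map_zero, h]))
  have htop := pairGroup_eq_top (k := k) h2K (by omega) hα hgen
  have hle : pairGroup k α ≤ (G α k).map (toSL α) := (Subgroup.closure_le _).2 (by
    rintro _ (⟨c, rfl⟩ | ⟨c, rfl⟩)
    · exact ⟨_, up_mem c, Subtype.ext (by simp [sl2U_val])⟩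
    · exact ⟨_, lo_mem c, Subtype.ext (by simp [sl2L_val, mul_comm])⟩)
  rw [htop] at hle
  exact hle (Subgroup.mem_top x)

theorem rad_field (h2 : (2 : k) ≠ 0) (h5 : 5 ≤ Nat.card k) (hn : α ∉ Set.range (algebraMap k K))
    (hgen : Algebra.adjoin k ({α} : Set K) = ⊤) : Rad α k := by
  have hα : α ≠ 0 := fun e => hn ⟨0, by rw [map_zero, e]⟩
  obtain ⟨g, hg, e⟩ := exists_toSL h2 h5 hα hgen (sl2U K α)
  have : g = up α α := toSL_inj hα (e.trans (Subtype.ext (by simp [sl2U_val])))
  exact ⟨α, hn, this ▸ hg⟩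

end CfsgLib.TensorWreath.Tw
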