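import Cfsg.Agent.Lib.TensorWreath.Tw

/-! Upper elements lift through a simple ideal on which `α` is injective. -/

set_option autoImplicit false

namespace CfsgLib.TensorWreath.Tw

variable {R S : Type*} [CommRing R] [CommRing S] {k : Type*} [Field k] [Algebra k R] [Algebra k S] {α : R}
variable [Finite R]

theorem rad_lift {p : ℕ} [Fact p.Prime] [CharP R p] (hp : 3 ≤ p) (hk : ∃ l : k, l ≠ 0 ∧ l ≠ 1)
    (f : R →ₐ[k] S) [Nontrivial S] {I : Ideal R} (hI : ∀ x, f x = 0 ↔ x ∈ I)
    (hsimple : ∀ i ∈ I, i ≠ 0 → I ≤ Ideal.span {i}) (hinj : ∀ i ∈ I, α * i = 0 → i = 0)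
    (h : Rad (f α) k) : Rad α k := by
  classical
  obtain ⟨r₀, hr₀, hmem⟩ := h
  set φ : Tw α →* Tw (f α) := map (f : R →+* S) rfl
  obtain ⟨g₀, hg₀, hg₀'⟩ := ((map_G (α := α) f rfl).ge hmem : up (f α) r₀ ∈ (G α k).map φ)
  set u₁ := up α (algebraMap k R 1)
  have hu₁ : u₁ ∈ G α k := up_mem 1
  have hφr : ∀ g : Tw α, (φ g).r = f g.r := fun _ => rfl
  have hφq : ∀ g : Tw α, (φ g).q = f g.q := fun _ => rfl
  have hφu' : ∀ g : Tw α, (φ g).u = f g.u := fun _ => rfl
  have hφv : ∀ g : Tw α, (φ g).v = f g.v := fun _ => rfl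
  have hpow : ∀ n : ℕ, u₁ ^ n = up α (n : R) := by
    intro n
    induction n with
    | zero => ext <;> simp
    | succ n ih => rw [pow_succ, ih, show u₁ = up α 1 by simp [u₁], up_add, Nat.cast_succ]
  have hU : IsPGroup p (Subgroup.zpowers u₁) := IsPGroup.of_card (n := (Nat.card (Subgroup.zpowers u₁)).factorization p) (by
    have hd : orderOf u₁ ∣ p := orderOf_dvd_of_pow_eq_one (by rw [hpow, CharP.cast_eq_zero]; ext <;> simp)
    rw [Nat.card_zpowers]
    rcases (Nat.dvd_prime Fact.out).1 hd with e | e <;> rw [e]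
    · simp
    · rw [Nat.Prime.factorization_self Fact.out, pow_one])
  -- the two conjugation invariant sets
  let Sx : Tw (f α) → Set (Tw α) := fun x => {g | g ∈ G α k ∧ φ g = x}
  have hφu : φ u₁ = up (f α) 1 := by ext <;> simp [hφr, hφq, hφu', hφv, u₁]
  have hinv : ∀ x, up (f α) 1 * x = x * up (f α) 1 → ∀ (z : Subgroup.zpowers u₁), ∀ g ∈ Sx x,
      (z : Tw α) * g * (z : Tw α)⁻¹ ∈ Sx x := by
    intro x hx z g hg
    have hz : (z : Tw α) ∈ G α k := (Subgroup.zpowers_le.2 hu₁) z.2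
    refine ⟨mul_mem (mul_mem hz hg.1) (inv_mem hz), ?_⟩
    obtain ⟨j, hj⟩ := z.2
    have hc : Commute (φ z) x := by
      rw [← hj, map_zpow, hφu]
      exact (show Commute (up (f α) 1) x from hx).zpow_left j
    rw [map_mul, map_mul, hg.2, hc.eq, map_inv, mul_inv_cancel_right]
  have hfix : ∀ g : Tw α, u₁ * g * u₁⁻¹ = g → g.q = 0 ∧ α * (g.u - g.v) = 0 ∧
      g.u + g.v + α * g.u * g.v = 0 := by
    intro g e
    have e' : u₁ * g = g * u₁ := mul_inv_eq_iff_eq_mul.1 e
    have eu := congrArg Tw.u e'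
    have er := congrArg Tw.r e'
    simp [u₁] at eu er
    have hr := g.red
    refine ⟨eu, by linear_combination -er, ?_⟩
    rw [eu] at hr
    linear_combination hr
  have hcard : ∀ x, ∀ g ∈ Sx x, Nat.card (Sx x) = Nat.card (Sx 1) := fun x g hg =>
    Nat.card_congr
      { toFun := fun y => ⟨g⁻¹ * y, mul_mem (inv_mem hg.1) y.2.1, by rw [map_mul, map_inv, hg.2, y.2.2, inv_mul_cancel]⟩
        invFun := fun y => ⟨g * y, mul_mem hg.1 y.2.1, by rw [map_mul, hg.2, y.2.2, mul_one]⟩
        left_inv := fun y => Subtype.ext (by simp)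
        right_inv := fun y => Subtype.ext (by simp) }
  let act : ∀ x, up (f α) 1 * x = x * up (f α) 1 → MulAction (Subgroup.zpowers u₁) (Sx x) := fun x hx =>
    { smul := fun z g => ⟨_, hinv x hx z g g.2⟩
      one_smul := fun g => Subtype.ext (by show (1 : Tw α) * g.1 * (1 : Tw α)⁻¹ = g.1; simp)
      mul_smul := fun z w g => Subtype.ext (by
        show ((z * w : Subgroup.zpowers u₁) : Tw α) * g.1 * ((z * w : Subgroup.zpowers u₁) : Tw α)⁻¹ =
          (z : Tw α) * ((w : Tw α) * g.1 * (w : Tw α)⁻¹) * (z : Tw α)⁻¹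
        simp [mul_assoc]) }
  by_cases hdvd : p ∣ Nat.card (Sx 1)
  · -- many fixed points in the kernel
    letI := act 1 (by rw [mul_one, one_mul])
    have hne1 : ∃ g : Sx 1, (∀ z : Subgroup.zpowers u₁, z • g = g) ∧ g.1.r ≠ 0 := by
      by_contra hcon
      push Not at hcon
      let Fx := MulAction.fixedPoints (Subgroup.zpowers u₁) (Sx 1)
      have hone : (⟨1, one_mem _, map_one φ⟩ : Sx 1) ∈ Fx := fun z => Subtype.ext (by
        show (z : Tw α) * 1 * (z : Tw α)⁻¹ = 1
        simp)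
      have hpos : 0 < Nat.card Fx := by
        haveI : Nonempty Fx := ⟨⟨_, hone⟩⟩
        exact Nat.card_pos
      have hp' : p ≤ Nat.card Fx :=
        Nat.le_of_dvd hpos ((Nat.ModEq.dvd_iff (hU.card_modEq_card_fixedPoints (Sx 1)) dvd_rfl).1 hdvd)
      have hdata : ∀ g : Fx, g.1.1.u ∈ I ∧ g.1.1.v ∈ I ∧ g.1.1.r = 0 ∧ g.1.1.q = 0 ∧ α * (g.1.1.u - g.1.1.v) = 0 ∧
          α * g.1.1.u * (2 + α * g.1.1.u) = 0 := by
        intro g
        have e := congrArg Subtype.val (g.2 ⟨u₁, Subgroup.mem_zpowers _⟩)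
        obtain ⟨hq, hd, hw⟩ := hfix g.1.1 e
        refine ⟨(hI _).1 ?_, (hI _).1 ?_, hcon g.1 g.2, hq, hd, by linear_combination α * hw + (1 + α * g.1.1.u) * hd⟩
        · simpa [hφu'] using congrArg Tw.u g.1.2.2
        · simpa [hφv] using congrArg Tw.v g.1.2.2
      let δ : Fx → R := fun g => α * g.1.1.u
      have hδ : Function.Injective δ := by
        intro g h e
        obtain ⟨hu, hv, hr, hq, hd, -⟩ := hdata g
        obtain ⟨hu', hv', hr', hq', hd', -⟩ := hdata h
        have e' : α * g.1.1.u = α * h.1.1.u := e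
        have eu : g.1.1.u = h.1.1.u := sub_eq_zero.1 (hinj _ (I.sub_mem hu hu') (by linear_combination e'))
        have ev : g.1.1.v = h.1.1.v :=
          sub_eq_zero.1 (hinj _ (I.sub_mem hv hv') (by linear_combination e' - hd + hd'))
        exact Subtype.ext (Subtype.ext (Tw.ext (hr.trans hr'.symm) (hq.trans hq'.symm) eu ev))
      have hzero : ∀ g h : Fx, δ g ≠ 0 → δ h ≠ 0 → δ g = δ h := by
        intro g h hg hh
        obtain ⟨hu, -, -, -, -, eg⟩ := hdata g
        obtain ⟨hu', -, -, -, -, eh⟩ := hdata h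
        obtain ⟨x, hx⟩ := Ideal.mem_span_singleton'.1 (hsimple _ (I.mul_mem_left α hu) hg (I.mul_mem_left α hu'))
        obtain ⟨y, hy⟩ := Ideal.mem_span_singleton'.1 (hsimple _ (I.mul_mem_left α hu') hh (I.mul_mem_left α hu))
        have h2 : (2 : R) * (δ g - δ h) = 0 := by
          simp only [δ]
          linear_combination y * eh - (α * h.1.1.u + 2) * hy - x * eg + (α * g.1.1.u + 2) * hx
        have hu2 : IsUnit (2 : R) := by
          have : ((2 : ℕ) : R) = 2 := Nat.cast_ofNat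
          rw [← this]
          exact (CharP.isUnit_natCast_iff Fact.out).2 fun hd2 => by
            have := Nat.le_of_dvd two_pos hd2
            omega
        exact sub_eq_zero.1 ((hu2.mul_right_eq_zero).1 h2)
      have h3 : Nat.card Fx ≤ 2 := by
        haveI := Fintype.ofFinite Fx
        rw [Nat.card_eq_fintype_card]
        by_contra h3
        obtain ⟨a, b, c, hab, hac, hbc⟩ := Fintype.two_lt_card_iff.1 (not_le.1 h3)
        rcases eq_or_ne (δ a) 0 with ea | ea
        · exact hbc (hδ (hzero b c (fun e => hab (hδ (ea.trans e.symm))) fun e => hac (hδ (ea.trans e.symm))))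
        · rcases eq_or_ne (δ b) 0 with eb | eb
          · exact hac (hδ (hzero a c ea fun e => hbc (hδ (eb.trans e.symm))))
          · exact hab (hδ (hzero a b ea eb))
      omega
    obtain ⟨⟨g, hg, hgφ⟩, hgf, hr⟩ := hne1
    have hq := (hfix g (congrArg Subtype.val (hgf ⟨u₁, Subgroup.mem_zpowers _⟩))).1
    refine rad_of_triangular hk hg hq ?_
    rintro ⟨c, hc⟩
    have hIm : g.r ∈ I := (hI _).1 (by simpa [hφr] using congrArg Tw.r hgφ)
    have hfc : algebraMap k S c = 0 := by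
      rw [← f.commutes, hc, map_mul, (hI _).2 hIm, zero_mul]
    rw [map_eq_zero] at hfc
    rw [hfc, map_zero] at hc
    refine hr ?_
    have hw := g.red
    rw [hq, mul_zero, sub_zero] at hw
    linear_combination (g.r) * (-α) * hw - (1 + α * g.v) * hc
  · -- a fixed lift
    set x := up (f α) r₀
    have hx : up (f α) 1 * x = x * up (f α) 1 := by rw [up_add, up_add, add_comm]
    letI := act x hx
    have hc : Nat.card (Sx x) = Nat.card (Sx 1) := hcard x g₀ ⟨hg₀, hg₀'⟩
    obtain ⟨⟨g, hg, hgφ⟩, hgf⟩ := hU.nonempty_fixed_point_of_prime_not_dvd_card (Sx x) (hc ▸ hdvd)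
    have hq := (hfix g (congrArg Subtype.val (hgf ⟨u₁, Subgroup.mem_zpowers _⟩))).1
    refine rad_of_triangular hk hg hq ?_
    rintro ⟨c, hc'⟩
    have er : f g.r = r₀ := by simpa [hφr, x] using congrArg Tw.r hgφ
    have eu : f g.u = 0 := by simpa [hφu', x] using congrArg Tw.u hgφ
    refine hr₀ ⟨c, ?_⟩
    rw [← f.commutes, hc', map_mul, map_add, map_one, map_mul, eu, mul_zero, add_zero, mul_one, er]

end CfsgLib.TensorWreath.Tw
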