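import Cfsg.Agent.Lib.TensorWreath.RadQuad
import Cfsg.Agent.Lib.TensorWreath.RadLift
import Cfsg.Agent.Lib.TensorWreath.RadField

/-!
The twisted group of a generator `α` with `ann α² = ann α` has an upper element outside the scalars
(odd characteristic, at least five scalars).
-/

set_option autoImplicit false

namespace CfsgLib.TensorWreath.Tw

universe u

variable {k : Type*} [Field k] [Finite k]

theorem adjoin_image {R S : Type*} [CommRing R] [CommRing S] [Algebra k R] [Algebra k S] (f : R →ₐ[k] S)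
    (hf : Function.Surjective f) {α : R} (hgen : Algebra.adjoin k ({α} : Set R) = ⊤) :
    Algebra.adjoin k ({f α} : Set S) = ⊤ := by
  rw [← Set.image_singleton, Algebra.adjoin_image, hgen, Algebra.map_top, AlgHom.range_eq_top]
  exact hf

theorem rad_gen (h2 : (2 : k) ≠ 0) (h5 : 5 ≤ Nat.card k) :
    ∀ (R : Type u) [CommRing R] [Algebra k R] [Finite R] (α : R),
      Algebra.adjoin k ({α} : Set R) = ⊤ → α ∉ Set.range (algebraMap k R) →
      (∀ y, α * α * y = 0 → α * y = 0) → Rad α k := by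
  classical
  intro R _ _ _
  induction hN : Nat.card R using Nat.strong_induction_on generalizing R with
  | _ N ih =>
  intro α hgen hn hann
  set i := algebraMap k R
  by_cases hq : ∃ A B : k, α * α = i A * α + i B
  · obtain ⟨A, B, h⟩ := hq
    exact rad_quad h2 h5 h hn
  have hα0 : α ≠ 0 := fun e => hn ⟨0, by rw [map_zero, e]⟩
  haveI : Nontrivial R := ⟨⟨α, 0, hα0⟩⟩
  obtain ⟨p, hpk⟩ := CharP.exists k
  haveI : Fact p.Prime := ⟨CharP.char_is_prime k p⟩
  haveI : CharP R p := charP_of_injective_algebraMap i.injective p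
  have hp2 : p ≠ 2 := fun e => h2 (by subst e; exact_mod_cast CharP.cast_eq_zero k 2)
  have hp3 : 3 ≤ p := by have := (Fact.out : p.Prime).two_le; omega
  have hk : ∃ l : k, l ≠ 0 ∧ l ≠ 1 := ⟨2, h2, fun h => one_ne_zero (α := k) (by linear_combination h)⟩
  -- a simple ideal inside the multiples of `α`
  obtain ⟨I, hIat, hIle⟩ := (IsAtomic.eq_bot_or_exists_atom_le (Ideal.span {α})).resolve_left
    (by simpa using hα0)
  have hsimple : ∀ J : Ideal R, IsAtom J → ∀ x ∈ J, x ≠ 0 → J ≤ Ideal.span {x} := fun J hJ x hx hx0 => by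
    have hle : Ideal.span {x} ≤ J := (Ideal.span_singleton_le_iff_mem _).2 hx
    rcases hJ.le_iff.1 hle with e | e
    · exact absurd (Ideal.span_singleton_eq_bot.1 e) hx0
    · exact e.ge
  have hinj : ∀ x ∈ I, α * x = 0 → x = 0 := fun x hx h0 => by
    obtain ⟨y, rfl⟩ := Ideal.mem_span_singleton'.1 (hIle hx)
    rw [mul_comm y α]
    exact hann y (by linear_combination h0)
  by_cases htop : I = ⊤
  · -- a field
    letI : Field R := Field.ofIsUnitOrEqZero fun a => (eq_or_ne a 0).symm.imp_left fun ha =>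
      Ideal.span_singleton_eq_top.1 (top_le_iff.1 (htop ▸ hsimple I hIat a (htop ▸ Submodule.mem_top) ha))
    exact rad_field h2 h5 hn hgen
  haveI : Nontrivial (R ⧸ I) := Ideal.Quotient.nontrivial_iff.2 htop
  set f := Ideal.Quotient.mkₐ k I
  have hfI : ∀ x, f x = 0 ↔ x ∈ I := fun x => Ideal.Quotient.eq_zero_iff_mem
  have rec' : ∀ J : Ideal R, J ≠ ⊥ → (∀ y, α * α * y ∈ J → α * y ∈ J) →
      Ideal.Quotient.mkₐ k J α ∉ Set.range (algebraMap k (R ⧸ J)) → Rad (Ideal.Quotient.mkₐ k J α) k := by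
    intro J hJ hJann hJn
    haveI : Finite (R ⧸ J) := Finite.of_surjective _ Ideal.Quotient.mk_surjective
    have hlt : Nat.card (R ⧸ J) < Nat.card R := by
      refine lt_of_le_of_ne (Nat.card_le_card_of_surjective _ (Ideal.Quotient.mk_surjective (I := J)))
        fun hc => hJ ?_
      rw [eq_bot_iff]
      intro x hx
      exact ((Nat.bijective_iff_surjective_and_card _).2 ⟨Ideal.Quotient.mk_surjective, hc.symm⟩).1
        ((Ideal.Quotient.eq_zero_iff_mem.2 hx).trans (map_zero _).symm)
    refine ih _ (hN ▸ hlt) (R ⧸ J) rfl _ (adjoin_image _ (Ideal.Quotient.mkₐ_surjective k J) hgen) hJn ?_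
    intro z hz
    obtain ⟨y, rfl⟩ := Ideal.Quotient.mkₐ_surjective k J z
    rw [← map_mul, ← map_mul] at hz
    rw [← map_mul]
    exact Ideal.Quotient.eq_zero_iff_mem.2 (hJann y (Ideal.Quotient.eq_zero_iff_mem.1 hz))
  have hann' : ∀ J : Ideal R, IsAtom J → (∀ x ∈ J, α * x = 0 → x = 0) → ∀ y, α * α * y ∈ J → α * y ∈ J := by
    intro J hJ hJinj y hy
    rcases eq_or_ne (α * α * y) 0 with e | e
    · rw [hann y e]; exact J.zero_mem
    have e2 : α * (α * (α * α * y)) ≠ 0 := fun h => e (hJinj _ hy (hJinj _ (J.mul_mem_left α hy) h))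
    obtain ⟨c, hc⟩ := Ideal.mem_span_singleton'.1
      (hsimple J hJ _ (J.mul_mem_left α (J.mul_mem_left α hy)) e2 hy)
    have h := hann (y - c * (α * α * y)) (by linear_combination -hc)
    rw [show α * y = c * (α * (α * α * y)) by linear_combination h]
    exact J.mul_mem_left c (J.mul_mem_left α hy)
  by_cases hfn : f α ∈ Set.range (algebraMap k (R ⧸ I))
  swap
  · exact rad_lift hp3 hk f hfI (hsimple I hIat) hinj (rec' I hIat.1 (hann' I hIat hinj) hfn)
  -- the quotient is the scalar field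
  obtain ⟨c, hc⟩ := hfn
  have hj : α - i c ∈ I := (hfI _).1 (by rw [map_sub, AlgHom.commutes, hc, sub_self])
  set j := α - i c with hjdef
  have hj2 : j * j ≠ 0 := fun e => hq ⟨2 * c, -(c * c), by
    simp only [map_mul, map_neg, map_ofNat]; rw [hjdef] at e; linear_combination e⟩
  have hjj : j * j ∈ I := I.mul_mem_left j hj
  obtain ⟨x, hx⟩ := Ideal.mem_span_singleton'.1 (hsimple I hIat _ hjj hj2 hj)
  set e := x * j with hedef
  have heI : e ∈ I := I.mul_mem_left x hj
  have hej : e * j = j := by rw [hedef]; linear_combination hx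
  have hee : e * e = e := by linear_combination x * hej
  have heid : ∀ y ∈ I, e * y = y := fun y hy => by
    obtain ⟨w, rfl⟩ := Ideal.mem_span_singleton'.1
      (hsimple I hIat _ hj (fun h => hj2 (by rw [h, mul_zero])) hy)
    linear_combination w * hej
  set J : Ideal R := Ideal.span {1 - e} with hJdef
  set fJ := Ideal.Quotient.mkₐ k J
  have hJI : ∀ y, y ∈ J → y ∈ I → y = 0 := fun y hy hy' => by
    obtain ⟨w, rfl⟩ := Ideal.mem_span_singleton'.1 hy
    rw [← heid _ hy']; linear_combination -w * hee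
  have hJn : fJ α ∉ Set.range (algebraMap k (R ⧸ J)) := by
    rintro ⟨d, hd⟩
    have hm : α - i d ∈ J := Ideal.Quotient.eq_zero_iff_mem.1 (by
      show fJ (α - i d) = 0
      rw [map_sub, AlgHom.commutes, hd, sub_self])
    obtain ⟨w, hw⟩ := Ideal.mem_span_singleton'.1 hm
    -- `j = (d - c) e`
    have hje : j = (i d - i c) * e := by
      rw [hjdef] at hej ⊢
      linear_combination -hej - e * hw + w * hee * 0 - w * (hee)
    refine hq ⟨d + c, -(d * c), ?_⟩
    simp only [map_add, map_mul, map_neg]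
    rw [hjdef] at hje
    linear_combination (α - i c + (i c - i d)) * hje + (i d - i c) * e * hje + (i d - i c) * (i d - i c) * hee
  by_cases hc0 : c = 0
  swap
  · -- the scalar part is a second simple ideal
    have hcu : ∀ y ∈ J, α * y = i c * y := fun y hy => by
      obtain ⟨w, rfl⟩ := Ideal.mem_span_singleton'.1 hy
      rw [hjdef] at hej
      linear_combination -w * hej
    have hJinj : ∀ y ∈ J, α * y = 0 → y = 0 := fun y hy h => by
      rw [hcu y hy] at h
      have h' := congrArg (i c⁻¹ * ·) h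
      simp only [mul_zero, ← mul_assoc, ← map_mul, inv_mul_cancel₀ hc0, map_one, one_mul] at h'
      exact h'
    have hJat : IsAtom J := by
      refine ⟨fun h => ?_, fun K hK => ?_⟩
      · have : (1 - e) = 0 := by simpa [hJdef] using h
        exact htop (I.eq_top_iff_one.2 (by rwa [← sub_eq_zero.1 this] at heI))
      · by_contra hne
        obtain ⟨y, hy, hy0⟩ := Submodule.exists_mem_ne_zero_of_ne_bot hne
        -- every element of `J` is a scalar multiple of `1 - e`
        have hall : ∀ z ∈ J, ∃ b : k, z = i b * (1 - e) := by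
          intro z hz
          have : ∀ r : R, ∃ b : k, r - i b ∈ I := fun r => by
            have hr : r ∈ Algebra.adjoin k ({α} : Set R) := hgen ▸ Algebra.mem_top
            induction hr using Algebra.adjoin_induction with
            | mem z hz => rw [Set.mem_singleton_iff] at hz; exact ⟨c, hz ▸ hj⟩
            | algebraMap r => exact ⟨r, by rw [sub_self]; exact I.zero_mem⟩
            | add z w _ _ hz hw =>
              obtain ⟨b, hb⟩ := hz; obtain ⟨b', hb'⟩ := hw
              exact ⟨b + b', by rw [map_add, add_sub_add_comm]; exact I.add_mem hb hb'⟩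
            | mul z w _ _ hz hw =>
              obtain ⟨b, hb⟩ := hz; obtain ⟨b', hb'⟩ := hw
              exact ⟨b * b', by
                rw [map_mul, show z * w - i b * i b' = z * (w - i b') + i b' * (z - i b) by ring]
                exact I.add_mem (I.mul_mem_left _ hb') (I.mul_mem_left _ hb)⟩
          obtain ⟨w, rfl⟩ := Ideal.mem_span_singleton'.1 hz
          obtain ⟨b, hb⟩ := this w
          exact ⟨b, by linear_combination -(heid _ hb)⟩
        obtain ⟨b, rfl⟩ := hall y (hK.le hy)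
        have hb : b ≠ 0 := fun h => hy0 (by rw [h, map_zero, zero_mul])
        refine hK.ne (le_antisymm hK.le ((Ideal.span_singleton_le_iff_mem _).2 ?_))
        have := K.mul_mem_left (i b⁻¹) hy
        rwa [← mul_assoc, ← map_mul, inv_mul_cancel₀ hb, map_one, one_mul] at this
    haveI : Nontrivial (R ⧸ J) := ⟨⟨fJ e, 0, fun h => ?_⟩⟩
    · exact rad_lift hp3 hk fJ (fun y => Ideal.Quotient.eq_zero_iff_mem) (hsimple J hJat) hJinj
        (rec' J hJat.1 (hann' J hJat hJinj) hJn)
    · have := hJI e (Ideal.Quotient.eq_zero_iff_mem.1 h) heI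
      rw [this, zero_mul] at hej
      exact hj2 (by rw [← hej, zero_mul])
  -- `α` lies in the simple ideal
  subst hc0
  have hαI : α ∈ I := by rw [hjdef, map_zero, sub_zero] at hj; exact hj
  haveI : (J).IsMaximal := by
    refine Ideal.isMaximal_iff.2 ⟨fun h => ?_, fun K y hle hy hyK => ?_⟩
    · have := hJI _ (J.mul_mem_left e h) (I.mul_mem_right 1 heI)
      rw [mul_one] at this
      rw [this, zero_mul] at hej
      exact hj2 (by rw [← hej, zero_mul])
    · have hey : e * y ≠ 0 := fun h => hy (Ideal.mem_span_singleton'.2 ⟨y, by linear_combination -h⟩)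
      obtain ⟨w, hw⟩ := Ideal.mem_span_singleton'.1 (hsimple I hIat _ (I.mul_mem_right y heI) hey heI)
      have h1 : e ∈ K := hw ▸ K.mul_mem_left w (K.mul_mem_left e hyK)
      have := K.add_mem (hle (Ideal.mem_span_singleton_self (1 - e))) h1
      simpa using this
  letI : Field (R ⧸ J) := Ideal.Quotient.field J
  haveI : Finite (R ⧸ J) := Finite.of_surjective _ Ideal.Quotient.mk_surjective
  have hgenJ := adjoin_image fJ (Ideal.Quotient.mkₐ_surjective k J) hgen
  have hαJ : fJ α ≠ 0 := fun h => hJn ⟨0, by rw [map_zero, h]⟩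
  set φ : Tw α →* Tw (fJ α) := map (fJ : R →+* (R ⧸ J)) rfl
  set ψ : Tw α →* Tw (f α) := map (f : R →+* (R ⧸ I)) rfl
  have hsurj : ∀ x : Matrix.SpecialLinearGroup (Fin 2) (R ⧸ J), ∃ g ∈ G α k, toSL (fJ α) (φ g) = x := fun x => by
    obtain ⟨g', hg', rfl⟩ := exists_toSL h2 h5 hαJ hgenJ x
    obtain ⟨g, hg, rfl⟩ := ((map_G (α := α) fJ rfl).ge hg' : g' ∈ (G α k).map φ)
    exact ⟨g, hg, rfl⟩
  obtain ⟨l, hl0, hl1, hl2⟩ := exists_ne_three h5 0 1 (-1)
  set L : R ⧸ J := algebraMap k (R ⧸ J) l
  have hL : L * algebraMap k (R ⧸ J) l⁻¹ = 1 := by rw [← map_mul, mul_inv_cancel₀ hl0, map_one]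
  obtain ⟨h, hh, hhe⟩ := hsurj ⟨!![L, 0; 0, algebraMap k (R ⧸ J) l⁻¹], by
    rw [Matrix.det_fin_two_of, hL, mul_zero, sub_zero]⟩
  obtain ⟨g, hg, hge⟩ := hsurj (CfsgLib.ThreeTransp.sl2U (R ⧸ J) (fJ e * (algebraMap k (R ⧸ J) (l * l - 1)⁻¹)))
  -- the quotient group is a two-step group of exponent dividing the fourth power of the cardinality
  have hf0 : f α = 0 := (hfI _).2 hαI
  have hcard : Nat.card (R ⧸ I) = Nat.card k := by
    refine (Nat.card_eq_of_bijective (algebraMap k (R ⧸ I))
      ⟨(algebraMap k (R ⧸ I)).injective, fun z => ?_⟩).symm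
    have hz : z ∈ Algebra.adjoin k ({f α} : Set (R ⧸ I)) :=
      (adjoin_image f (Ideal.Quotient.mkₐ_surjective k I) hgen).symm ▸ Algebra.mem_top
    rw [hf0] at hz
    obtain ⟨b, hb⟩ := Algebra.mem_bot.1 ((Algebra.adjoin_le (S := (⊥ : Subalgebra k (R ⧸ I)))
      (by simp)) hz)
    exact ⟨b, hb⟩
  haveI : Fintype k := Fintype.ofFinite k
  obtain ⟨m, hm⟩ : ∃ m, Fintype.card k = p ^ m := by
    obtain ⟨m, -, hm⟩ := FiniteField.card k p
    exact ⟨m, hm⟩
  haveI : Finite (R ⧸ I) := Finite.of_surjective _ Ideal.Quotient.mk_surjective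
  set M := Nat.card k * Nat.card k * Nat.card k with hMdef
  have hψpow : ∀ y : Tw (f α), y ^ M = 1 := by
    intro y
    have hM : Nat.card (Tw (f α)) = M := by
      rw [hMdef, ← hcard, ← Nat.card_prod, ← Nat.card_prod]
      refine Nat.card_congr
        { toFun := fun y => ((y.r, y.q), y.u)
          invFun := fun t => ⟨t.1.1, t.1.2, t.2, t.1.1 * t.1.2 - t.2, by rw [hf0]; ring⟩
          left_inv := fun y => Tw.ext rfl rfl rfl (by
            have h := y.red
            show y.r * y.q - y.u = y.v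
            linear_combination -h + y.u * y.v * hf0)
          right_inv := fun t => rfl }
    rw [← hM]
    exact pow_card_eq_one'
  have hlM : l ^ M = l := by
    rw [hMdef, Nat.card_eq_fintype_card, pow_mul, pow_mul, FiniteField.pow_card, FiniteField.pow_card,
      FiniteField.pow_card]
  set t := h ^ M * g * (h ^ M)⁻¹ * g⁻¹
  have htG : t ∈ G α k := mul_mem (mul_mem (mul_mem (pow_mem hh _) hg) (inv_mem (pow_mem hh _))) (inv_mem hg)
  have hψt : ψ t = 1 := by simp [t, map_mul, map_inv, map_pow, hψpow]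
  have hφt : φ t = up (fJ α) (fJ e) := by
    refine toSL_inj hαJ ?_
    have hhM : toSL (fJ α) (φ (h ^ M)) = (⟨!![L, 0; 0, algebraMap k (R ⧸ J) l⁻¹], by
        rw [Matrix.det_fin_two_of, hL, mul_zero, sub_zero]⟩ : Matrix.SpecialLinearGroup (Fin 2) (R ⧸ J)) := by
      rw [map_pow, map_pow, hhe]
      refine Subtype.ext ?_
      refine (Matrix.SpecialLinearGroup.coe_pow _ M).trans ?_
      show !![L, 0; 0, algebraMap k (R ⧸ J) l⁻¹] ^ M = !![L, 0; 0, algebraMap k (R ⧸ J) l⁻¹]
      have : !![L, 0; 0, algebraMap k (R ⧸ J) l⁻¹] = Matrix.diagonal ![L, algebraMap k (R ⧸ J) l⁻¹] := by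
        ext a b; fin_cases a <;> fin_cases b <;> simp
      rw [this, Matrix.diagonal_pow]
      ext a b
      fin_cases a <;> fin_cases b <;> simp [L, ← map_pow, hlM, inv_pow]
    simp only [t, map_mul, map_inv]
    rw [hhM, hge]
    refine mul_inv_eq_of_eq_mul (mul_inv_eq_of_eq_mul (Subtype.ext ?_))
    show !![L, 0; 0, algebraMap k (R ⧸ J) l⁻¹] *
        (CfsgLib.ThreeTransp.sl2U (R ⧸ J) (fJ e * algebraMap k (R ⧸ J) (l * l - 1)⁻¹)).1 =
      (toSL (fJ α) (up (fJ α) (fJ e))).1 *
        (CfsgLib.ThreeTransp.sl2U (R ⧸ J) (fJ e * algebraMap k (R ⧸ J) (l * l - 1)⁻¹)).1 *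
        !![L, 0; 0, algebraMap k (R ⧸ J) l⁻¹]
    rw [CfsgLib.ThreeTransp.sl2U_val, toSL_val]
    have hl : l * l - 1 ≠ 0 := sub_ne_zero.2 fun h => (mul_self_eq_one_iff.1 h).elim hl1 hl2
    have e2 : (L * L - 1) * algebraMap k (R ⧸ J) (l * l - 1)⁻¹ = 1 := by
      simp only [L, ← map_mul, ← map_one (algebraMap k (R ⧸ J)), ← map_sub, mul_inv_cancel₀ hl]
    have e1 := hL
    generalize algebraMap k (R ⧸ J) l⁻¹ = L' at e1 ⊢
    generalize algebraMap k (R ⧸ J) (l * l - 1)⁻¹ = C at e2 ⊢
    generalize fJ e = E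
    generalize L = L₀ at e1 e2 ⊢
    ext a b
    fin_cases a <;> fin_cases b <;> simp [Matrix.mul_apply, Fin.sum_univ_two]
    linear_combination (L' * E) * e2 - (E * C * L₀) * e1
  have key : ∀ y z : R, fJ y = fJ z → f y = f z → y = z := fun y z hy hz => sub_eq_zero.1
    (hJI _ (Ideal.Quotient.eq_zero_iff_mem.1 (show fJ (y - z) = 0 by rw [map_sub, hy, sub_self]))
      ((hfI _).1 (by rw [map_sub, hz, sub_self])))
  have hfe : f e = 0 := (hfI _).2 heI
  refine ⟨e, ?_, ?_⟩
  · rintro ⟨b, hb⟩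
    have hb0 : algebraMap k (R ⧸ I) b = 0 := by rw [← f.commutes, hb, hfe]
    rw [map_eq_zero] at hb0
    rw [hb0, map_zero] at hb
    rw [← hb, zero_mul] at hej
    exact hj2 (by rw [← hej, zero_mul])
  · suffices t = up α e from this ▸ htG
    refine Tw.ext ?_ ?_ ?_ ?_ <;> apply key
    · exact congrArg Tw.r hφt
    · exact (congrArg Tw.r hψt).trans hfe.symm
    · exact (congrArg Tw.q hφt).trans (map_zero fJ).symm
    · exact (congrArg Tw.q hψt).trans (map_zero f).symm
    · exact (congrArg Tw.u hφt).trans (map_zero fJ).symm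
    · exact (congrArg Tw.u hψt).trans (map_zero f).symm
    · exact (congrArg Tw.v hφt).trans (map_zero fJ).symm
    · exact (congrArg Tw.v hψt).trans (map_zero f).symm

end CfsgLib.TensorWreath.Tw
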