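import Cfsg.Agent.Lib.TensorWreath.Tw

/-! Upper elements outside the scalars when `α` is quadratic over the scalars. -/

set_option autoImplicit false

namespace CfsgLib.TensorWreath.Tw

variable {R : Type*} [CommRing R] {k : Type*} [Field k] [Algebra k R] {α : R}

/-- The word of length five. -/
theorem rad_of_five (hk : ∃ l : k, l ≠ 0 ∧ l ≠ 1) {A B : k}
    (hα : α * α = algebraMap k R A * α + algebraMap k R B) (hn : α ∉ Set.range (algebraMap k R))
    {x y s s' : k} (hx : x ≠ 0) (hy : y ≠ 0) (hs : s ≠ 0)
    (e1 : 1 + y + x + B * x * (s * s' * y) = 0)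
    (e2 : s * (x + y) + s' * (1 + y) * x + A * x * (s * s' * y) = 0)
    (hc : s' * x ≠ s * y) : Rad α k := by
  set i := algebraMap k R
  set g := lo α (i x) * up α (i s') * lo α (i y) * up α (i s) * lo α (i 1) with hgdef
  have hg : g ∈ G α k :=
    mul_mem (mul_mem (mul_mem (mul_mem (lo_mem x) (up_mem s')) (lo_mem y)) (up_mem s)) (lo_mem 1)
  have e1' := congrArg i e1
  have e2' := congrArg i e2
  simp only [map_add, map_mul, map_one, map_zero] at e1' e2'
  have hr : g.r = i s + i s' + α * (i s * i s' * i y) := by simp [hgdef]; ring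
  have hu : g.u = i s + i s' * (1 + i y) + α * (i s * i s' * i y) := by simp [hgdef]; ring
  have hq : g.q = 0 := by
    simp [hgdef]
    linear_combination e1' + α * e2' + (i x * (i s * i s' * i y)) * hα
  refine rad_of_triangular hk hg hq ?_
  rintro ⟨w, hw⟩
  set c : k := -x * ((1 + y) * (s + s') + B * (s * s' * y) * (s * y))
  set d : k := -(s * y) * (s' * x - s * y)
  have key : i x * i x * (g.r * (1 + α * g.u)) = i c + α * i d := by
    rw [hr, hu]
    simp only [c, d, map_mul, map_neg, map_add, map_sub, map_one]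
    linear_combination (i x * (i s + i s' + α * (i s * i s' * i y))) * e1' +
      (i x * (i s + i s' + α * (i s * i s' * i y)) * α - α * (i s * i y)) * e2' +
      (i x * i x * (i s + i s' + α * (i s * i s' * i y)) * (i s * i s' * i y) -
        i x * (i s * i s' * i y) * (i s * i y)) * hα
  have hd : d ≠ 0 := mul_ne_zero (neg_ne_zero.2 (mul_ne_zero hs hy)) (sub_ne_zero.2 hc)
  refine hn ⟨d⁻¹ * (x * x * w - c), ?_⟩
  rw [← hw] at key
  have hd' : i d⁻¹ * i d = 1 := by rw [← map_mul, inv_mul_cancel₀ hd, map_one]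
  simp only [map_mul, map_sub]
  linear_combination i d⁻¹ * key + α * hd'

variable [Finite k]

theorem exists_ne_three (h5 : 5 ≤ Nat.card k) (a b c : k) : ∃ z, z ≠ a ∧ z ≠ b ∧ z ≠ c := by
  classical
  haveI := Fintype.ofFinite k
  by_contra hcon
  push Not at hcon
  have hsub : (Finset.univ : Finset k) ⊆ {a, b, c} := fun z _ => by
    simp only [Finset.mem_insert, Finset.mem_singleton]
    by_cases za : z = a
    · exact Or.inl za
    by_cases zb : z = b
    · exact Or.inr (Or.inl zb)
    exact Or.inr (Or.inr (hcon z za zb))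
  have := (Finset.card_le_card hsub).trans Finset.card_le_three
  rw [Finset.card_univ, ← Nat.card_eq_fintype_card] at this
  omega

theorem rad_quad (h2 : (2 : k) ≠ 0) (h5 : 5 ≤ Nat.card k) {A B : k}
    (hα : α * α = algebraMap k R A * α + algebraMap k R B) (hn : α ∉ Set.range (algebraMap k R)) :
    Rad α k := by
  classical
  haveI := Fintype.ofFinite k
  have h21 : (2 : k) ≠ 1 := fun h => one_ne_zero (α := k) (by linear_combination h)
  have h11 : (1 : k) + 1 ≠ 0 := fun h => h2 (by linear_combination h)
  have hk : ∃ l : k, l ≠ 0 ∧ l ≠ 1 := ⟨2, h2, h21⟩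
  by_cases hB : B = 0
  · -- `B = 0`
    subst hB
    obtain ⟨d, hd0, hd1, hd2⟩ := exists_ne_three h5 0 1 2
    by_cases hA : A = 0
    · subst hA
      exact rad_of_five hk hα hn (x := -2) (y := 1) (s := -4) (s' := 1) (neg_ne_zero.2 h2) one_ne_zero
        (by
          intro h
          exact h2 (mul_self_eq_zero.1 (by linear_combination -h)))
        (by ring) (by ring) (by intro h; exact h2 (by linear_combination h))
    · set s' := (d - 1) / (2 * A) with hs'
      have hs'0 : s' ≠ 0 := div_ne_zero (sub_ne_zero.2 hd1) (mul_ne_zero h2 hA)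
      have hD : 1 + 2 * A * s' = d := by rw [hs']; field_simp; ring
      refine rad_of_five hk hα hn (x := -2) (y := 1) (s := -4 * s' / d) (s' := s') (neg_ne_zero.2 h2) one_ne_zero
        (div_ne_zero (mul_ne_zero (fun h => h2 (mul_self_eq_zero.1 (by linear_combination -h))) hs'0) hd0)
        (by ring) ?_ ?_
      · have : -4 * s' / d * d = -4 * s' := div_mul_cancel₀ _ hd0
        rw [← hD] at this ⊢
        linear_combination -this
      · intro h
        rw [mul_one, eq_div_iff hd0] at h
        have : s' * (2 * (2 - d)) = 0 := by linear_combination h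
        simp [hs'0, h2, sub_eq_zero, hd2.symm] at this
  by_cases hA : A = 0
  · -- `α² = B`
    subst hA
    obtain ⟨v, w, s, hv0, hv1, hw0, hw1, hvw, hs⟩ : ∃ v w s : k, v ≠ 0 ∧ v ≠ 1 ∧ w ≠ 0 ∧ w ≠ 1 ∧ v ≠ w ∧
        B * (s * s) = v * w := by
      obtain ⟨z, hz0, hz1, hz2⟩ := exists_ne_three h5 0 1 (-1)
      have hzz : z * z ≠ 1 := fun h => (mul_self_eq_one_iff.1 h).elim hz1 hz2
      by_cases hsq : IsSquare B
      · obtain ⟨c, rfl⟩ := hsq
        have hc : c ≠ 0 := fun h => hB (by rw [h, mul_zero])
        refine ⟨z, z⁻¹, c⁻¹, hz0, hz1, inv_ne_zero hz0, by simpa using hz1, fun h => hzz ?_, ?_⟩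
        · calc z * z = z * z⁻¹ := by rw [← h]
            _ = 1 := mul_inv_cancel₀ hz0
        · field_simp
      · exact ⟨z * z, B, z, mul_ne_zero hz0 hz0, hzz, hB, fun h => hsq (h ▸ IsSquare.one),
          fun h => hsq ⟨z, h.symm⟩, by ring⟩
    have main : ∀ v w : k, v ≠ 0 → v ≠ 1 → w ≠ 0 → w ≠ 1 → v ≠ w → B * (s * s) = v * w →
        1 / (w - 1) ≠ -(1 / (v - 1)) * (1 + 1 / (v - 1)) → Rad α k := by
      intro v w hv0 hv1 hw0 hw1 hvw hs hne
      have hv' := sub_ne_zero.2 hv1
      have hw' := sub_ne_zero.2 hw1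
      set y := 1 / (v - 1) with hy
      set u := 1 / (w - 1) with hu
      have hy0 : y ≠ 0 := one_div_ne_zero hv'
      have hy1 : 1 + y ≠ 0 := by
        rw [show 1 + y = v / (v - 1) by rw [hy]; field_simp; ring]; exact div_ne_zero hv0 hv'
      have hx : u - y ≠ 0 := sub_ne_zero.2 fun e => hvw (by
        rw [hy, hu, div_eq_div_iff hw' hv'] at e
        linear_combination e)
      have hs0 : s ≠ 0 := fun e => mul_ne_zero hv0 hw0 (by rw [← hs, e]; ring)
      have h1 : y * u * (v * w) = (1 + y) * (1 + u) := by rw [hy, hu]; field_simp; ring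
      refine rad_of_five hk hα hn (x := u - y) (y := y) (s := s) (s' := -(s * u) / ((1 + y) * (u - y))) hx hy0 hs0
        ?_ ?_ ?_
      · rw [← hs] at h1
        field_simp
        linear_combination -h1
      · field_simp
        ring
      · intro h
        rw [div_mul_eq_mul_div, div_eq_iff (mul_ne_zero hy1 hx)] at h
        have h' : (u - y) * s * (u + y * (1 + y)) = 0 := by linear_combination -h
        simp only [mul_eq_zero, hx, hs0, false_or] at h'
        exact hne (by linear_combination h')
    by_cases hne : 1 / (w - 1) = -(1 / (v - 1)) * (1 + 1 / (v - 1))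
    · refine main w v hw0 hw1 hv0 hv1 hvw.symm (by rw [hs]; ring) fun h' => ?_
      set y := 1 / (v - 1) with hy
      set u := 1 / (w - 1) with hu
      have hy0 : y ≠ 0 := one_div_ne_zero (sub_ne_zero.2 hv1)
      have huy : u ≠ y := fun e => hvw (by
        rw [hy, hu, div_eq_div_iff (sub_ne_zero.2 hw1) (sub_ne_zero.2 hv1)] at e
        linear_combination e)
      have h0 : (u - y) * (u + y) = 0 := by linear_combination h' - hne
      rcases mul_eq_zero.1 h0 with e | e
      · exact huy (sub_eq_zero.1 e)
      · exact hy0 (mul_self_eq_zero.1 (by linear_combination hne - e))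
    · exact main v w hv0 hv1 hw0 hw1 hvw hs hne
  · -- `A ≠ 0`, `B ≠ 0`
    by_cases h4 : 4 * B + A * A = 0
    · have e : A * A = -4 * B := by linear_combination h4
      refine rad_of_five hk hα hn (x := -1) (y := -1) (s := A / (2 * B)) (s' := 2 / A) (neg_ne_zero.2 one_ne_zero)
        (neg_ne_zero.2 one_ne_zero) (div_ne_zero hA (mul_ne_zero h2 hB)) ?_ ?_ ?_
      · field_simp; ring
      · field_simp; ring
      · intro h
        field_simp at h
        have h' : B * (2 * (2 * 2)) = 0 := by linear_combination e - h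
        simp [hB, h2] at h'
    · refine rad_of_five hk hα hn (x := -1) (y := 1) (s := -2 / A) (s' := -A / (2 * B)) (neg_ne_zero.2 one_ne_zero)
        one_ne_zero (div_ne_zero (neg_ne_zero.2 h2) hA) ?_ ?_ ?_
      · field_simp; ring
      · field_simp; ring
      · intro h
        field_simp at h
        exact h4 (by linear_combination h)

end CfsgLib.TensorWreath.Tw
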