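import Cfsg.Agent.Lib.TensorWreath.Tw

/-! Explicit words in the twisted group over a base field of three elements. -/

set_option autoImplicit false
set_option maxHeartbeats 1000000

namespace CfsgLib.TensorWreath.Tw

variable {R : Type*} [CommRing R] {k : Type*} [Field k] [Algebra k R] {α : R}

theorem up_one_mem : up α (1 : R) ∈ G α k := by simpa using up_mem (α := α) (R := R) (1 : k)
theorem up_neg_one_mem : up α (-1 : R) ∈ G α k := by simpa using up_mem (α := α) (R := R) (-1 : k)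
theorem lo_one_mem : lo α (1 : R) ∈ G α k := by simpa using lo_mem (α := α) (R := R) (1 : k)
theorem lo_neg_one_mem : lo α (-1 : R) ∈ G α k := by simpa using lo_mem (α := α) (R := R) (-1 : k)

theorem lev_zz (h3 : (3 : R) = 0) (hα : α ^ 3 - (0 : R) * α ^ 2 - (0 : R) * α = 0) :
    ∃ g ∈ G α k, g.q = 0 ∧ ∃ w, α * g.u = (0 : R) + (-1 : R) * α + (α * α - (0 : R) * α - (0 : R)) * w := by
  refine ⟨lo α 1 * up α 1 * lo α 1 * up α 1 * lo α (-1) * up α 1 * lo α (-1), (by repeat first | exact up_one_mem | exact up_neg_one_mem | exact lo_one_mem | exact lo_neg_one_mem | refine mul_mem ?_ ?_), ?_, ((-1 : R) * α ^ 0 + (1 : R) * α ^ 1), ?_⟩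
  · simp
    linear_combination ((1 : R) * α ^ 0) * hα + ((-2 : R) * α ^ 1) * h3
  · simp
    linear_combination ((-1 : R) * α ^ 1) * h3

theorem lev_zp (h3 : (3 : R) = 0) (hα : α ^ 3 - (0 : R) * α ^ 2 - (1 : R) * α = 0) :
    ∃ g ∈ G α k, g.q = 0 ∧ ∃ w, α * g.u = (-1 : R) + (-1 : R) * α + (α * α - (0 : R) * α - (1 : R)) * w := by
  refine ⟨lo α 1 * up α 1 * lo α 1 * up α 1 * lo α 1 * up α 1 * lo α 1 * up α 1 * lo α 1 * up α 1 * lo α 1, (by repeat first | exact up_one_mem | exact up_neg_one_mem | exact lo_one_mem | exact lo_neg_one_mem | refine mul_mem ?_ ?_), ?_, ((44 : R) * α ^ 0 + (29 : R) * α ^ 1 + (9 : R) * α ^ 2 + (1 : R) * α ^ 3), ?_⟩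
  · simp
    linear_combination ((37 : R) * α ^ 0 + (10 : R) * α ^ 1 + (1 : R) * α ^ 2) * hα + ((2 : R) * α ^ 0 + (24 : R) * α ^ 1 + (22 : R) * α ^ 2) * h3
  · simp
    linear_combination ((15 : R) * α ^ 0 + (15 : R) * α ^ 1) * h3

theorem lev_zm (h3 : (3 : R) = 0) (hα : α ^ 3 - (0 : R) * α ^ 2 - (-1 : R) * α = 0) :
    ∃ g ∈ G α k, g.q = 0 ∧ ∃ w, α * g.u = (-1 : R) + (1 : R) * α + (α * α - (0 : R) * α - (-1 : R)) * w := by
  refine ⟨lo α 1 * up α 1 * lo α 1 * up α (-1) * lo α (-1) * up α 1 * lo α (-1), (by repeat first | exact up_one_mem | exact up_neg_one_mem | exact lo_one_mem | exact lo_neg_one_mem | refine mul_mem ?_ ?_), ?_, ((1 : R) * α ^ 0 + (-1 : R) * α ^ 1), ?_⟩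
  · simp
    linear_combination ((-1 : R) * α ^ 0) * hα + ((1 : R) * α ^ 1) * h3
  · simp
    linear_combination ((0 : R)) * h3

theorem lev_pz (h3 : (3 : R) = 0) (hα : α ^ 3 - (1 : R) * α ^ 2 - (0 : R) * α = 0) :
    ∃ g ∈ G α k, g.q = 0 ∧ ∃ w, α * g.u = (0 : R) + (1 : R) * α + (α * α - (1 : R) * α - (0 : R)) * w := by
  refine ⟨lo α 1 * up α 1 * lo α 1 * up α 1 * lo α 1 * up α 1 * lo α (-1) * up α 1 * lo α 1, (by repeat first | exact up_one_mem | exact up_neg_one_mem | exact lo_one_mem | exact lo_neg_one_mem | refine mul_mem ?_ ?_), ?_, ((-3 : R) * α ^ 0 + (-4 : R) * α ^ 1 + (-1 : R) * α ^ 2), ?_⟩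
  · simp
    linear_combination ((-5 : R) * α ^ 0 + (-1 : R) * α ^ 1) * hα + ((1 : R) * α ^ 0 + (2 : R) * α ^ 1 + (-2 : R) * α ^ 2) * h3
  · simp
    linear_combination ((0 : R)) * h3

theorem lev_pp (h3 : (3 : R) = 0) (hα : α ^ 3 - (1 : R) * α ^ 2 - (1 : R) * α = 0) :
    ∃ g ∈ G α k, g.q = 0 ∧ ∃ w, α * g.u = (0 : R) + (1 : R) * α + (α * α - (1 : R) * α - (1 : R)) * w := by
  refine ⟨lo α 1 * up α 1 * lo α 1 * up α 1 * lo α 1 * up α (-1) * lo α (-1) * up α (-1) * lo α 1, (by repeat first | exact up_one_mem | exact up_neg_one_mem | exact lo_one_mem | exact lo_neg_one_mem | refine mul_mem ?_ ?_), ?_, ((-6 : R) * α ^ 0 + (-4 : R) * α ^ 1 + (-1 : R) * α ^ 2), ?_⟩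
  · simp
    linear_combination ((-5 : R) * α ^ 0 + (-1 : R) * α ^ 1) * hα + ((1 : R) * α ^ 0 + (-1 : R) * α ^ 1 + (-3 : R) * α ^ 2) * h3
  · simp
    linear_combination ((-2 : R) * α ^ 0 + (-3 : R) * α ^ 1) * h3

theorem lev_pm (h3 : (3 : R) = 0) (hα : α ^ 3 - (1 : R) * α ^ 2 - (-1 : R) * α = 0) :
    ∃ g ∈ G α k, g.q = 0 ∧ ∃ w, α * g.u = (1 : R) + (1 : R) * α + (α * α - (1 : R) * α - (-1 : R)) * w := by
  refine ⟨lo α 1 * up α (-1) * lo α 1 * up α 1 * lo α (-1) * up α 1 * lo α (-1), (by repeat first | exact up_one_mem | exact up_neg_one_mem | exact lo_one_mem | exact lo_neg_one_mem | refine mul_mem ?_ ?_), ?_, ((2 : R) * α ^ 0 + (-1 : R) * α ^ 1), ?_⟩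
  · simp
    linear_combination ((-1 : R) * α ^ 0) * hα + ((-1 : R) * α ^ 1 + (1 : R) * α ^ 2) * h3
  · simp
    linear_combination ((-1 : R) * α ^ 0) * h3

theorem lev_mz (h3 : (3 : R) = 0) (hα : α ^ 3 - (-1 : R) * α ^ 2 - (0 : R) * α = 0) :
    ∃ g ∈ G α k, g.q = 0 ∧ ∃ w, α * g.u = (0 : R) + (-1 : R) * α + (α * α - (-1 : R) * α - (0 : R)) * w := by
  refine ⟨lo α 1 * up α 1 * lo α 1 * up α (-1) * lo α (-1) * up α 1 * lo α 1 * up α (-1) * lo α 1, (by repeat first | exact up_one_mem | exact up_neg_one_mem | exact lo_one_mem | exact lo_neg_one_mem | refine mul_mem ?_ ?_), ?_, ((-3 : R) * α ^ 0 + (2 : R) * α ^ 1 + (-1 : R) * α ^ 2), ?_⟩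
  · simp
    linear_combination ((1 : R) * α ^ 0 + (-1 : R) * α ^ 1) * hα + ((1 : R) * α ^ 0) * h3
  · simp
    linear_combination ((2 : R) * α ^ 1) * h3

theorem lev_mp (h3 : (3 : R) = 0) (hα : α ^ 3 - (-1 : R) * α ^ 2 - (1 : R) * α = 0) :
    ∃ g ∈ G α k, g.q = 0 ∧ ∃ w, α * g.u = (-1 : R) + (1 : R) * α + (α * α - (-1 : R) * α - (1 : R)) * w := by
  refine ⟨lo α 1 * up α 1 * lo α 1 * up α 1 * lo α 1 * up α (-1) * lo α (-1) * up α 1 * lo α 1, (by repeat first | exact up_one_mem | exact up_neg_one_mem | exact lo_one_mem | exact lo_neg_one_mem | refine mul_mem ?_ ?_), ?_, ((2 : R) * α ^ 0 + (2 : R) * α ^ 1 + (1 : R) * α ^ 2), ?_⟩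
  · simp
    linear_combination ((3 : R) * α ^ 0 + (1 : R) * α ^ 1) * hα + ((1 : R) * α ^ 0 + (3 : R) * α ^ 1 + (1 : R) * α ^ 2) * h3
  · simp
    linear_combination ((1 : R) * α ^ 0 + (1 : R) * α ^ 1) * h3

theorem lev_mm (h3 : (3 : R) = 0) (hα : α ^ 3 - (-1 : R) * α ^ 2 - (-1 : R) * α = 0) :
    ∃ g ∈ G α k, g.q = 0 ∧ ∃ w, α * g.u = (-1 : R) + (1 : R) * α + (α * α - (-1 : R) * α - (-1 : R)) * w := by
  refine ⟨lo α 1 * up α 1 * lo α 1 * up α 1 * lo α (-1) * up α (-1) * lo α (-1), (by repeat first | exact up_one_mem | exact up_neg_one_mem | exact lo_one_mem | exact lo_neg_one_mem | refine mul_mem ?_ ?_), ?_, ((-2 : R) * α ^ 0 + (-1 : R) * α ^ 1), ?_⟩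
  · simp
    linear_combination ((-1 : R) * α ^ 0) * hα + ((-1 : R) * α ^ 1 + (-1 : R) * α ^ 2) * h3
  · simp
    linear_combination ((1 : R) * α ^ 0) * h3

theorem rad_pp (h3 : (3 : R) = 0) (hα : α ^ 2 - (1 : R) * α - (1 : R) = 0) :
    up α ((0 : R) + (1 : R) * α) ∈ G α k := by
  suffices lo α 1 * up α 1 * lo α (-1) * up α 1 * lo α 1 * up α (-1) * lo α 1 * up α (-1) * lo α (-1) = up α ((0 : R) + (1 : R) * α) from this ▸ ((by repeat first | exact up_one_mem | exact up_neg_one_mem | exact lo_one_mem | exact lo_neg_one_mem | refine mul_mem ?_ ?_))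
  ext <;> simp
  · linear_combination ((3 : R) * α ^ 0 + (-1 : R) * α ^ 1) * hα + ((1 : R) * α ^ 0 + (-1 : R) * α ^ 1) * h3
  · linear_combination ((-1 : R) * α ^ 0 + (-1 : R) * α ^ 1 + (1 : R) * α ^ 2) * hα + ((0 : R)) * h3
  · linear_combination ((-2 : R) * α ^ 0 + (1 : R) * α ^ 1) * hα + ((0 : R)) * h3
  · linear_combination ((2 : R) * α ^ 0 + (-1 : R) * α ^ 1) * hα + ((0 : R)) * h3

theorem rad_pm (h3 : (3 : R) = 0) (hα : α ^ 2 - (1 : R) * α - (-1 : R) = 0) :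
    up α ((1 : R) + (-1 : R) * α) ∈ G α k := by
  suffices lo α 1 * up α 1 * lo α 1 * up α 1 * lo α 1 * up α 1 * lo α (-1) * up α 1 * lo α (-1) = up α ((1 : R) + (-1 : R) * α) from this ▸ ((by repeat first | exact up_one_mem | exact up_neg_one_mem | exact lo_one_mem | exact lo_neg_one_mem | refine mul_mem ?_ ?_))
  ext <;> simp
  · linear_combination ((-3 : R) * α ^ 0 + (-1 : R) * α ^ 1) * hα + ((2 : R) * α ^ 0 + (1 : R) * α ^ 1) * h3
  · linear_combination ((-5 : R) * α ^ 0 + (3 : R) * α ^ 1 + (1 : R) * α ^ 2) * hα + ((2 : R) * α ^ 0 + (-6 : R) * α ^ 1) * h3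
  · linear_combination ((2 : R) * α ^ 0 + (1 : R) * α ^ 1) * hα + ((-2 : R) * α ^ 0 + (-2 : R) * α ^ 1) * h3
  · linear_combination ((-4 : R) * α ^ 0 + (-1 : R) * α ^ 1) * hα + ((4 : R) * α ^ 0) * h3

theorem rad_mp (h3 : (3 : R) = 0) (hα : α ^ 2 - (-1 : R) * α - (1 : R) = 0) :
    up α ((1 : R) + (1 : R) * α) ∈ G α k := by
  suffices lo α 1 * up α 1 * lo α 1 * up α (-1) * lo α 1 * up α 1 * lo α (-1) * up α (-1) * lo α (-1) = up α ((1 : R) + (1 : R) * α) from this ▸ ((by repeat first | exact up_one_mem | exact up_neg_one_mem | exact lo_one_mem | exact lo_neg_one_mem | refine mul_mem ?_ ?_))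
  ext <;> simp
  · linear_combination ((1 : R) * α ^ 0 + (-1 : R) * α ^ 1) * hα + ((-1 : R) * α ^ 1) * h3
  · linear_combination ((-1 : R) * α ^ 0 + (1 : R) * α ^ 1 + (1 : R) * α ^ 2) * hα + ((0 : R)) * h3
  · linear_combination ((1 : R) * α ^ 1) * hα + ((0 : R)) * h3
  · linear_combination ((-1 : R) * α ^ 1) * hα + ((0 : R)) * h3

theorem rad_mm (h3 : (3 : R) = 0) (hα : α ^ 2 - (-1 : R) * α - (-1 : R) = 0) :
    up α ((1 : R) + (1 : R) * α) ∈ G α k := by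
  suffices lo α 1 * up α 1 * lo α 1 * up α 1 * lo α (-1) * up α 1 * lo α (-1) * up α 1 * lo α (-1) = up α ((1 : R) + (1 : R) * α) from this ▸ ((by repeat first | exact up_one_mem | exact up_neg_one_mem | exact lo_one_mem | exact lo_neg_one_mem | refine mul_mem ?_ ?_))
  ext <;> simp
  · linear_combination ((-3 : R) * α ^ 0 + (1 : R) * α ^ 1) * hα + ((2 : R) * α ^ 0 + (-1 : R) * α ^ 1) * h3
  · linear_combination ((5 : R) * α ^ 0 + (3 : R) * α ^ 1 + (-1 : R) * α ^ 2) * hα + ((-2 : R) * α ^ 0 + (-6 : R) * α ^ 1) * h3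
  · linear_combination ((4 : R) * α ^ 0 + (-1 : R) * α ^ 1) * hα + ((-4 : R) * α ^ 0) * h3
  · linear_combination ((-2 : R) * α ^ 0 + (1 : R) * α ^ 1) * hα + ((2 : R) * α ^ 0 + (-2 : R) * α ^ 1) * h3

theorem rad_cubic_p (h3 : (3 : R) = 0) (hα : α ^ 3 - (2 : R) * α ^ 2 + α = 0) :
    up α ((-1 : R) + (-1 : R) * α + (1 : R) * α ^ 2) ∈ G α k := by
  suffices lo α 1 * up α 1 * lo α 1 * up α 1 * lo α 1 * up α 1 * lo α 1 * up α 1 * lo α (-1) * up α (-1) * lo α 1 * up α (-1) * lo α (-1) = up α ((-1 : R) + (-1 : R) * α + (1 : R) * α ^ 2) from this ▸ ((by repeat first | exact up_one_mem | exact up_neg_one_mem | exact lo_one_mem | exact lo_neg_one_mem | refine mul_mem ?_ ?_))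
  ext <;> simp
  · linear_combination ((-11 : R) * α ^ 0 + (-6 : R) * α ^ 1 + (-1 : R) * α ^ 2) * hα + ((1 : R) * α ^ 0 + (5 : R) * α ^ 1 + (-3 : R) * α ^ 2) * h3
  · linear_combination ((40 : R) * α ^ 0 + (24 : R) * α ^ 1 + (8 : R) * α ^ 2 + (1 : R) * α ^ 3) * hα + ((1 : R) * α ^ 0 + (-12 : R) * α ^ 1 + (18 : R) * α ^ 2) * h3
  · linear_combination ((18 : R) * α ^ 0 + (7 : R) * α ^ 1 + (1 : R) * α ^ 2) * hα + ((1 : R) * α ^ 0 + (-6 : R) * α ^ 1 + (9 : R) * α ^ 2) * h3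
  · linear_combination ((-16 : R) * α ^ 0 + (-7 : R) * α ^ 1 + (-1 : R) * α ^ 2) * hα + ((1 : R) * α ^ 0 + (8 : R) * α ^ 1 + (-5 : R) * α ^ 2) * h3

theorem rad_cubic_m (h3 : (3 : R) = 0) (hα : α ^ 3 - (-2 : R) * α ^ 2 + α = 0) :
    up α ((1 : R) + (-1 : R) * α + (-1 : R) * α ^ 2) ∈ G α k := by
  suffices lo α 1 * up α (-1) * lo α 1 * up α (-1) * lo α 1 * up α (-1) * lo α 1 * up α (-1) * lo α (-1) * up α 1 * lo α 1 * up α 1 * lo α (-1) = up α ((1 : R) + (-1 : R) * α + (-1 : R) * α ^ 2) from this ▸ ((by repeat first | exact up_one_mem | exact up_neg_one_mem | exact lo_one_mem | exact lo_neg_one_mem | refine mul_mem ?_ ?_))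
  ext <;> simp
  · linear_combination ((-11 : R) * α ^ 0 + (6 : R) * α ^ 1 + (-1 : R) * α ^ 2) * hα + ((-1 : R) * α ^ 0 + (5 : R) * α ^ 1 + (3 : R) * α ^ 2) * h3
  · linear_combination ((-40 : R) * α ^ 0 + (24 : R) * α ^ 1 + (-8 : R) * α ^ 2 + (1 : R) * α ^ 3) * hα + ((1 : R) * α ^ 0 + (12 : R) * α ^ 1 + (18 : R) * α ^ 2) * h3
  · linear_combination ((18 : R) * α ^ 0 + (-7 : R) * α ^ 1 + (1 : R) * α ^ 2) * hα + ((-1 : R) * α ^ 0 + (-6 : R) * α ^ 1 + (-9 : R) * α ^ 2) * h3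
  · linear_combination ((-16 : R) * α ^ 0 + (7 : R) * α ^ 1 + (-1 : R) * α ^ 2) * hα + ((-1 : R) * α ^ 0 + (8 : R) * α ^ 1 + (5 : R) * α ^ 2) * h3

end CfsgLib.TensorWreath.Tw
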