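import Cfsg.Agent.Lib.TensorWreath.RadGen
import Cfsg.Agent.Lib.TensorWreath.FieldThree
import Cfsg.Agent.Lib.TensorWreath.Words

/-!
Base field of three elements: if `α` lies in the subalgebra of its square then there is an upper element outside
the scalars, unless `α * α` is a multiple of `α`.
-/

set_option autoImplicit false
set_option linter.unusedSectionVars false

namespace CfsgLib.TensorWreath.Tw

universe u

variable {k : Type*} [Field k] [Finite k]

/-- `α` is a polynomial in its square. -/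
def SqGen (k : Type*) [Field k] {R : Type*} [CommRing R] [Algebra k R] (α : R) : Prop :=
  α ∈ Algebra.adjoin k ({α * α} : Set R)

theorem three_eq (hk : Nat.card k = 3) : (3 : k) = 0 := by
  haveI := Fintype.ofFinite k
  have h := Nat.cast_card_eq_zero k
  rw [← Nat.card_eq_fintype_card, hk] at h
  exact_mod_cast h

theorem two_ne (hk : Nat.card k = 3) : (2 : k) ≠ 0 := fun h =>
  one_ne_zero (α := k) (by linear_combination three_eq hk - h)

theorem three_cases (hk : Nat.card k = 3) (c : k) : c = 0 ∨ c = 1 ∨ c = -1 := by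
  classical
  haveI := Fintype.ofFinite k
  have h2 := two_ne hk
  have hne : (1 : k) ≠ -1 := fun h => h2 (by linear_combination h)
  have hu : ({0, 1, -1} : Finset k) = Finset.univ := by
    refine Finset.eq_univ_of_card _ ?_
    rw [← Nat.card_eq_fintype_card, hk, Finset.card_insert_of_notMem (by simp),
      Finset.card_insert_of_notMem (by simp [hne]), Finset.card_singleton]
  have := Finset.mem_univ c
  rw [← hu] at this
  simpa using this

section ring

variable {R : Type*} [CommRing R] [Algebra k R] {α : R}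

theorem three_eq' (hk : Nat.card k = 3) : (3 : R) = 0 := by
  have := congrArg (algebraMap k R) (three_eq hk)
  rwa [map_ofNat, map_zero] at this

theorem SqGen.ann (h : SqGen k α) {y : R} (hy : α * α * y = 0) : α * y = 0 := by
  have key : ∀ z ∈ Algebra.adjoin k ({α * α} : Set R), ∃ c : k, z * y = algebraMap k R c * y := by
    intro z hz
    induction hz using Algebra.adjoin_induction with
    | mem z hz => rw [Set.mem_singleton_iff] at hz; exact ⟨0, by rw [hz, hy, map_zero, zero_mul]⟩
    | algebraMap r => exact ⟨r, rfl⟩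
    | add z w _ _ hz hw =>
      obtain ⟨c, hc⟩ := hz; obtain ⟨d, hd⟩ := hw
      exact ⟨c + d, by rw [map_add, add_mul, add_mul, hc, hd]⟩
    | mul z w _ _ hz hw =>
      obtain ⟨c, hc⟩ := hz; obtain ⟨d, hd⟩ := hw
      exact ⟨c * d, by rw [map_mul]; linear_combination z * hd + algebraMap k R d * hc⟩
  obtain ⟨c, hc⟩ := key α h
  rcases eq_or_ne c 0 with rfl | hc0
  · rw [hc, map_zero, zero_mul]
  have e : algebraMap k R (c * c) * y = 0 := by
    rw [map_mul]; linear_combination hy - α * hc - algebraMap k R c * hc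
  have := congrArg (algebraMap k R (c * c)⁻¹ * ·) e
  simp only [mul_zero, ← mul_assoc, ← map_mul, inv_mul_cancel₀ (mul_ne_zero hc0 hc0), map_one, one_mul] at this
  rw [this, mul_zero]

theorem SqGen.map {S : Type*} [CommRing S] [Algebra k S] (f : R →ₐ[k] S) (h : SqGen k α) : SqGen k (f α) := by
  have : f α ∈ (Algebra.adjoin k ({α * α} : Set R)).map f := ⟨α, h, rfl⟩
  rw [← Algebra.adjoin_image, Set.image_singleton, map_mul] at this
  exact this

theorem SqGen.sq_not_scalar (h : SqGen k α) (hn : α ∉ Set.range (algebraMap k R)) :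
    α * α ∉ Set.range (algebraMap k R) := fun ⟨c, hc⟩ => by
  have : Algebra.adjoin k ({α * α} : Set R) ≤ ⊥ := Algebra.adjoin_le (by
    simp only [Set.singleton_subset_iff, SetLike.mem_coe, Algebra.mem_bot]
    exact ⟨c, hc⟩)
  exact hn (Algebra.mem_bot.1 (this h))

theorem quad_of_scalar {A : k} {x : R} (hn : α ∉ Set.range (algebraMap k R))
    (hx : x ∈ Set.range (algebraMap k R)) {c : k} (e : x = algebraMap k R A + algebraMap k R c * α) : c = 0 := by
  by_contra hc
  obtain ⟨b, hb⟩ := hx
  refine hn ⟨c⁻¹ * (b - A), ?_⟩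
  rw [map_mul, map_sub, hb, e, add_sub_cancel_left, ← mul_assoc, ← map_mul, inv_mul_cancel₀ hc, map_one, one_mul]

theorem eq_linear {A B : k} (hα : α * α = algebraMap k R A * α + algebraMap k R B)
    (hgen : Algebra.adjoin k ({α} : Set R) = ⊤) (y : R) :
    ∃ a b : k, y = algebraMap k R a + algebraMap k R b * α := by
  have hy : y ∈ Algebra.adjoin k ({α} : Set R) := hgen ▸ Algebra.mem_top
  induction hy using Algebra.adjoin_induction with
  | mem z hz => exact ⟨0, 1, by rw [Set.mem_singleton_iff.1 hz]; simp⟩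
  | algebraMap c => exact ⟨c, 0, by simp⟩
  | add z w _ _ hz hw =>
    obtain ⟨a, b, rfl⟩ := hz; obtain ⟨a', b', rfl⟩ := hw
    exact ⟨a + a', b + b', by simp [add_mul]; ring⟩
  | mul z w _ _ hz hw =>
    obtain ⟨a, b, rfl⟩ := hz; obtain ⟨a', b', rfl⟩ := hw
    exact ⟨a * a' + b * b' * B, a * b' + b * a' + b * b' * A, by
      simp only [map_add, map_mul]
      linear_combination (algebraMap k R b * algebraMap k R b') * hα⟩

theorem rad_quad_three (hk : Nat.card k = 3) {A B : k} (hA : A ≠ 0) (hB : B ≠ 0)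
    (hα : α * α = algebraMap k R A * α + algebraMap k R B) (hn : α ∉ Set.range (algebraMap k R)) : Rad α k := by
  have h3 := three_eq' (R := R) hk
  have fin : ∀ c₀ c₁ : k, c₁ ≠ 0 → up α (algebraMap k R c₀ + algebraMap k R c₁ * α) ∈ G α k → Rad α k :=
    fun c₀ c₁ hc h => ⟨_, fun hr => hc (quad_of_scalar hn hr rfl), h⟩
  have h10 : (1 : k) ≠ 0 := one_ne_zero
  have hm0 : (-1 : k) ≠ 0 := neg_ne_zero.2 h10
  rcases three_cases hk A with rfl | rfl | rfl
  · exact absurd rfl hA
  all_goals rcases three_cases hk B with rfl | rfl | rfl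
  all_goals first | exact absurd rfl hB | skip
  · exact fin 0 1 h10 (by simpa using rad_pp (α := α) (k := k) h3 (by simp at hα; linear_combination hα))
  · exact fin 1 (-1) hm0 (by simpa using rad_pm (α := α) (k := k) h3 (by simp at hα; linear_combination hα))
  · exact fin 1 1 h10 (by simpa using rad_mp (α := α) (k := k) h3 (by simp at hα; linear_combination hα))
  · exact fin 1 1 h10 (by simpa using rad_mm (α := α) (k := k) h3 (by simp at hα; linear_combination hα))

/-- An upper triangular element with a non-scalar diagonal. -/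
theorem lev_three (hk : Nat.card k = 3) {A B : k}
    (hα : α ^ 3 - algebraMap k R A * α ^ 2 - algebraMap k R B * α = 0) :
    ∃ g ∈ G α k, g.q = 0 ∧ ∃ e f : k, f ≠ 0 ∧ ∃ w, α * g.u =
      algebraMap k R e + algebraMap k R f * α + (α * α - algebraMap k R A * α - algebraMap k R B) * w := by
  have h3 := three_eq' (R := R) hk
  have h10 : (1 : k) ≠ 0 := one_ne_zero
  have hm0 : (-1 : k) ≠ 0 := neg_ne_zero.2 h10
  rcases three_cases hk A with rfl | rfl | rfl <;> rcases three_cases hk B with rfl | rfl | rfl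
  · obtain ⟨g, hg, hq, w, hw⟩ := lev_zz (k := k) (α := α) h3
      (by simpa only [map_zero, map_one, map_neg] using hα)
    exact ⟨g, hg, hq, 0, (-1), hm0, w,
      by simp only [map_zero, map_one, map_neg]; linear_combination hw⟩
  · obtain ⟨g, hg, hq, w, hw⟩ := lev_zp (k := k) (α := α) h3
      (by simpa only [map_zero, map_one, map_neg] using hα)
    exact ⟨g, hg, hq, (-1), (-1), hm0, w,
      by simp only [map_zero, map_one, map_neg]; linear_combination hw⟩
  · obtain ⟨g, hg, hq, w, hw⟩ := lev_zm (k := k) (α := α) h3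
      (by simpa only [map_zero, map_one, map_neg] using hα)
    exact ⟨g, hg, hq, (-1), 1, h10, w,
      by simp only [map_zero, map_one, map_neg]; linear_combination hw⟩
  · obtain ⟨g, hg, hq, w, hw⟩ := lev_pz (k := k) (α := α) h3
      (by simpa only [map_zero, map_one, map_neg] using hα)
    exact ⟨g, hg, hq, 0, 1, h10, w,
      by simp only [map_zero, map_one, map_neg]; linear_combination hw⟩
  · obtain ⟨g, hg, hq, w, hw⟩ := lev_pp (k := k) (α := α) h3
      (by simpa only [map_zero, map_one, map_neg] using hα)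
    exact ⟨g, hg, hq, 0, 1, h10, w,
      by simp only [map_zero, map_one, map_neg]; linear_combination hw⟩
  · obtain ⟨g, hg, hq, w, hw⟩ := lev_pm (k := k) (α := α) h3
      (by simpa only [map_zero, map_one, map_neg] using hα)
    exact ⟨g, hg, hq, 1, 1, h10, w,
      by simp only [map_zero, map_one, map_neg]; linear_combination hw⟩
  · obtain ⟨g, hg, hq, w, hw⟩ := lev_mz (k := k) (α := α) h3
      (by simpa only [map_zero, map_one, map_neg] using hα)
    exact ⟨g, hg, hq, 0, (-1), hm0, w,
      by simp only [map_zero, map_one, map_neg]; linear_combination hw⟩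
  · obtain ⟨g, hg, hq, w, hw⟩ := lev_mp (k := k) (α := α) h3
      (by simpa only [map_zero, map_one, map_neg] using hα)
    exact ⟨g, hg, hq, (-1), 1, h10, w,
      by simp only [map_zero, map_one, map_neg]; linear_combination hw⟩
  · obtain ⟨g, hg, hq, w, hw⟩ := lev_mm (k := k) (α := α) h3
      (by simpa only [map_zero, map_one, map_neg] using hα)
    exact ⟨g, hg, hq, (-1), 1, h10, w,
      by simp only [map_zero, map_one, map_neg]; linear_combination hw⟩

end ring

section field

variable {K : Type*} [Field K] [Algebra k K] [Finite K] {α : K}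

open CfsgLib.ThreeTransp in
theorem exists_toSL_three (hk : Nat.card k = 3) (hn : α ∉ Set.range (algebraMap k K)) (hs : SqGen k α)
    (hgen : Algebra.adjoin k ({α} : Set K) = ⊤) (x : Matrix.SpecialLinearGroup (Fin 2) K) :
    ∃ g ∈ G α k, toSL α g = x := by
  haveI : Module.Finite k K := Module.Finite.of_finite
  have hα : α ≠ 0 := fun e => hn ⟨0, by rw [map_zero, e]⟩
  have hle : pairGroup k α ≤ (G α k).map (toSL α) := (Subgroup.closure_le _).2 (by
    rintro _ (⟨c, rfl⟩ | ⟨c, rfl⟩)
    · exact ⟨_, up_mem c, Subtype.ext (by simp [sl2U_val])⟩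
    · exact ⟨_, lo_mem c, Subtype.ext (by simp [sl2L_val, mul_comm])⟩)
  suffices htop : (G α k).map (toSL α) = ⊤ from (htop.ge (Subgroup.mem_top x) : x ∈ _)
  by_cases hq : ∃ A B : k, α * α = algebraMap k K A * α + algebraMap k K B
  · obtain ⟨A, B, hAB⟩ := hq
    have hA : A ≠ 0 := fun e => hs.sq_not_scalar hn ⟨B, by rw [hAB, e, map_zero, zero_mul, zero_add]⟩
    have hB : B ≠ 0 := fun e => hn ⟨A, (mul_right_cancel₀ hα (by
      rw [hAB, e, map_zero, add_zero])).symm⟩
    obtain ⟨r, hr, hmem⟩ := rad_quad_three hk hA hB hAB hn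
    set U := uSet ((G α k).map (toSL α))
    have hrU : r ∈ U := ⟨_, hmem, Subtype.ext (by simp [sl2U_val])⟩
    have h1U : ∀ c : k, algebraMap k K c ∈ U := fun c => hle (pairGroup_U α c)
    have hsm : ∀ (c : k) (y : K), y ∈ U → algebraMap k K c * y ∈ U := fun c y hy => by
      rcases three_cases hk c with rfl | rfl | rfl
      · simp
      · simpa using hy
      · simpa using U.neg_mem hy
    obtain ⟨a, b, hab⟩ := eq_linear hAB hgen r
    have hb : b ≠ 0 := fun e => hr ⟨a, by rw [hab, e, map_zero, zero_mul, add_zero]⟩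
    have hαU : α ∈ U := by
      have := hsm b⁻¹ _ (U.sub_mem hrU (h1U a))
      rwa [hab, add_sub_cancel_left, ← mul_assoc, ← map_mul, inv_mul_cancel₀ hb, map_one, one_mul] at this
    refine eq_top_of_uSet (fun y => ?_) hα (hle (by simpa using pairGroup_L (k := k) α 1))
    show y ∈ U
    obtain ⟨a', b', rfl⟩ := eq_linear hAB hgen y
    exact U.add_mem (h1U _) (hsm _ _ hαU)
  · push Not at hq
    have h2K : (2 : K) ≠ 0 := fun h => two_ne hk ((algebraMap k K).injective (by rw [map_ofNat, map_zero, h]))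
    exact eq_top_iff.2 ((pairGroup_eq_top_three h2K hα hk hq hgen).ge.trans hle)

end field

theorem rad_three (hk : Nat.card k = 3) :
    ∀ (R : Type u) [CommRing R] [Algebra k R] [Finite R] (α : R),
      Algebra.adjoin k ({α} : Set R) = ⊤ → α ∉ Set.range (algebraMap k R) → SqGen k α →
      Rad α k ∨ ∃ A : k, α * α = algebraMap k R A * α := by
  classical
  intro R _ _ _
  induction hN : Nat.card R using Nat.strong_induction_on generalizing R with
  | _ N ih =>
  intro α hgen hn hsq
  set i := algebraMap k R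
  by_cases hq : ∃ A B : k, α * α = i A * α + i B
  · obtain ⟨A, B, h⟩ := hq
    rcases eq_or_ne B 0 with rfl | hB
    · exact Or.inr ⟨A, by rw [h, map_zero, add_zero]⟩
    refine Or.inl (rad_quad_three hk (fun e => hsq.sq_not_scalar hn ⟨B, ?_⟩) hB h hn)
    rw [h, e, map_zero, zero_mul, zero_add]
  refine Or.inl ?_
  have hann := fun y => hsq.ann (y := y)
  have hα0 : α ≠ 0 := fun e => hn ⟨0, by rw [map_zero, e]⟩
  haveI : Nontrivial R := ⟨⟨α, 0, hα0⟩⟩
  obtain ⟨p, hpk⟩ := CharP.exists k
  haveI : Fact p.Prime := ⟨CharP.char_is_prime k p⟩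
  haveI : CharP R p := charP_of_injective_algebraMap i.injective p
  have hp2 : p ≠ 2 := fun e => two_ne hk (by subst e; exact_mod_cast CharP.cast_eq_zero k 2)
  have hp3 : 3 ≤ p := by have := (Fact.out : p.Prime).two_le; omega
  have hl : ∃ l : k, l ≠ 0 ∧ l ≠ 1 := ⟨2, two_ne hk, fun h => one_ne_zero (α := k) (by linear_combination h)⟩
  obtain ⟨I, hIat, hIle⟩ := (IsAtomic.eq_bot_or_exists_atom_le (Ideal.span {α})).resolve_left (by simpa using hα0)
  have hsimple : ∀ J : Ideal R, IsAtom J → ∀ x ∈ J, x ≠ 0 → J ≤ Ideal.span {x} := fun J hJ x hx hx0 => by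
    have hle : Ideal.span {x} ≤ J := (Ideal.span_singleton_le_iff_mem _).2 hx
    rcases hJ.le_iff.1 hle with e | e
    · exact absurd (Ideal.span_singleton_eq_bot.1 e) hx0
    · exact e.ge
  have hinj : ∀ x ∈ I, α * x = 0 → x = 0 := fun x hx h0 => by
    obtain ⟨y, rfl⟩ := Ideal.mem_span_singleton'.1 (hIle hx)
    rw [mul_comm y α]
    exact hann y (by linear_combination h0)
  by_cases htop : I = ⊤
  · letI : Field R := Field.ofIsUnitOrEqZero fun a => (eq_or_ne a 0).symm.imp_left fun ha =>
      Ideal.span_singleton_eq_top.1 (top_le_iff.1 (htop ▸ hsimple I hIat a (htop ▸ Submodule.mem_top) ha))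
    obtain ⟨g, hg, e⟩ := exists_toSL_three hk hn hsq hgen (CfsgLib.ThreeTransp.sl2U R α)
    have : g = up α α := toSL_inj hα0 (e.trans (Subtype.ext (by simp [CfsgLib.ThreeTransp.sl2U_val])))
    exact ⟨α, hn, this ▸ hg⟩
  haveI : Nontrivial (R ⧸ I) := Ideal.Quotient.nontrivial_iff.2 htop
  set f := Ideal.Quotient.mkₐ k I
  have hfI : ∀ x, f x = 0 ↔ x ∈ I := fun x => Ideal.Quotient.eq_zero_iff_mem
  have rec' : ∀ J : Ideal R, J ≠ ⊥ → Ideal.Quotient.mkₐ k J α ∉ Set.range (algebraMap k (R ⧸ J)) →
      Rad (Ideal.Quotient.mkₐ k J α) k ∨ ∃ A : k, α * α - i A * α ∈ J := by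
    intro J hJ hJn
    haveI : Finite (R ⧸ J) := Finite.of_surjective _ Ideal.Quotient.mk_surjective
    have hlt : Nat.card (R ⧸ J) < Nat.card R := by
      refine lt_of_le_of_ne (Nat.card_le_card_of_surjective _ (Ideal.Quotient.mk_surjective (I := J)))
        fun hc => hJ ?_
      rw [eq_bot_iff]
      intro x hx
      exact ((Nat.bijective_iff_surjective_and_card _).2 ⟨Ideal.Quotient.mk_surjective, hc.symm⟩).1
        ((Ideal.Quotient.eq_zero_iff_mem.2 hx).trans (map_zero _).symm)
    refine (ih _ (hN ▸ hlt) (R ⧸ J) rfl _ (adjoin_image _ (Ideal.Quotient.mkₐ_surjective k J) hgen) hJn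
      (hsq.map _)).imp id fun ⟨A, hA⟩ => ⟨A, Ideal.Quotient.eq_zero_iff_mem.1 ?_⟩
    show Ideal.Quotient.mkₐ k J (α * α - i A * α) = 0
    rw [map_sub, map_mul, map_mul, AlgHom.commutes, hA, sub_self]
  -- elements of `I` with zero product
  have hdom : ∀ e : R, (∀ y ∈ I, e * y = y) → ∀ a ∈ I, ∀ b ∈ I, e ∈ I → a * b = 0 → a = 0 ∨ b = 0 := by
    intro e he a ha b hb heI hab
    refine (eq_or_ne a 0).imp_right fun ha0 => ?_
    obtain ⟨c, hc⟩ := Ideal.mem_span_singleton'.1 (hsimple I hIat a ha ha0 heI)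
    rw [← he b hb, ← hc, mul_assoc, hab, mul_zero]
  by_cases hfn : f α ∈ Set.range (algebraMap k (R ⧸ I))
  swap
  · rcases rec' I hIat.1 hfn with h | ⟨s, hs⟩
    · exact rad_lift hp3 hl f hfI (hsimple I hIat) hinj h
    have hs0 : s ≠ 0 := fun e => (hsq.map f).sq_not_scalar hfn ⟨0, by
      rw [e, map_zero, zero_mul, sub_zero] at hs
      rw [map_zero, ← map_mul, (hfI _).2 hs]⟩
    have hs1 : s * s = 1 := by
      rcases three_cases hk s with rfl | rfl | rfl
      · exact absurd rfl hs0
      · ring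
      · ring
    set j := α * α - i s * α with hjdef
    have hj0 : j ≠ 0 := fun e => hq ⟨s, 0, by rw [map_zero, add_zero]; exact sub_eq_zero.1 e⟩
    by_cases hj2 : j * j = 0
    · -- the cubic case
      have hnil : (α - i s) * j = 0 := hinj _ (I.mul_mem_left _ hs) (by rw [hjdef] at hj2 ⊢; linear_combination hj2)
      have h3 := three_eq' (R := R) hk
      have fin : ∀ c₀ c₁ c₂ : k, c₂ ≠ 0 → up α (i c₀ + i c₁ * α + i c₂ * α ^ 2) ∈ G α k → Rad α k :=
        fun c₀ c₁ c₂ hc h => ⟨_, fun ⟨b, hb⟩ => hq ⟨-(c₁ / c₂), (b - c₀) / c₂, by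
          have e : i c₂ * i c₂⁻¹ = 1 := by rw [← map_mul, mul_inv_cancel₀ hc, map_one]
          rw [map_neg, div_eq_mul_inv, div_eq_mul_inv, map_mul, map_mul, map_sub]
          linear_combination (-(α * α)) * e - (i c₂⁻¹) * hb⟩, h⟩
      rw [hjdef] at hnil
      rcases three_cases hk s with rfl | rfl | rfl
      · exact absurd rfl hs0
      · refine fin (-1) (-1) 1 one_ne_zero ?_
        simpa [i] using rad_cubic_p (α := α) (k := k) h3 (by simp [i] at hnil; linear_combination hnil)
      · refine fin 1 (-1) (-1) (neg_ne_zero.2 one_ne_zero) ?_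
        simpa [i] using rad_cubic_m (α := α) (k := k) h3 (by simp [i] at hnil; linear_combination hnil)
    -- the semisimple case: a second simple ideal where `α = s`
    have hjj : j * j ∈ I := I.mul_mem_left j hs
    obtain ⟨x, hx⟩ := Ideal.mem_span_singleton'.1 (hsimple I hIat _ hjj hj2 hs)
    set e := x * j with hedef
    have heI : e ∈ I := I.mul_mem_left x hs
    have hej : e * j = j := by rw [hedef]; linear_combination hx
    have hee : e * e = e := by linear_combination x * hej
    have heid : ∀ y ∈ I, e * y = y := fun y hy => by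
      obtain ⟨w, rfl⟩ := Ideal.mem_span_singleton'.1 (hsimple I hIat _ hs hj0 hy)
      linear_combination w * hej
    set y := (1 - e) * α with hy
    have hαy : α * y = i s * y := by rw [hy]; rw [hjdef] at hej; linear_combination -hej
    have hyall : ∀ r : R, ∃ b : k, r * y = i b * y := fun r => by
      have hr : r ∈ Algebra.adjoin k ({α} : Set R) := hgen ▸ Algebra.mem_top
      induction hr using Algebra.adjoin_induction with
      | mem z hz => exact ⟨s, by rw [Set.mem_singleton_iff.1 hz]; exact hαy⟩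
      | algebraMap c => exact ⟨c, rfl⟩
      | add z w _ _ hz hw =>
        obtain ⟨b, hb⟩ := hz; obtain ⟨b', hb'⟩ := hw
        exact ⟨b + b', by rw [map_add, add_mul, add_mul, hb, hb']⟩
      | mul z w _ _ hz hw =>
        obtain ⟨b, hb⟩ := hz; obtain ⟨b', hb'⟩ := hw
        exact ⟨b * b', by rw [map_mul]; linear_combination z * hb' + i b' * hb⟩
    have hey : e * y = 0 := by rw [hy]; linear_combination -α * hee
    have hy0 : y ≠ 0 := fun h => by
      refine hfn ⟨0, ?_⟩
      rw [map_zero, eq_comm, hfI, show α = e * α by rw [hy] at h; linear_combination h]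
      exact I.mul_mem_right _ heI
    clear_value e y
    set J : Ideal R := Ideal.span {y} with hJdef
    have hJat : IsAtom J := by
      refine ⟨by simpa [hJdef] using hy0, fun K hK => by_contra fun hne => ?_⟩
      obtain ⟨z, hz, hz0⟩ := Submodule.exists_mem_ne_zero_of_ne_bot hne
      obtain ⟨r, rfl⟩ := Ideal.mem_span_singleton'.1 (hK.le hz)
      obtain ⟨b, hb⟩ := hyall r
      rw [hb] at hz hz0
      have hb0 : b ≠ 0 := fun h => hz0 (by rw [h, map_zero, zero_mul])
      refine hK.ne (le_antisymm hK.le ((Ideal.span_singleton_le_iff_mem _).2 ?_))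
      have := K.mul_mem_left (i b⁻¹) hz
      rwa [← mul_assoc, ← map_mul, inv_mul_cancel₀ hb0, map_one, one_mul] at this
    have hJinj : ∀ z ∈ J, α * z = 0 → z = 0 := fun z hz h => by
      obtain ⟨r, rfl⟩ := Ideal.mem_span_singleton'.1 hz
      rw [mul_left_comm, hαy] at h
      have h' := congrArg (i s⁻¹ * ·) h
      simp only [mul_zero] at h'
      rw [← h']
      have e1 : i s⁻¹ * i s = 1 := by rw [← map_mul, inv_mul_cancel₀ hs0, map_one]
      linear_combination (-(r * y)) * e1
    have heJ : ∀ z ∈ J, e * z = 0 := fun z hz => by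
      obtain ⟨r, rfl⟩ := Ideal.mem_span_singleton'.1 hz
      linear_combination r * hey
    set fJ := Ideal.Quotient.mkₐ k J
    haveI : Nontrivial (R ⧸ J) := Ideal.Quotient.nontrivial_iff.2 fun h => by
      have := heJ 1 (h ▸ Submodule.mem_top)
      rw [mul_one] at this
      rw [this, zero_mul] at hej
      exact hj0 hej.symm
    have hJn : fJ α ∉ Set.range (algebraMap k (R ⧸ J)) := by
      rintro ⟨b, hb⟩
      have hm : α - i b ∈ J := Ideal.Quotient.eq_zero_iff_mem.1 (by
        show fJ (α - i b) = 0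
        rw [map_sub, AlgHom.commutes, hb, sub_self])
      obtain ⟨r, hr⟩ := Ideal.mem_span_singleton'.1 hm
      refine hq ⟨s + b, -(s * b), ?_⟩
      simp only [map_add, map_mul, map_neg]
      linear_combination r * hαy - (α - i s) * hr
    rcases rec' J hJat.1 hJn with h | ⟨s', hs'⟩
    · exact rad_lift hp3 hl fJ (fun z => Ideal.Quotient.eq_zero_iff_mem) (hsimple J hJat) hJinj h
    exfalso
    have h0 : (e * α) * (e * (α - i s')) = 0 := by
      linear_combination e * heJ _ hs'
    have he2 : e * α = 0 ∨ e * (α - i s') = 0 :=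
      hdom e heid _ (I.mul_mem_right _ heI) _ (I.mul_mem_right _ heI) heI h0
    have hje : j = e * (α * α) - i s * (e * α) := by rw [hjdef] at hej ⊢; linear_combination -hej
    rcases he2 with h | h
    · exact hj0 (by rw [hje]; linear_combination (α - i s) * h)
    have hse : s' ≠ s := fun hh => hj0 (by rw [hje]; rw [hh] at h; linear_combination α * h)
    have hs'0 : s' ≠ 0 := fun hh => hj0 (by
      rw [hh, map_zero, sub_zero] at h
      rw [hje]; linear_combination (α - i s) * h)
    have hneg : s' = -s := by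
      rcases three_cases hk s with rfl | rfl | rfl <;> rcases three_cases hk s' with rfl | rfl | rfl
      all_goals first | exact absurd rfl hs0 | exact absurd rfl hs'0 | exact absurd rfl hse | simp
    have hcub : α * α * α = α := by
      have e1 : j * (α + i s) = 0 := by
        rw [hje]; rw [hneg, map_neg] at h; linear_combination (α * α - i s * α) * h
      have e2 : i s * i s = 1 := by rw [← map_mul, hs1, map_one]
      rw [hjdef] at e1
      linear_combination e1 + α * e2
    have hspan : ∀ z ∈ Algebra.adjoin k ({α * α} : Set R), ∃ a b : k, z = i a + i b * (α * α) := by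
      intro z hz
      induction hz using Algebra.adjoin_induction with
      | mem z hz => exact ⟨0, 1, by rw [Set.mem_singleton_iff.1 hz]; simp⟩
      | algebraMap c => exact ⟨c, 0, by simp [i]⟩
      | add z w _ _ hz hw =>
        obtain ⟨a, b, rfl⟩ := hz; obtain ⟨a', b', rfl⟩ := hw
        exact ⟨a + a', b + b', by simp only [map_add]; ring⟩
      | mul z w _ _ hz hw =>
        obtain ⟨a, b, rfl⟩ := hz; obtain ⟨a', b', rfl⟩ := hw
        exact ⟨a * a', a * b' + b * a' + b * b', by
          simp only [map_add, map_mul]; linear_combination (i b * i b' * α) * hcub⟩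
    obtain ⟨a, b, hab⟩ := hspan α hsq
    rcases eq_or_ne b 0 with rfl | hb
    · exact hn ⟨a, by rw [hab]; simp [i]⟩
    refine hq ⟨b⁻¹, -(a * b⁻¹), ?_⟩
    have e1 : i b⁻¹ * i b = 1 := by rw [← map_mul, inv_mul_cancel₀ hb, map_one]
    rw [map_neg, map_mul]
    linear_combination (-(α * α)) * e1 - i b⁻¹ * hab
  -- the quotient is the scalar field
  obtain ⟨c, hc⟩ := hfn
  have hj : α - i c ∈ I := (hfI _).1 (by rw [map_sub, AlgHom.commutes, hc, sub_self])
  set j := α - i c with hjdef
  have hj2 : j * j ≠ 0 := fun e => hq ⟨2 * c, -(c * c), by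
    simp only [map_mul, map_neg, map_ofNat]; rw [hjdef] at e; linear_combination e⟩
  have hjj : j * j ∈ I := I.mul_mem_left j hj
  obtain ⟨x, hx⟩ := Ideal.mem_span_singleton'.1 (hsimple I hIat _ hjj hj2 hj)
  set e := x * j with hedef
  have heI : e ∈ I := I.mul_mem_left x hj
  have hej : e * j = j := by rw [hedef]; linear_combination hx
  have hee : e * e = e := by linear_combination x * hej
  have heid : ∀ y ∈ I, e * y = y := fun y hy => by
    obtain ⟨w, rfl⟩ := Ideal.mem_span_singleton'.1
      (hsimple I hIat _ hj (fun h => hj2 (by rw [h, mul_zero])) hy)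
    linear_combination w * hej
  set J : Ideal R := Ideal.span {1 - e} with hJdef
  set fJ := Ideal.Quotient.mkₐ k J
  have hJI : ∀ y, y ∈ J → y ∈ I → y = 0 := fun y hy hy' => by
    obtain ⟨w, rfl⟩ := Ideal.mem_span_singleton'.1 hy
    rw [← heid _ hy']; linear_combination -w * hee
  have hJn : fJ α ∉ Set.range (algebraMap k (R ⧸ J)) := by
    rintro ⟨d, hd⟩
    have hm : α - i d ∈ J := Ideal.Quotient.eq_zero_iff_mem.1 (by
      show fJ (α - i d) = 0
      rw [map_sub, AlgHom.commutes, hd, sub_self])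
    obtain ⟨w, hw⟩ := Ideal.mem_span_singleton'.1 hm
    have hje : j = (i d - i c) * e := by
      rw [hjdef] at hej ⊢
      linear_combination -hej - e * hw - w * (hee)
    refine hq ⟨d + c, -(d * c), ?_⟩
    simp only [map_add, map_mul, map_neg]
    rw [hjdef] at hje
    linear_combination (α - i c + (i c - i d)) * hje + (i d - i c) * e * hje + (i d - i c) * (i d - i c) * hee
  by_cases hc0 : c = 0
  swap
  · -- the scalar part is a second simple ideal
    have hcu : ∀ y ∈ J, α * y = i c * y := fun y hy => by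
      obtain ⟨w, rfl⟩ := Ideal.mem_span_singleton'.1 hy
      rw [hjdef] at hej
      linear_combination -w * hej
    have hJinj : ∀ y ∈ J, α * y = 0 → y = 0 := fun y hy h => by
      rw [hcu y hy] at h
      have h' := congrArg (i c⁻¹ * ·) h
      simp only [mul_zero, ← mul_assoc, ← map_mul, inv_mul_cancel₀ hc0, map_one, one_mul] at h'
      exact h'
    have hJat : IsAtom J := by
      refine ⟨fun h => ?_, fun K hK => ?_⟩
      · have : (1 - e) = 0 := by simpa [hJdef] using h
        exact htop (I.eq_top_iff_one.2 (by rwa [← sub_eq_zero.1 this] at heI))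
      · by_contra hne
        obtain ⟨y, hy, hy0⟩ := Submodule.exists_mem_ne_zero_of_ne_bot hne
        have hall : ∀ z ∈ J, ∃ b : k, z = i b * (1 - e) := by
          intro z hz
          have : ∀ r : R, ∃ b : k, r - i b ∈ I := fun r => by
            have hr : r ∈ Algebra.adjoin k ({α} : Set R) := hgen ▸ Algebra.mem_top
            induction hr using Algebra.adjoin_induction with
            | mem z hz => rw [Set.mem_singleton_iff] at hz; exact ⟨c, hz ▸ hj⟩
            | algebraMap r => exact ⟨r, by rw [sub_self]; exact I.zero_mem⟩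
            | add z w _ _ hz hw =>
              obtain ⟨b, hb⟩ := hz; obtain ⟨b', hb'⟩ := hw
              exact ⟨b + b', by rw [map_add, add_sub_add_comm]; exact I.add_mem hb hb'⟩
            | mul z w _ _ hz hw =>
              obtain ⟨b, hb⟩ := hz; obtain ⟨b', hb'⟩ := hw
              exact ⟨b * b', by
                rw [map_mul, show z * w - i b * i b' = z * (w - i b') + i b' * (z - i b) by ring]
                exact I.add_mem (I.mul_mem_left _ hb') (I.mul_mem_left _ hb)⟩
          obtain ⟨w, rfl⟩ := Ideal.mem_span_singleton'.1 hz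
          obtain ⟨b, hb⟩ := this w
          exact ⟨b, by linear_combination -(heid _ hb)⟩
        obtain ⟨b, rfl⟩ := hall y (hK.le hy)
        have hb : b ≠ 0 := fun h => hy0 (by rw [h, map_zero, zero_mul])
        refine hK.ne (le_antisymm hK.le ((Ideal.span_singleton_le_iff_mem _).2 ?_))
        have := K.mul_mem_left (i b⁻¹) hy
        rwa [← mul_assoc, ← map_mul, inv_mul_cancel₀ hb, map_one, one_mul] at this
    haveI : Nontrivial (R ⧸ J) := ⟨⟨fJ e, 0, fun h => ?_⟩⟩
    · rcases rec' J hJat.1 hJn with h | ⟨A, hA⟩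
      · exact rad_lift hp3 hl fJ (fun y => Ideal.Quotient.eq_zero_iff_mem) (hsimple J hJat) hJinj h
      exfalso
      have h0 : (e * α) * (e * (α - i A)) = 0 := by
        have := hJI _ (J.mul_mem_left e hA) (I.mul_mem_right _ heI)
        linear_combination e * this
      rcases hdom e heid _ (I.mul_mem_right _ heI) _ (I.mul_mem_right _ heI) heI h0 with h | h
      · refine hq ⟨c, 0, ?_⟩
        rw [hjdef] at hej
        rw [map_zero, add_zero]
        linear_combination (α - i c) * h - α * hej
      · refine hq ⟨A + c, -(A * c), ?_⟩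
        rw [hjdef] at hej
        simp only [map_add, map_mul, map_neg]
        linear_combination (α - i c) * h - (α - i A) * hej
    · have := hJI e (Ideal.Quotient.eq_zero_iff_mem.1 h) heI
      rw [this, zero_mul] at hej
      exact hj2 (by rw [← hej, zero_mul])
  -- `α` lies in the simple ideal
  subst hc0
  have hαI : α ∈ I := by rw [hjdef, map_zero, sub_zero] at hj; exact hj
  haveI : (J).IsMaximal := by
    refine Ideal.isMaximal_iff.2 ⟨fun h => ?_, fun K y hle hy hyK => ?_⟩
    · have := hJI _ (J.mul_mem_left e h) (I.mul_mem_right 1 heI)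
      rw [mul_one] at this
      rw [this, zero_mul] at hej
      exact hj2 (by rw [← hej, zero_mul])
    · have hey : e * y ≠ 0 := fun h => hy (Ideal.mem_span_singleton'.2 ⟨y, by linear_combination -h⟩)
      obtain ⟨w, hw⟩ := Ideal.mem_span_singleton'.1 (hsimple I hIat _ (I.mul_mem_right y heI) hey heI)
      have h1 : e ∈ K := hw ▸ K.mul_mem_left w (K.mul_mem_left e hyK)
      have := K.add_mem (hle (Ideal.mem_span_singleton_self (1 - e))) h1
      simpa using this
  letI : Field (R ⧸ J) := Ideal.Quotient.field J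
  haveI : Finite (R ⧸ J) := Finite.of_surjective _ Ideal.Quotient.mk_surjective
  have hgenJ := adjoin_image fJ (Ideal.Quotient.mkₐ_surjective k J) hgen
  have hαJ : fJ α ≠ 0 := fun h => hJn ⟨0, by rw [map_zero, h]⟩
  set φ : Tw α →* Tw (fJ α) := map (fJ : R →+* (R ⧸ J)) rfl
  set ψ : Tw α →* Tw (f α) := map (f : R →+* (R ⧸ I)) rfl
  have hsurj : ∀ x : Matrix.SpecialLinearGroup (Fin 2) (R ⧸ J), ∃ g ∈ G α k, toSL (fJ α) (φ g) = x := fun x => by
    obtain ⟨g', hg', rfl⟩ := exists_toSL_three hk hJn (hsq.map fJ) hgenJ x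
    obtain ⟨g, hg, rfl⟩ := ((map_G (α := α) fJ rfl).ge hg' : g' ∈ (G α k).map φ)
    exact ⟨g, hg, rfl⟩
  have hL : (fJ α) * (fJ α)⁻¹ = 1 := mul_inv_cancel₀ hαJ
  obtain ⟨h, hh, hhe⟩ := hsurj ⟨!![(fJ α), 0; 0, (fJ α)⁻¹], by rw [Matrix.det_fin_two_of, hL, mul_zero, sub_zero]⟩
  -- the quotient group is a group of order `27`
  have hf0 : f α = 0 := (hfI _).2 hαI
  have hcard : Nat.card (R ⧸ I) = Nat.card k := by
    refine (Nat.card_eq_of_bijective (algebraMap k (R ⧸ I))
      ⟨(algebraMap k (R ⧸ I)).injective, fun z => ?_⟩).symm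
    have hz : z ∈ Algebra.adjoin k ({f α} : Set (R ⧸ I)) :=
      (adjoin_image f (Ideal.Quotient.mkₐ_surjective k I) hgen).symm ▸ Algebra.mem_top
    rw [hf0] at hz
    obtain ⟨b, hb⟩ := Algebra.mem_bot.1 ((Algebra.adjoin_le (S := (⊥ : Subalgebra k (R ⧸ I)))
      (by simp)) hz)
    exact ⟨b, hb⟩
  haveI : Finite (R ⧸ I) := Finite.of_surjective _ Ideal.Quotient.mk_surjective
  have hψpow : ∀ y : Tw (f α), y ^ 27 = 1 := by
    intro y
    have hM : Nat.card (Tw (f α)) = 27 := by
      rw [show 27 = Nat.card k * Nat.card k * Nat.card k by rw [hk], ← hcard, ← Nat.card_prod, ← Nat.card_prod]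
      refine Nat.card_congr
        { toFun := fun y => ((y.r, y.q), y.u)
          invFun := fun t => ⟨t.1.1, t.1.2, t.2, t.1.1 * t.1.2 - t.2, by rw [hf0]; ring⟩
          left_inv := fun y => Tw.ext rfl rfl rfl (by
            have h := y.red
            show y.r * y.q - y.u = y.v
            linear_combination -h + y.u * y.v * hf0)
          right_inv := fun t => rfl }
    rw [← hM]
    exact pow_card_eq_one'
  haveI : CharP (R ⧸ J) 3 := by
    haveI : CharP k 3 := by
      have : p = 3 := (Nat.prime_dvd_prime_iff_eq (Fact.out : p.Prime) Nat.prime_three).1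
        ((CharP.cast_eq_zero_iff k p 3).1 (by exact_mod_cast three_eq hk))
      exact this ▸ hpk
    exact charP_of_injective_algebraMap (algebraMap k (R ⧸ J)).injective 3
  have hLm : ((fJ α) ^ 27) * ((fJ α) ^ 27) - 1 ≠ 0 := by
    intro h0
    have e1 : ((fJ α) * (fJ α) - 1) ^ 27 = 0 := by
      have := sub_pow_char_pow (R := R ⧸ J) ((fJ α) * (fJ α)) 1 (p := 3) (n := 3)
      norm_num at this
      rw [this, mul_pow]; exact h0
    have e2 := eq_zero_of_pow_eq_zero e1
    exact (hsq.map fJ).sq_not_scalar hJn ⟨1, by rw [map_one]; exact (sub_eq_zero.1 e2).symm⟩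
  set C : R ⧸ J := ((fJ α) ^ 27 * (fJ α) ^ 27 - 1)⁻¹
  obtain ⟨g, hg, hge⟩ := hsurj (CfsgLib.ThreeTransp.sl2U (R ⧸ J) (fJ e * C))
  set t := h ^ 27 * g * (h ^ 27)⁻¹ * g⁻¹
  have htG : t ∈ G α k := mul_mem (mul_mem (mul_mem (pow_mem hh _) hg) (inv_mem (pow_mem hh _))) (inv_mem hg)
  have hψt : ψ t = 1 := by simp [t, map_mul, map_inv, map_pow, hψpow]
  have hφt : φ t = up (fJ α) (fJ e) := by
    refine toSL_inj hαJ ?_
    have hdet : (!![(fJ α) ^ 27, 0; 0, ((fJ α)⁻¹) ^ 27] : Matrix (Fin 2) (Fin 2) (R ⧸ J)).det = 1 := by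
      rw [Matrix.det_fin_two_of, ← mul_pow, hL, one_pow, mul_zero, sub_zero]
    have hhM : toSL (fJ α) (φ (h ^ 27)) =
        (⟨!![(fJ α) ^ 27, 0; 0, ((fJ α)⁻¹) ^ 27], hdet⟩ : Matrix.SpecialLinearGroup (Fin 2) (R ⧸ J)) := by
      rw [map_pow, map_pow, hhe]
      refine Subtype.ext ?_
      refine (Matrix.SpecialLinearGroup.coe_pow _ 27).trans ?_
      show !![(fJ α), 0; 0, (fJ α)⁻¹] ^ 27 = !![(fJ α) ^ 27, 0; 0, ((fJ α)⁻¹) ^ 27]
      have : !![(fJ α), 0; 0, (fJ α)⁻¹] = Matrix.diagonal ![(fJ α), (fJ α)⁻¹] := by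
        ext a b; fin_cases a <;> fin_cases b <;> simp
      rw [this, Matrix.diagonal_pow]
      ext a b
      fin_cases a <;> fin_cases b <;> simp
    simp only [t, map_mul, map_inv]
    rw [hhM, hge]
    refine mul_inv_eq_of_eq_mul (mul_inv_eq_of_eq_mul (Subtype.ext ?_))
    show !![(fJ α) ^ 27, 0; 0, ((fJ α)⁻¹) ^ 27] * (CfsgLib.ThreeTransp.sl2U (R ⧸ J) (fJ e * C)).1 =
      (toSL (fJ α) (up (fJ α) (fJ e))).1 * (CfsgLib.ThreeTransp.sl2U (R ⧸ J) (fJ e * C)).1 *
        !![(fJ α) ^ 27, 0; 0, ((fJ α)⁻¹) ^ 27]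
    rw [CfsgLib.ThreeTransp.sl2U_val, toSL_val]
    have e2 : ((fJ α) ^ 27 * (fJ α) ^ 27 - 1) * C = 1 := mul_inv_cancel₀ hLm
    have e1 : (fJ α) ^ 27 * ((fJ α)⁻¹) ^ 27 = 1 := by rw [← mul_pow, hL, one_pow]
    generalize ((fJ α)⁻¹) ^ 27 = L' at e1 ⊢
    generalize (fJ α) ^ 27 = L₀ at e1 e2 ⊢
    generalize fJ e = E
    generalize C = C₀ at e2 ⊢
    ext a b
    fin_cases a <;> fin_cases b <;> simp [Matrix.mul_apply, Fin.sum_univ_two]
    linear_combination (L' * E) * e2 - (E * C₀ * L₀) * e1
  have key : ∀ y z : R, fJ y = fJ z → f y = f z → y = z := fun y z hy hz => sub_eq_zero.1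
    (hJI _ (Ideal.Quotient.eq_zero_iff_mem.1 (show fJ (y - z) = 0 by rw [map_sub, hy, sub_self]))
      ((hfI _).1 (by rw [map_sub, hz, sub_self])))
  have hfe : f e = 0 := (hfI _).2 heI
  refine ⟨e, ?_, ?_⟩
  · rintro ⟨b, hb⟩
    have hb0 : algebraMap k (R ⧸ I) b = 0 := by rw [← f.commutes, hb, hfe]
    rw [map_eq_zero] at hb0
    rw [hb0, map_zero] at hb
    rw [← hb, zero_mul] at hej
    exact hj2 (by rw [← hej, zero_mul])
  · suffices t = up α e from this ▸ htG
    refine Tw.ext ?_ ?_ ?_ ?_ <;> apply key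
    · exact congrArg Tw.r hφt
    · exact (congrArg Tw.r hψt).trans hfe.symm
    · exact (congrArg Tw.q hφt).trans (map_zero fJ).symm
    · exact (congrArg Tw.q hψt).trans (map_zero f).symm
    · exact (congrArg Tw.u hφt).trans (map_zero fJ).symm
    · exact (congrArg Tw.u hψt).trans (map_zero f).symm
    · exact (congrArg Tw.v hφt).trans (map_zero fJ).symm
    · exact (congrArg Tw.v hψt).trans (map_zero f).symm

end CfsgLib.TensorWreath.Tw
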