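import Cfsg.Agent.Lib.TensorWreath.RadGen

/-!
A pair of square-zero elements `a`, `b` of an algebra: the subgroup generated by `1 + k a` and `1 + k b` contains
`1 + p(z) a` with `p(z) a` outside `k a`, unless `aba` is a multiple of `a` (odd characteristic, five scalars).
-/

set_option autoImplicit false

namespace CfsgLib.TensorWreath

open Polynomial

variable {k E : Type*} [Field k] [Ring E] [Algebra k E]

/-- Membership of an element of the algebra in a group of units. -/
def InM (M : Subgroup Eˣ) (x : E) : Prop := ∃ g ∈ M, (g : E) = x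

theorem InM.mul {M : Subgroup Eˣ} {x y : E} (hx : InM M x) (hy : InM M y) : InM M (x * y) := by
  obtain ⟨g, hg, rfl⟩ := hx
  obtain ⟨h, hh, rfl⟩ := hy
  exact ⟨g * h, mul_mem hg hh, rfl⟩

theorem InM.one {M : Subgroup Eˣ} : InM M (1 : E) := ⟨1, one_mem _, rfl⟩

/-- A square-zero element all whose multiples give group elements. -/
structure Unip (k : Type*) [Field k] {E : Type*} [Ring E] [Algebra k E] (M : Subgroup Eˣ) (a : E) : Prop where
  sq : a * a = 0
  mem : ∀ c : k, InM M (1 + c • a)

theorem Unip.conj {M : Subgroup Eˣ} {a b : E} (ha : Unip k M a) (hb : Unip k M b) (s : k) :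
    Unip k M ((1 + s • b) * a * (1 - s • b)) := by
  have hy : (1 - s • b) * (1 + s • b) = 1 := by
    simp only [sub_mul, one_mul, mul_add, mul_one, smul_mul_assoc, mul_smul_comm, hb.sq, smul_zero, add_zero]
    abel
  have hy' : (1 + s • b) * (1 - s • b) = 1 := by
    simp only [add_mul, one_mul, mul_sub, mul_one, smul_mul_assoc, mul_smul_comm, hb.sq, smul_zero, sub_zero]
    abel
  refine ⟨?_, fun c => ?_⟩
  · calc _ = (1 + s • b) * (a * ((1 - s • b) * (1 + s • b)) * a) * (1 - s • b) := by simp only [mul_assoc]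
      _ = 0 := by rw [hy, mul_one, ha.sq, mul_zero, zero_mul]
  · have h := ((hb.mem s).mul (ha.mem c)).mul (hb.mem (-s))
    rw [neg_smul, ← sub_eq_add_neg, mul_add, mul_one, add_mul, hy', mul_smul_comm, smul_mul_assoc] at h
    exact h

/-- The central element of a pair. -/
def zEl (a b : E) : E := a * b + b * a

variable {a b : E}

theorem zEl_mul_left (ha : a * a = 0) : zEl a b * a = a * b * a := by
  rw [zEl, add_mul, mul_assoc b a a, ha, mul_zero, add_zero]

theorem commute_left (ha : a * a = 0) : Commute (zEl a b) a := by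
  show zEl a b * a = a * zEl a b
  rw [zEl_mul_left ha, zEl, mul_add, ← mul_assoc a a b, ha, zero_mul, zero_add, mul_assoc]

theorem commute_right (hb : b * b = 0) : Commute (zEl a b) b := by
  have h : zEl b a = zEl a b := by rw [zEl, zEl, add_comm]
  exact h ▸ commute_left hb

theorem aeval_comm {z x : E} (h : Commute z x) (p : k[X]) : x * aeval z p = aeval z p * x := by
  induction p using Polynomial.induction_on' with
  | add p q hp hq => rw [map_add, mul_add, add_mul, hp, hq]
  | monomial n c =>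
    rw [aeval_monomial, ← mul_assoc, ← Algebra.commutes, mul_assoc, mul_assoc, (h.pow_left n).eq]

/-- The ideal of polynomials `p` with `p(z) a = 0`. -/
noncomputable def annL (k : Type*) [Field k] {E : Type*} [Ring E] [Algebra k E] (z a : E) : Ideal k[X] where
  carrier := {p | aeval z p * a = 0}
  add_mem' {p q} hp hq := by
    simp only [Set.mem_setOf_eq] at hp hq ⊢
    rw [map_add, add_mul, hp, hq, add_zero]
  zero_mem' := by simp
  smul_mem' r p hp := by
    simp only [Set.mem_setOf_eq] at hp ⊢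
    rw [smul_eq_mul, map_mul, mul_assoc, hp, mul_zero]

theorem mem_annL {z : E} {p : k[X]} : p ∈ annL k z a ↔ aeval z p * a = 0 := Iff.rfl

theorem finite_quot [Finite E] (z : E) (J : Ideal k[X]) {a b : E} (h : annL k z a ⊓ annL k z b ≤ J) :
    Finite (k[X] ⧸ J) := by
  haveI : Finite (k[X] ⧸ (annL k z a ⊓ annL k z b)) := by
    refine Finite.of_injective (fun x => (aeval z (Quotient.out x) * a, aeval z (Quotient.out x) * b)) fun x y e => ?_
    rw [← Quotient.out_eq x, ← Quotient.out_eq y]
    simp only [Prod.mk.injEq] at e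
    exact Ideal.Quotient.eq.2 ⟨mem_annL.2 (by rw [map_sub, sub_mul, e.1, sub_self]),
      mem_annL.2 (by rw [map_sub, sub_mul, e.2, sub_self])⟩
  exact Finite.of_surjective (Ideal.Quotient.factor h) (Ideal.Quotient.factor_surjective h)

section rho

variable (k) (a b)

set_option maxHeartbeats 2000000 in
/-- The representation of the twisted group. -/
noncomputable def rho (ha : a * a = 0) (hb : b * b = 0) :
    Tw (Ideal.Quotient.mk (annL k (zEl a b) a ⊓ annL k (zEl a b) b) X) →* E where
  toFun g := 1 + aeval (zEl a b) (Quotient.out g.r) * a + aeval (zEl a b) (Quotient.out g.q) * b +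
    aeval (zEl a b) (Quotient.out g.u) * (a * b) + aeval (zEl a b) (Quotient.out g.v) * (b * a)
  map_one' := by
    simp only [Tw.one_r, Tw.one_q, Tw.one_u, Tw.one_v]
    set K := annL k (zEl a b) a ⊓ annL k (zEl a b) b
    have h : Quotient.out (0 : k[X] ⧸ K) ∈ K := Ideal.Quotient.eq_zero_iff_mem.1 (Quotient.out_eq _)
    simp only [← mul_assoc, mem_annL.1 h.1, mem_annL.1 h.2, zero_mul, add_zero]
  map_mul' := by
    set z := zEl a b with hz
    set K := annL k z a ⊓ annL k z b with hK
    intro g h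
    have hwd : ∀ (x : k[X] ⧸ K) (p : k[X]), Ideal.Quotient.mk K p = x →
        aeval z (Quotient.out x) * a = aeval z p * a ∧ aeval z (Quotient.out x) * b = aeval z p * b := by
      rintro x p rfl
      obtain ⟨h1, h2⟩ := Ideal.Quotient.eq.1 (Quotient.out_eq (Ideal.Quotient.mk K p))
      exact ⟨sub_eq_zero.1 (by rw [← sub_mul, ← map_sub]; exact mem_annL.1 h1),
        sub_eq_zero.1 (by rw [← sub_mul, ← map_sub]; exact mem_annL.1 h2)⟩
    have hm : ∀ x : k[X] ⧸ K, Ideal.Quotient.mk K (Quotient.out x) = x := Quotient.out_eq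
    have er := hwd (g * h).r (Quotient.out g.r + Quotient.out h.r + X * (Quotient.out g.u * Quotient.out h.r +
      Quotient.out g.r * Quotient.out h.v)) (by simp only [map_add, map_mul, hm, Tw.mul_r])
    have eq' := hwd (g * h).q (Quotient.out g.q + Quotient.out h.q + X * (Quotient.out g.v * Quotient.out h.q +
      Quotient.out g.q * Quotient.out h.u)) (by simp only [map_add, map_mul, hm, Tw.mul_q])
    have eu := hwd (g * h).u (Quotient.out g.u + Quotient.out h.u + Quotient.out g.r * Quotient.out h.q +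
      X * Quotient.out g.u * Quotient.out h.u) (by simp only [map_add, map_mul, hm, Tw.mul_u])
    have ev := hwd (g * h).v (Quotient.out g.v + Quotient.out h.v + Quotient.out g.q * Quotient.out h.r +
      X * Quotient.out g.v * Quotient.out h.v) (by simp only [map_add, map_mul, hm, Tw.mul_v])
    rw [er.1, eq'.2, ← mul_assoc (aeval z (Quotient.out (g * h).u)), eu.1, ← mul_assoc (aeval z (Quotient.out (g * h).v)),
      ev.2]
    have hza : z * a = a * b * a := zEl_mul_left ha
    have hzb : z * b = b * a * b := by rw [show z = zEl b a from add_comm _ _, zEl_mul_left hb]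
    have ca : ∀ p : k[X], ∀ x : E, a * (aeval z p * x) = aeval z p * (a * x) := fun p x => by
      rw [← mul_assoc, aeval_comm (commute_left ha), mul_assoc]
    have cb : ∀ p : k[X], ∀ x : E, b * (aeval z p * x) = aeval z p * (b * x) := fun p x => by
      rw [← mul_assoc, aeval_comm (commute_right hb), mul_assoc]
    have cz : ∀ p : k[X], ∀ x : E, z * (aeval z p * x) = aeval z p * (z * x) := fun p x => by
      rw [← mul_assoc, aeval_comm (Commute.refl z), mul_assoc]
    have aa : ∀ x : E, a * (a * x) = 0 := fun x => by rw [← mul_assoc, ha, zero_mul]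
    have bb : ∀ x : E, b * (b * x) = 0 := fun x => by rw [← mul_assoc, hb, zero_mul]
    have aba : ∀ x : E, a * (b * (a * x)) = z * (a * x) := fun x => by rw [← mul_assoc z, hza]; simp only [mul_assoc]
    have bab : ∀ x : E, b * (a * (b * x)) = z * (b * x) := fun x => by rw [← mul_assoc z, hzb]; simp only [mul_assoc]
    have aba' : a * (b * a) = z * a := by rw [hza, mul_assoc]
    have bab' : b * (a * b) = z * b := by rw [hzb, mul_assoc]
    have za : ∀ x : E, a * (z * x) = z * (a * x) := fun x => by rw [← mul_assoc, ← (commute_left ha).eq, mul_assoc]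
    have zb : ∀ x : E, b * (z * x) = z * (b * x) := fun x => by rw [← mul_assoc, ← (commute_right hb).eq, mul_assoc]
    simp only [map_add, map_mul, aeval_X, add_mul, mul_add, mul_one, one_mul, mul_assoc, ca, cb, cz, za, zb, aa, bb, aba,
      bab, aba', bab', ha, hb, mul_zero, zero_add, add_zero]
    abel

theorem rho_apply_up (ha : a * a = 0) (hb : b * b = 0) (p : k[X]) :
    rho k a b ha hb (Tw.up _ (Ideal.Quotient.mk _ p)) = 1 + aeval (zEl a b) p * a := by
  set K := annL k (zEl a b) a ⊓ annL k (zEl a b) b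
  obtain ⟨h1, -⟩ := Ideal.Quotient.eq.1 (Quotient.out_eq (Ideal.Quotient.mk K p))
  have h : Quotient.out (0 : k[X] ⧸ K) ∈ K := Ideal.Quotient.eq_zero_iff_mem.1 (Quotient.out_eq _)
  have e : aeval (zEl a b) (Quotient.out (Ideal.Quotient.mk K p)) * a = aeval (zEl a b) p * a :=
    sub_eq_zero.1 (by rw [← sub_mul, ← map_sub]; exact mem_annL.1 h1)
  simp only [rho, MonoidHom.coe_mk, OneHom.coe_mk, Tw.up_r, Tw.up_q, Tw.up_u, Tw.up_v, ← mul_assoc, mem_annL.1 h.1, mem_annL.1 h.2, zero_mul, add_zero]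
  rw [e]

theorem rho_apply_lo (ha : a * a = 0) (hb : b * b = 0) (p : k[X]) :
    rho k a b ha hb (Tw.lo _ (Ideal.Quotient.mk _ p)) = 1 + aeval (zEl a b) p * b := by
  set K := annL k (zEl a b) a ⊓ annL k (zEl a b) b
  obtain ⟨-, h2⟩ := Ideal.Quotient.eq.1 (Quotient.out_eq (Ideal.Quotient.mk K p))
  have h : Quotient.out (0 : k[X] ⧸ K) ∈ K := Ideal.Quotient.eq_zero_iff_mem.1 (Quotient.out_eq _)
  have e : aeval (zEl a b) (Quotient.out (Ideal.Quotient.mk K p)) * b = aeval (zEl a b) p * b :=
    sub_eq_zero.1 (by rw [← sub_mul, ← map_sub]; exact mem_annL.1 h2)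
  simp only [rho, MonoidHom.coe_mk, OneHom.coe_mk, Tw.lo_r, Tw.lo_q, Tw.lo_u, Tw.lo_v, ← mul_assoc, mem_annL.1 h.1, mem_annL.1 h.2, zero_mul, add_zero]
  rw [e]

theorem inM_rho {M : Subgroup Eˣ} (ha : Unip k M a) (hb : Unip k M b)
    {g : Tw (Ideal.Quotient.mk (annL k (zEl a b) a ⊓ annL k (zEl a b) b) X)} (hg : g ∈ Tw.G _ k) :
    InM M (rho k a b ha.sq hb.sq g) := by
  set ρ := (rho k a b ha.sq hb.sq).toHomUnits
  have : Tw.G _ k ≤ M.comap ρ := (Subgroup.closure_le _).2 (by
    rintro _ (⟨c, rfl⟩ | ⟨c, rfl⟩)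
    · obtain ⟨u, hu, hu'⟩ := ha.mem c
      show ρ _ ∈ M
      rwa [show ρ (Tw.up _ (algebraMap k _ c)) = u from Units.ext ?_]
      rw [hu', MonoidHom.coe_toHomUnits, ← Ideal.Quotient.mk_algebraMap, rho_apply_up]
      simp [Algebra.smul_def]
    · obtain ⟨u, hu, hu'⟩ := hb.mem c
      show ρ _ ∈ M
      rwa [show ρ (Tw.lo _ (algebraMap k _ c)) = u from Units.ext ?_]
      rw [hu', MonoidHom.coe_toHomUnits, ← Ideal.Quotient.mk_algebraMap, rho_apply_lo]
      simp [Algebra.smul_def])
  exact ⟨ρ g, this hg, MonoidHom.coe_toHomUnits _ g⟩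

end rho

/-- An upper triangular element gives a specified upper element. -/
theorem Tw.up_of_triangular {R : Type*} [CommRing R] [Algebra k R] {α : R} (l : kˣ) {g : Tw α}
    (hg : g ∈ Tw.G α k) (hq : g.q = 0) :
    Tw.up α (algebraMap k R ((l : k) - 1) * (g.r * (1 + α * g.u))) ∈ Tw.G α k := by
  have h := mul_mem (Tw.scale_mem l hg) (inv_mem hg)
  convert h using 1
  have e := g.red
  rw [hq, mul_zero, sub_zero] at e
  ext <;> simp [Tw.scale, hq, map_sub]
  · ring
  · linear_combination -e
  · linear_combination -e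

variable [Finite k] [Finite E]

/-- The pair lemma. -/
theorem pair_rad (h2 : (2 : k) ≠ 0) (h5 : 5 ≤ Nat.card k) {M : Subgroup Eˣ} {a b : E} (ha : Unip k M a)
    (hb : Unip k M b) (hn : ∀ c : k, a * b * a ≠ c • a) :
    ∃ p : k[X], InM M (1 + aeval (zEl a b) p * a) ∧ ∀ c : k, aeval (zEl a b) p * a ≠ c • a := by
  induction hN : Nat.card (Set.range fun p : k[X] => aeval (zEl a b) p * a) using Nat.strong_induction_on
    generalizing b with
  | _ N ih =>
  set z := zEl a b with hz
  set Ka := annL k z a with hKa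
  set K := annL k z a ⊓ annL k z b with hK
  set S := k[X] ⧸ Ka
  set β : S := Ideal.Quotient.mk Ka X with hβ
  haveI : Finite S := finite_quot z Ka (b := b) inf_le_left
  have hgen : Algebra.adjoin k ({β} : Set S) = ⊤ := by
    have := Tw.adjoin_image (Ideal.Quotient.mkₐ k Ka) (Ideal.Quotient.mkₐ_surjective k Ka) (α := (X : k[X]))
      Polynomial.adjoin_X
    exact this
  have hS : ∀ (c : k) (p : k[X]), Ideal.Quotient.mk Ka p = algebraMap k S c ↔ aeval z p * a = c • a := fun c p => by
    rw [← Ideal.Quotient.mk_algebraMap, Ideal.Quotient.eq, mem_annL, map_sub, sub_mul, sub_eq_zero,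
      AlgHom.commutes, ← Algebra.smul_def]
  have hβn : β ∉ Set.range (algebraMap k S) := by
    rintro ⟨c, hc⟩
    have := (hS c X).1 hc.symm
    rw [aeval_X, zEl_mul_left ha.sq] at this
    exact hn c this
  have finish : Tw.Rad β k →
      ∃ p : k[X], InM M (1 + aeval z p * a) ∧ ∀ c : k, aeval z p * a ≠ c • a := by
    rintro ⟨r0, hr0, hmem⟩
    set α : k[X] ⧸ K := Ideal.Quotient.mk K X with hα
    let f : (k[X] ⧸ K) →ₐ[k] S := Ideal.Quotient.liftₐ K (Ideal.Quotient.mkₐ k Ka)
      fun p hp => Ideal.Quotient.eq_zero_iff_mem.2 hp.1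
    have hfmk : ∀ p, f (Ideal.Quotient.mk K p) = Ideal.Quotient.mk Ka p := fun p => rfl
    have hker : ∀ x, f x = 0 → α * x = 0 := fun x hx => by
      obtain ⟨p, rfl⟩ := Ideal.Quotient.mk_surjective x
      rw [hfmk, Ideal.Quotient.eq_zero_iff_mem, mem_annL] at hx
      rw [hα, ← map_mul]
      refine Ideal.Quotient.eq_zero_iff_mem.2 ⟨mem_annL.2 (by rw [map_mul, mul_assoc, hx, mul_zero]), mem_annL.2 ?_⟩
      have hzb : z * b = b * (a * b) := by
        rw [hz, show zEl a b = zEl b a from add_comm _ _, zEl_mul_left hb.sq, mul_assoc]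
      rw [map_mul, aeval_X, aeval_comm (Commute.refl z), mul_assoc, hzb, ← mul_assoc,
        ← aeval_comm (commute_right hb.sq), mul_assoc, ← mul_assoc _ a, hx, zero_mul, mul_zero]
    obtain ⟨g, hg, hge⟩ := ((Tw.map_G (α := α) f (hfmk X)).ge hmem : Tw.up β r0 ∈ (Tw.G α k).map _)
    have hgr : f g.r = r0 := congrArg Tw.r hge
    have hgq : α * g.q = 0 := hker _ (congrArg Tw.q hge)
    have hgu : α * g.u = 0 := hker _ (congrArg Tw.u hge)
    have hgv : α * g.v = 0 := hker _ (congrArg Tw.v hge)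
    obtain ⟨x, hx0, hx1, hxx⟩ : ∃ x : k, x ≠ 0 ∧ 1 + x ≠ 0 ∧ 1 + x + x * x ≠ 0 := by
      classical
      haveI : Fintype k := Fintype.ofFinite k
      by_contra hcon
      push Not at hcon
      have hroot : ∀ x : k, x ≠ 0 → x ≠ -1 → x * x + x + 1 = 0 := fun x h0 h1 => by
        linear_combination hcon x h0 fun h => h1 (by linear_combination h)
      obtain ⟨x₁, hx₁, -, hx₁'⟩ := Tw.exists_ne_three h5 0 0 (-1)
      obtain ⟨x₂, hx₂, hx₂', hx₂''⟩ := Tw.exists_ne_three h5 0 (-1) x₁
      have hsum : x₁ + x₂ + 1 = 0 := by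
        refine (mul_eq_zero.1 (?_ : (x₂ - x₁) * (x₁ + x₂ + 1) = 0)).resolve_left (sub_ne_zero.2 hx₂'')
        linear_combination hroot x₂ hx₂ hx₂' - hroot x₁ hx₁ hx₁'
      have hlast : ∀ x : k, x = 0 ∨ x = -1 ∨ x = x₁ ∨ x = x₂ := fun x => by
        by_contra hx
        push Not at hx
        obtain ⟨h0, h1, h2', h3⟩ := hx
        refine h3 (sub_eq_zero.1 ?_)
        have : x₁ + x + 1 = 0 := by
          refine (mul_eq_zero.1 (?_ : (x - x₁) * (x₁ + x + 1) = 0)).resolve_left (sub_ne_zero.2 h2')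
          linear_combination hroot x h0 h1 - hroot x₁ hx₁ hx₁'
        linear_combination this - hsum
      have : Finset.univ ⊆ ({0, -1, x₁, x₂} : Finset k) := fun x _ => by simpa using hlast x
      have hc := (Finset.card_le_card this).trans Finset.card_le_four
      rw [Finset.card_univ, ← Nat.card_eq_fintype_card] at hc
      omega
    set y : k := -(x / (1 + x)) with hy
    have hy0 : y ≠ 0 := by rw [hy, neg_ne_zero]; exact div_ne_zero hx0 hx1
    have hinv : 1 + x⁻¹ + y⁻¹ = 0 := by rw [hy, inv_neg, inv_div]; field_simp; ring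
    set σ : k := 1 + x + y with hσ
    have hσ0 : σ ≠ 0 := fun h => hxx (by
      rw [hσ, hy] at h; field_simp at h; linear_combination h)
    set g' := g * Tw.scale (Units.mk0 x hx0) g * Tw.scale (Units.mk0 y hy0) g with hg'
    have hg'mem : g' ∈ Tw.G α k := mul_mem (mul_mem hg (Tw.scale_mem _ hg)) (Tw.scale_mem _ hg)
    have e1 : algebraMap k (k[X] ⧸ K) (1 + x⁻¹ + y⁻¹) = 0 := by rw [hinv, map_zero]
    simp only [map_add, map_one] at e1
    have hq' : g'.q = 0 := by
      simp [hg', Tw.scale]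
      set ix := algebraMap k (k[X] ⧸ K) x⁻¹
      set iy := algebraMap k (k[X] ⧸ K) y⁻¹
      set X' := algebraMap k (k[X] ⧸ K) x
      linear_combination g.q * e1 + (g.q + (g.q + ix * g.q + α * (g.v * (ix * g.q) + g.q * g.u))) * hgu +
        (ix * g.q + iy * g.q * (2 + α * g.v)) * hgv + (iy * g.q * X' * g.r) * hgq
    obtain ⟨l, hl0, hl1, -⟩ := Tw.exists_ne_three h5 0 1 1
    have hup := Tw.up_of_triangular (Units.mk0 l hl0) hg'mem hq'
    obtain ⟨p, hp⟩ := Ideal.Quotient.mk_surjective (algebraMap k _ (l - 1) * (g'.r * (1 + α * g'.u)))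
    have h := inM_rho k a b ha hb hup
    rw [Units.val_mk0, ← hp, rho_apply_up] at h
    refine ⟨p, h, fun c hc => hr0 ⟨((l - 1) * σ)⁻¹ * c, ?_⟩⟩
    have hfu : f g.u = 0 := congrArg Tw.u hge
    have hfv : f g.v = 0 := congrArg Tw.v hge
    have hfq : f g.q = 0 := congrArg Tw.q hge
    have hfp := congrArg f hp
    rw [hfmk, (hS c p).2 hc] at hfp
    simp [hg', Tw.scale, hfu, hfv, hfq, hgr] at hfp
    have hne : (l - 1) * σ ≠ 0 := mul_ne_zero (sub_ne_zero.2 hl1) hσ0
    have e2 : algebraMap k S ((l - 1) * σ)⁻¹ * algebraMap k S ((l - 1) * σ) = 1 := by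
      rw [← map_mul, inv_mul_cancel₀ hne, map_one]
    rw [map_mul, hfp]
    simp only [hσ, map_mul, map_add, map_sub, map_one] at e2 ⊢
    linear_combination r0 * e2
  by_cases hquad : ∃ A B : k, z * z * a = A • (z * a) + B • a
  · obtain ⟨A, B, h⟩ := hquad
    refine finish (Tw.rad_quad h2 h5 (A := A) (B := B) ?_ hβn)
    rw [hβ, ← Ideal.Quotient.mk_algebraMap, ← Ideal.Quotient.mk_algebraMap, ← map_mul, ← map_mul, ← map_add,
      Ideal.Quotient.eq, mem_annL]
    simp only [map_sub, map_add, map_mul, aeval_X, AlgHom.commutes, sub_mul, add_mul, mul_assoc]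
    rw [← mul_assoc z z a, h, Algebra.smul_def, Algebra.smul_def, sub_self]
  by_cases hann : ∀ p : k[X], z * z * (aeval z p * a) = 0 → z * (aeval z p * a) = 0
  · refine finish (Tw.rad_gen h2 h5 S β hgen hβn fun y hy => ?_)
    obtain ⟨p, rfl⟩ := Ideal.Quotient.mk_surjective y
    rw [hβ, ← map_mul, ← map_mul, Ideal.Quotient.eq_zero_iff_mem, mem_annL] at hy
    rw [hβ, ← map_mul, Ideal.Quotient.eq_zero_iff_mem, mem_annL]
    simp only [map_mul, aeval_X, mul_assoc] at hy ⊢
    exact hann p (by rw [mul_assoc]; exact hy)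
  push Not at hann
  obtain ⟨p₀, hp₀, hp₀'⟩ := hann
  set b' := (1 + (1 : k) • b) * a * (1 - (1 : k) • b) with hb'
  have hz' : zEl a b' = -(z * z) := by
    simp only [hb', hz, zEl, one_smul, mul_add, add_mul, mul_sub, sub_mul, mul_one, one_mul, ← mul_assoc, ha.sq,
      zero_mul, add_zero, zero_add, sub_zero, zero_sub]
    simp only [mul_assoc, ha.sq, hb.sq, mul_zero, zero_mul, add_zero, sub_zero, zero_sub, zero_add]
    abel
  have hcomp : ∀ p : k[X], aeval (zEl a b') p = aeval z (p.comp (-(X * X))) := fun p => by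
    rw [hz', aeval_comp]; simp
  have hn' : ∀ c : k, a * b' * a ≠ c • a := fun c hc => by
    rw [← zEl_mul_left ha.sq, hz', neg_mul, neg_eq_iff_eq_neg] at hc
    exact hquad ⟨0, -c, by rw [hc, zero_smul, zero_add, neg_smul]⟩
  have hsub : Set.range (fun p : k[X] => aeval (zEl a b') p * a) ⊂ Set.range fun p : k[X] => aeval z p * a := by
    refine ⟨fun x hx => ?_, fun hsup => ?_⟩
    · obtain ⟨p, rfl⟩ := hx; exact ⟨_, (congrArg (· * a) (hcomp p)).symm⟩
    obtain ⟨p, hp⟩ := hsup ⟨X, rfl⟩
    simp only [aeval_X] at hp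
    have hsplit : z * a = p.coeff 0 • a - aeval (zEl a b') p.divX * (z * z * a) := by
      rw [← hp]
      conv_lhs => rw [← Polynomial.X_mul_divX_add p]
      rw [map_add, map_mul, aeval_X, aeval_C, add_mul, ← Algebra.smul_def, add_comm, sub_eq_add_neg,
        aeval_comm (Commute.refl (zEl a b')) p.divX, hz', mul_neg, neg_mul, mul_assoc]
    have key : z * (aeval z p₀ * a) = p.coeff 0 • (aeval z p₀ * a) := by
      rw [← mul_assoc, aeval_comm (Commute.refl z), mul_assoc, hsplit, mul_sub, mul_smul_comm, sub_eq_self,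
        ← mul_assoc (aeval z p₀), hcomp, ← map_mul, mul_comm p₀, map_mul, mul_assoc,
        ← mul_assoc (aeval z p₀), ← aeval_comm ((Commute.refl z).mul_right (Commute.refl z)), mul_assoc, hp₀, mul_zero]
    have h1 : (p.coeff 0 * p.coeff 0) • (aeval z p₀ * a) = 0 := by
      rw [← smul_smul, ← key, ← mul_smul_comm, ← key, ← mul_assoc]; exact hp₀
    rcases smul_eq_zero.1 h1 with h | h
    all_goals exact hp₀' (by rw [key]; first | rw [mul_self_eq_zero.1 h, zero_smul] | rw [h, smul_zero])
  have hlt : Nat.card (Set.range fun p : k[X] => aeval (zEl a b') p * a) < N :=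
    hN ▸ Set.ncard_lt_ncard hsub (Set.toFinite _)
  obtain ⟨p, hp, hp'⟩ := ih _ hlt (ha.conj hb 1) hn' rfl
  exact ⟨p.comp (-(X * X)), by rwa [← hcomp], fun c => by rw [← hcomp]; exact hp' c⟩

end CfsgLib.TensorWreath
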