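import Cfsg.Agent.Lib.TensorWreath.Root
import Cfsg.Agent.Lib.TensorWreath.RadThree

/-!
The pair lemma over a base field of three elements, and the diagonal coefficients in dimension four or more.
-/

set_option autoImplicit false
set_option linter.unusedSectionVars false

namespace CfsgLib.TensorWreath

open Polynomial

section abstract

variable {k E : Type*} [Field k] [Ring E] [Algebra k E] {a b : E}

/-- A triangular element of a pair. -/
def LevEl (k : Type*) [Field k] {E : Type*} [Ring E] [Algebra k E] (M : Subgroup Eˣ) (a b : E) : Prop :=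
  ∃ r u v : k[X], InM M (1 + aeval (zEl a b) r * a + aeval (zEl a b) u * (a * b) + aeval (zEl a b) v * (b * a)) ∧
    InM M (1 - aeval (zEl a b) r * a + aeval (zEl a b) v * (a * b) + aeval (zEl a b) u * (b * a)) ∧
    (1 + aeval (zEl a b) r * a + aeval (zEl a b) u * (a * b) + aeval (zEl a b) v * (b * a)) *
      (1 - aeval (zEl a b) r * a + aeval (zEl a b) v * (a * b) + aeval (zEl a b) u * (b * a)) = 1 ∧
    ∀ c : k, aeval (zEl a b) (X * u) * a ≠ c • a

/-- An upper element outside the scalars, or a triangular element. -/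
def RadLev (k : Type*) [Field k] {E : Type*} [Ring E] [Algebra k E] (M : Subgroup Eˣ) (P : E → Prop) (a b : E) : Prop :=
  (∃ p : k[X], InM M (1 + aeval (zEl a b) p * a) ∧ ∀ c : k, aeval (zEl a b) p * a ≠ c • a) ∨
    ∃ b', Unip k M b' ∧ P b' ∧ LevEl k M a b'

theorem rho_eq (ha : a * a = 0) (hb : b * b = 0)
    (g : Tw (Ideal.Quotient.mk (annL k (zEl a b) a ⊓ annL k (zEl a b) b) X)) (r q u v : k[X])
    (hr : g.r = Ideal.Quotient.mk _ r) (hq : g.q = Ideal.Quotient.mk _ q) (hu : g.u = Ideal.Quotient.mk _ u)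
    (hv : g.v = Ideal.Quotient.mk _ v) :
    rho k a b ha hb g = 1 + aeval (zEl a b) r * a + aeval (zEl a b) q * b + aeval (zEl a b) u * (a * b) +
      aeval (zEl a b) v * (b * a) := by
  set K := annL k (zEl a b) a ⊓ annL k (zEl a b) b
  have key : ∀ (x : k[X] ⧸ K) (p : k[X]), x = Ideal.Quotient.mk K p →
      aeval (zEl a b) (Quotient.out x) * a = aeval (zEl a b) p * a ∧
        aeval (zEl a b) (Quotient.out x) * b = aeval (zEl a b) p * b := by
    rintro x p rfl
    obtain ⟨h1, h2⟩ := Ideal.Quotient.eq.1 (Quotient.out_eq (Ideal.Quotient.mk K p))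
    exact ⟨sub_eq_zero.1 (by rw [← sub_mul, ← map_sub]; exact mem_annL.1 h1),
      sub_eq_zero.1 (by rw [← sub_mul, ← map_sub]; exact mem_annL.1 h2)⟩
  simp only [rho, MonoidHom.coe_mk, OneHom.coe_mk, ← mul_assoc, (key _ _ hr).1, (key _ _ hq).2, (key _ _ hu).1,
    (key _ _ hv).2]

theorem mul_annL_le (hb : b * b = 0) {p : k[X]} (hp : p ∈ annL k (zEl a b) a) :
    X * p ∈ annL k (zEl a b) a ⊓ annL k (zEl a b) b := by
  rw [mem_annL] at hp
  refine ⟨mem_annL.2 (by rw [map_mul, mul_assoc, hp, mul_zero]), mem_annL.2 ?_⟩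
  have hzb : zEl a b * b = b * (a * b) := by
    rw [show zEl a b = zEl b a from add_comm _ _, zEl_mul_left hb, mul_assoc]
  rw [map_mul, aeval_X, aeval_comm (Commute.refl (zEl a b)), mul_assoc, hzb, ← mul_assoc,
    ← aeval_comm (commute_right hb), mul_assoc, ← mul_assoc _ a, hp, zero_mul, mul_zero]

theorem lev_mul_left {T : E} (aa : a * a = 0) (hB : a * b * a = a * T) (r u v : k[X]) :
    (1 + aeval (zEl a b) r * a + aeval (zEl a b) u * (a * b) + aeval (zEl a b) v * (b * a)) * a =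
      a * (1 + T * aeval T u) := by
  have e1 : aeval (zEl a b) u * (a * b) * a = a * (T * aeval T u) := by
    rw [mul_assoc, hB, ← mul_assoc, aeval_mul_left aa hB, mul_assoc, ← aeval_comm (Commute.refl T) u]
  rw [add_mul, add_mul, add_mul, one_mul, mul_assoc (aeval (zEl a b) r), aa, mul_zero, add_zero, e1,
    mul_assoc (aeval (zEl a b) v), mul_assoc b, aa, mul_zero, mul_zero, add_zero, mul_add, mul_one]

theorem lev_mul_right {T : E} (aa : a * a = 0) (hB : a * b * a = a * T) (r u v : k[X]) :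
    a * (1 - aeval (zEl a b) r * a + aeval (zEl a b) v * (a * b) + aeval (zEl a b) u * (b * a)) =
      a * (1 + T * aeval T u) := by
  have e1 : a * (aeval (zEl a b) u * (b * a)) = a * (T * aeval T u) := by
    rw [← mul_assoc a, aeval_comm (commute_left aa), mul_assoc, ← mul_assoc a b a, hB, ← mul_assoc,
      aeval_mul_left aa hB, mul_assoc, ← aeval_comm (Commute.refl T) u]
  rw [mul_add, mul_add, mul_sub, mul_one, ← mul_assoc a (aeval (zEl a b) r), aeval_comm (commute_left aa),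
    mul_assoc _ a a, aa, mul_zero, sub_zero, ← mul_assoc a (aeval (zEl a b) v), aeval_comm (commute_left aa),
    mul_assoc (aeval (zEl a b) v) a, ← mul_assoc a a b, aa, zero_mul, mul_zero, add_zero, e1, mul_add, mul_one]

theorem lev_mul_of_left {T : E} (aa : a * a = 0) (hB : a * b * a = a * T) (r u v : k[X]) {p Y : E}
    (hap : a * p = 0) (hY : a * b * p = a * Y) :
    (1 + aeval (zEl a b) r * a + aeval (zEl a b) u * (a * b) + aeval (zEl a b) v * (b * a)) * p =
      p + a * (aeval T u * Y) := by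
  rw [add_mul, add_mul, add_mul, one_mul, mul_assoc (aeval (zEl a b) r), hap, mul_zero, add_zero,
    mul_assoc (aeval (zEl a b) v), mul_assoc b, hap, mul_zero, mul_zero, add_zero, mul_assoc (aeval (zEl a b) u),
    hY, ← mul_assoc, aeval_mul_left aa hB, mul_assoc]

theorem lev_mul_of_right {T : E} (aa : a * a = 0) (bb : b * b = 0) (hB : a * b * a = a * T) (r u v : k[X]) {p Y : E}
    (hpa : p * a = 0) (hY : p * b * a = a * Y) :
    p * (1 - aeval (zEl a b) r * a + aeval (zEl a b) v * (a * b) + aeval (zEl a b) u * (b * a)) =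
      p + a * (Y * aeval T u) := by
  have e1 : p * (aeval (zEl a b) u * (b * a)) = a * (Y * aeval T u) := by
    rw [← mul_assoc (aeval (zEl a b) u), ← aeval_comm (commute_right bb), mul_assoc b, aeval_mul_left aa hB,
      ← mul_assoc b, ← mul_assoc p, ← mul_assoc p, hY, mul_assoc]
  have e2 : p * (aeval (zEl a b) r * a) = 0 := by rw [aeval_mul_left aa hB, ← mul_assoc, hpa, zero_mul]
  have e3 : p * (aeval (zEl a b) v * (a * b)) = 0 := by
    rw [← mul_assoc (aeval (zEl a b) v), aeval_mul_left aa hB, mul_assoc a, ← mul_assoc p, hpa, zero_mul]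
  rw [mul_add, mul_add, mul_sub, mul_one, e1, e2, e3, sub_zero, add_zero]

variable [Finite k] [Finite E] {M : Subgroup Eˣ}

theorem lev_step (hk : Nat.card k = 3) (ha : Unip k M a) (hb : Unip k M b) (hn : ∀ c : k, a * b * a ≠ c • a)
    {A B : k} (h : zEl a b * zEl a b * a = A • (zEl a b * a) + B • a) : LevEl k M a b := by
  set z := zEl a b with hz
  set K := annL k z a ⊓ annL k z b with hK
  set α : k[X] ⧸ K := Ideal.Quotient.mk K X with hα
  set P : k[X] := X * X - algebraMap k k[X] A * X - algebraMap k k[X] B with hP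
  have hPa : aeval z P * a = 0 := by
    simp only [hP, map_sub, map_mul, aeval_X, AlgHom.commutes, sub_mul]
    rw [h, mul_assoc (algebraMap k E A), ← Algebra.smul_def, ← Algebra.smul_def]
    abel
  have hcub : α ^ 3 - algebraMap k _ A * α ^ 2 - algebraMap k _ B * α = 0 := by
    have := Ideal.Quotient.eq_zero_iff_mem.2 (mul_annL_le (k := k) hb.sq (mem_annL.2 hPa) : X * P ∈ K)
    simp only [hP, map_mul, map_sub, ← hα, Ideal.Quotient.mk_algebraMap] at this
    linear_combination this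
  obtain ⟨g, hg, hq, e, f, hf, w, hw⟩ := Tw.lev_three hk hcub
  obtain ⟨r, hr⟩ := Ideal.Quotient.mk_surjective g.r
  obtain ⟨u, hu⟩ := Ideal.Quotient.mk_surjective g.u
  obtain ⟨v, hv⟩ := Ideal.Quotient.mk_surjective g.v
  obtain ⟨w', rfl⟩ := Ideal.Quotient.mk_surjective w
  have h0 : aeval z (0 : k[X]) = 0 := map_zero _
  have e1 := rho_eq ha.sq hb.sq g r 0 u v hr.symm (by rw [hq, map_zero]) hu.symm hv.symm
  have e2 := rho_eq ha.sq hb.sq g⁻¹ (-r) 0 v u (by show -g.r = _; rw [← hr, map_neg])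
    (by show -g.q = _; rw [hq, neg_zero, map_zero]) (by show g.v = _; exact hv.symm) (by show g.u = _; exact hu.symm)
  rw [h0, zero_mul, add_zero] at e1
  rw [h0, zero_mul, add_zero, map_neg, neg_mul, ← sub_eq_add_neg] at e2
  refine ⟨r, u, v, ?_, ?_, ?_, fun c hc => ?_⟩
  · rw [← e1]; exact inM_rho k a b ha hb hg
  · rw [← e2]; exact inM_rho k a b ha hb (inv_mem hg)
  · rw [← e1, ← e2, ← map_mul, mul_inv_cancel, map_one]
  · have hmem : Ideal.Quotient.mk K (X * u - algebraMap k k[X] e - algebraMap k k[X] f * X - P * w') = 0 := by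
      simp only [hP, map_sub, map_mul, Ideal.Quotient.mk_algebraMap, hu, ← hα]
      linear_combination hw
    have := mem_annL.1 (Ideal.Quotient.eq_zero_iff_mem.1 hmem).1
    rw [map_sub, sub_mul, mul_comm P w', map_mul _ w' P, mul_assoc, hPa, mul_zero, sub_zero] at this
    simp only [map_sub, sub_mul, AlgHom.commutes, map_mul _ (algebraMap k k[X] f), aeval_X] at this
    rw [hc, mul_assoc, ← Algebra.smul_def, ← Algebra.smul_def] at this
    have hfa : f • (z * a) = (c - e) • a := by rw [sub_smul]; exact (sub_eq_zero.1 this).symm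
    refine hn (f⁻¹ * (c - e)) ?_
    rw [← zEl_mul_left ha.sq, ← smul_smul, ← hfa, inv_smul_smul₀ hf]

theorem pair_three_aux (hk : Nat.card k = 3) (P : E → Prop) (ha : Unip k M a)
    (hP : ∀ x, P x → P ((1 + (1 : k) • x) * a * (1 - (1 : k) • x))) :
    ∀ b, Unip k M b → P b → (∀ c : k, a * b * a ≠ c • a) → annL k (zEl a b) a ≤ annL k (zEl a b) b →
      RadLev k M P a b := by
  intro b
  induction hN : Nat.card (Set.range fun p : k[X] => aeval (zEl a b) p * a) using Nat.strong_induction_on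
    generalizing b with
  | _ N ih =>
  intro hb hPb hn hK
  set z := zEl a b with hz
  by_cases hquad : ∃ A B : k, z * z * a = A • (z * a) + B • a
  · obtain ⟨A, B, h⟩ := hquad
    exact Or.inr ⟨b, hb, hPb, lev_step hk ha hb hn h⟩
  set K := annL k z a ⊓ annL k z b with hKdef
  have hKa : ∀ p : k[X], p ∈ K ↔ aeval z p * a = 0 := fun p => ⟨fun h => h.1, fun h => ⟨h, hK h⟩⟩
  set α : k[X] ⧸ K := Ideal.Quotient.mk K X with hα
  haveI : Finite (k[X] ⧸ K) := finite_quot z K le_rfl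
  have hgen : Algebra.adjoin k ({α} : Set (k[X] ⧸ K)) = ⊤ :=
    Tw.adjoin_image (Ideal.Quotient.mkₐ k K) (Ideal.Quotient.mkₐ_surjective k K) Polynomial.adjoin_X
  have hS : ∀ (c : k) (p : k[X]), Ideal.Quotient.mk K p = algebraMap k _ c ↔ aeval z p * a = c • a := fun c p => by
    rw [← Ideal.Quotient.mk_algebraMap, Ideal.Quotient.eq, hKa, map_sub, sub_mul, sub_eq_zero, AlgHom.commutes,
      ← Algebra.smul_def]
  have hαn : α ∉ Set.range (algebraMap k (k[X] ⧸ K)) := by
    rintro ⟨c, hc⟩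
    have := (hS c X).1 hc.symm
    rw [aeval_X, zEl_mul_left ha.sq] at this
    exact hn c this
  by_cases hgood : ∃ p : k[X], z * a = aeval z (p.comp (X * X)) * a
  · obtain ⟨p, hp⟩ := hgood
    have hsq : Tw.SqGen k α := by
      have : α = aeval (α * α) p := by
        rw [hα, ← map_mul]
        show Ideal.Quotient.mkₐ k K X = aeval (Ideal.Quotient.mkₐ k K (X * X)) p
        rw [aeval_algHom_apply, ← comp_eq_aeval]
        exact Ideal.Quotient.eq.2 ((hKa _).2 (by rw [map_sub, sub_mul, aeval_X, hp, sub_self]))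
      rw [Tw.SqGen]
      exact (congrArg (· ∈ Algebra.adjoin k ({α * α} : Set (k[X] ⧸ K))) this).mpr
        (Polynomial.aeval_mem_adjoin_singleton k (α * α))
    rcases Tw.rad_three hk (k[X] ⧸ K) α hgen hαn hsq with ⟨r, hr, hmem⟩ | ⟨A, hA⟩
    · obtain ⟨p, rfl⟩ := Ideal.Quotient.mk_surjective r
      have h := inM_rho k a b ha hb hmem
      rw [rho_apply_up] at h
      exact Or.inl ⟨p, h, fun c hc => hr ⟨c, ((hS c p).2 hc).symm⟩⟩
    · refine absurd ⟨A, 0, ?_⟩ hquad
      rw [hα, ← map_mul, ← Ideal.Quotient.mk_algebraMap, ← map_mul, Ideal.Quotient.eq, hKa, map_sub, sub_mul,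
        sub_eq_zero, map_mul, map_mul, aeval_X, AlgHom.commutes, mul_assoc (algebraMap k E A)] at hA
      rw [zero_smul, add_zero, Algebra.smul_def, ← hA]
  set b' := (1 + (1 : k) • b) * a * (1 - (1 : k) • b) with hb'
  have hz' : zEl a b' = -(z * z) := by
    simp only [hb', hz, zEl, one_smul, mul_add, add_mul, mul_sub, sub_mul, mul_one, one_mul, ← mul_assoc, ha.sq,
      zero_mul, add_zero, zero_add, sub_zero, zero_sub]
    simp only [mul_assoc, ha.sq, hb.sq, mul_zero, zero_mul, add_zero, sub_zero, zero_sub, zero_add]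
    abel
  have hcomp : ∀ p : k[X], aeval (zEl a b') p = aeval z ((p.comp (-X)).comp (X * X)) := fun p => by
    rw [hz', comp_assoc, aeval_comp]; simp
  have hn' : ∀ c : k, a * b' * a ≠ c • a := fun c hc => by
    rw [← zEl_mul_left ha.sq, hz', neg_mul, neg_eq_iff_eq_neg] at hc
    exact hquad ⟨0, -c, by rw [hc, zero_smul, zero_add, neg_smul]⟩
  have hK' : annL k (zEl a b') a ≤ annL k (zEl a b') b' := fun p hp => by
    rw [mem_annL] at hp ⊢
    have hc : Commute (1 + (1 : k) • b) (zEl a b') := by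
      rw [hz', one_smul]
      exact ((Commute.one_left _).add_left ((commute_right hb.sq).symm.mul_right (commute_right hb.sq).symm)).neg_right
    rw [hb', ← mul_assoc, ← mul_assoc, ← aeval_comm hc.symm, mul_assoc _ _ a, hp, mul_zero, zero_mul]
  have hsub : Set.range (fun p : k[X] => aeval (zEl a b') p * a) ⊂ Set.range fun p : k[X] => aeval z p * a := by
    refine ⟨fun x hx => ?_, fun hsup => ?_⟩
    · obtain ⟨p, rfl⟩ := hx; exact ⟨_, (congrArg (· * a) (hcomp p)).symm⟩
    · obtain ⟨p, hp⟩ := hsup ⟨X, rfl⟩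
      simp only [aeval_X] at hp
      exact hgood ⟨p.comp (-X), by rw [← hcomp, hp]⟩
  have hlt : Nat.card (Set.range fun p : k[X] => aeval (zEl a b') p * a) < N :=
    hN ▸ Set.ncard_lt_ncard hsub (Set.toFinite _)
  rcases ih _ hlt b' rfl (ha.conj hb 1) (hP b hPb) hn' hK' with ⟨p, hp, hp'⟩ | h
  · exact Or.inl ⟨(p.comp (-X)).comp (X * X), by rwa [← hcomp], fun c => by rw [← hcomp]; exact hp' c⟩
  · exact Or.inr h

theorem pair_three (hk : Nat.card k = 3) (P : E → Prop) (ha : Unip k M a)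
    (hP : ∀ x, P x → P ((1 + (1 : k) • x) * a * (1 - (1 : k) • x))) {b : E} (hb : Unip k M b) (hPb : P b)
    (hn : ∀ c : k, a * b * a ≠ c • a) :
    (∃ p : k[X], InM M (1 + aeval (zEl a b) p * a) ∧ ∀ c : k, aeval (zEl a b) p * a ≠ c • a) ∨
      ∃ b', Unip k M b' ∧ P b' ∧ LevEl k M a b' := by
  set z := zEl a b with hz
  by_cases hquad : ∃ A B : k, z * z * a = A • (z * a) + B • a
  · obtain ⟨A, B, h⟩ := hquad
    exact Or.inr ⟨b, hb, hPb, lev_step hk ha hb hn h⟩
  set b' := (1 + (1 : k) • b) * a * (1 - (1 : k) • b) with hb'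
  have hz' : zEl a b' = -(z * z) := by
    simp only [hb', hz, zEl, one_smul, mul_add, add_mul, mul_sub, sub_mul, mul_one, one_mul, ← mul_assoc, ha.sq,
      zero_mul, add_zero, zero_add, sub_zero, zero_sub]
    simp only [mul_assoc, ha.sq, hb.sq, mul_zero, zero_mul, add_zero, sub_zero, zero_sub, zero_add]
    abel
  have hn' : ∀ c : k, a * b' * a ≠ c • a := fun c hc => by
    rw [← zEl_mul_left ha.sq, hz', neg_mul, neg_eq_iff_eq_neg] at hc
    exact hquad ⟨0, -c, by rw [hc, zero_smul, zero_add, neg_smul]⟩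
  have hK' : annL k (zEl a b') a ≤ annL k (zEl a b') b' := fun p hp => by
    rw [mem_annL] at hp ⊢
    have hc : Commute (1 + (1 : k) • b) (zEl a b') := by
      rw [hz', one_smul]
      exact ((Commute.one_left _).add_left ((commute_right hb.sq).symm.mul_right (commute_right hb.sq).symm)).neg_right
    rw [hb', ← mul_assoc, ← mul_assoc, ← aeval_comm hc.symm, mul_assoc _ _ a, hp, mul_zero, zero_mul]
  rcases pair_three_aux hk P ha hP b' (ha.conj hb 1) (hP b hPb) hn' hK' with ⟨p, hp, hp'⟩ | h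
  · refine Or.inl ⟨p.comp (-(X * X)), ?_, fun c => ?_⟩
    · rw [aeval_comp]; simpa [← hz'] using hp
    · rw [aeval_comp]; simpa [← hz'] using hp' c
  · exact Or.inr h

end abstract

open CfsgLib.Aschbacher CfsgLib.AschbacherForm
open scoped Matrix MatrixGroups

variable {F : Type*} [Field F] [Fintype F] {d t : ℕ} [NeZero d]
variable (J₁ : GL (Fin d) F) {M : Subgroup (GL (Fin t → Fin d) F)}

theorem cent_mul2 {i : Fin t} {Y Z : Matrix (Fin t → Fin d) (Fin t → Fin d) F} (hY : Cent i Y) (hZ : Cent i Z) :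
    Cent i (Y * Z) := fun A => by rw [← mul_assoc, hY, mul_assoc, hZ, ← mul_assoc]

/-- A vector orthogonal to one and not to another independent vector. -/
theorem exists_sep (hs : ∀ u v, fo J₁ u v = -fo J₁ v u) {v w : Fin d → F} (hw : w ≠ 0)
    (hvw : ∀ c : F, v ≠ c • w) : ∃ s, fo J₁ s v = 1 ∧ fo J₁ s w = 0 := by
  obtain ⟨r, hr⟩ := exists_partner J₁ hw
  by_contra hcon
  push Not at hcon
  have key : ∀ p, fo J₁ p w = 0 → fo J₁ p v = 0 := fun p hp => by
    by_contra h
    exact hcon ((fo J₁ p v)⁻¹ • p) (by rw [fo_smul_left, inv_mul_cancel₀ h]) (by rw [fo_smul_left, hp, mul_zero])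
  have hrw : fo J₁ r w ≠ 0 := by rw [hs, hr]; exact neg_ne_zero.2 one_ne_zero
  refine hvw (fo J₁ r v / fo J₁ r w) ?_
  have hz : ∀ p, fo J₁ p (v + (-(fo J₁ r v / fo J₁ r w)) • w) = 0 := fun p => by
    have h := key (p + (-(fo J₁ p w / fo J₁ r w)) • r) (by
      rw [fo_add_left, fo_smul_left]; field_simp; ring)
    rw [fo_add_left, fo_smul_left] at h
    rw [fo_add_right, fo_smul_right, ← h]
    field_simp
  have hvc : v + (-(fo J₁ r v / fo J₁ r w)) • w = 0 := funext fun x => by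
    obtain ⟨p, hp⟩ := exists_fw J₁ (Pi.single x 1)
    simpa [fo, hp] using hz p
  rwa [neg_smul, ← sub_eq_add_neg, sub_eq_zero] at hvc

theorem exists_perp_pair (hc : Ctx J₁ M) (hd : 3 ≤ d) {w : Fin d → F} (hw : w ≠ 0) :
    ∃ s s', fo J₁ w s = 0 ∧ fo J₁ w s' = 0 ∧ fo J₁ s s' = 1 := by
  have hsk := fo_skew J₁ hc.skew
  obtain ⟨x, hx⟩ := exists_partner J₁ hw
  -- a vector orthogonal to `w`, independent of it
  obtain ⟨s, hws, hs⟩ : ∃ s, fo J₁ w s = 0 ∧ ∀ c : F, s ≠ c • w := by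
    by_contra hcon
    push Not at hcon
    have hspan : Submodule.span F (Set.range ![x, w]) = ⊤ := eq_top_iff.2 fun v _ => by
      obtain ⟨c, hc'⟩ := hcon (v + (-fo J₁ w v) • x) (by rw [fo_add_right, fo_smul_right, hx]; ring)
      rw [show v = fo J₁ w v • x + c • w by rw [← hc']; module]
      exact Submodule.add_mem _ (Submodule.smul_mem _ _ (Submodule.subset_span ⟨0, rfl⟩))
        (Submodule.smul_mem _ _ (Submodule.subset_span ⟨1, rfl⟩))
    have h := finrank_range_le_card (R := F) ![x, w]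
    rw [Set.finrank, hspan, finrank_top, Module.finrank_fin_fun, Fintype.card_fin] at h
    omega
  obtain ⟨s', h1, h2⟩ := exists_sep J₁ hsk hw hs
  exact ⟨s, -s', hws, by rw [← neg_one_smul F s', fo_smul_right, hsk, h2]; ring,
    by rw [← neg_one_smul F s', fo_smul_right, hsk, h1]; ring⟩

theorem rk_expand (w s : Fin d → F) :
    rk J₁ w s + rk J₁ s w = aR J₁ (w + s) - aR J₁ w - aR J₁ s := by
  simp only [aR, rk_add_left, rk_add_right]; abel

theorem Ctx.unip_sym (hc : Ctx J₁ M) (i : Fin t) {w s : Fin d → F} (hws : fo J₁ w s = 0) :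
    Unip F M (slot i (rk J₁ w s + rk J₁ s w)) := by
  have hsw : fo J₁ s w = 0 := by rw [fo_skew J₁ hc.skew, hws, neg_zero]
  have hww := fo_self J₁ hc.skew hc.two w
  have hss := fo_self J₁ hc.skew hc.two s
  refine ⟨?_, fun c => ?_⟩
  · rw [← slot_mul, show (rk J₁ w s + rk J₁ s w) * (rk J₁ w s + rk J₁ s w) = 0 by
      simp [add_mul, mul_add, rk_mul, hws, hsw, hww, hss], slot_zero]
  · have h := (((hc.root i (w + s)).mem c).mul ((hc.root i w).mem (-c))).mul ((hc.root i s).mem (-c))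
    convert h using 1
    simp only [← slot_smul, ← slot_one i, ← slot_add, ← slot_mul]
    congr 1
    simp only [aR, rk_add_left, rk_add_right, add_mul, mul_add, one_mul, mul_one, smul_mul_smul_comm, smul_add,
      rk_mul, Matrix.smul_mul, Matrix.mul_smul, hws, hsw, hww, hss, zero_smul, smul_zero, add_zero, zero_add]
    module

theorem Ctx.skew_conj (hc : Ctx J₁ M) (i : Fin t) (u : Fin d → F)
    {C : Matrix (Fin t → Fin d) (Fin t → Fin d) F} (hC : adjJ (JT t J₁) C = -C) :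
    adjJ (JT t J₁) ((1 + (1 : F) • C) * slot i (aR J₁ u) * (1 - (1 : F) • C)) =
      -((1 + (1 : F) • C) * slot i (aR J₁ u) * (1 - (1 : F) • C)) := by
  simp only [adjJ_mul, adjJ_sub, adjJ_add, adjJ_one, adjJ_smul, hC, adj_slot, adj_aR J₁ hc.skew, slot_neg,
    one_smul, sub_neg_eq_add, neg_mul, mul_neg, ← mul_assoc]
  rw [← sub_eq_add_neg]

theorem Ctx.lev_contra (hc : Ctx J₁ M) (hd : 3 ≤ d) (hn : ¬ NonRoot J₁ M) {i : Fin t} {w : Fin d → F} (hw : w ≠ 0)
    {b : Matrix (Fin t → Fin d) (Fin t → Fin d) F} (hb : Unip F M b) (hbs : adjJ (JT t J₁) b = -b)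
    (hlev : LevEl F M (slot i (aR J₁ w)) b) : False := by
  obtain ⟨r, u, v, hg, hg', hgg, hu⟩ := hlev
  obtain ⟨a, ha⟩ : ∃ a, a = slot (s := t) i (aR J₁ w) := ⟨_, rfl⟩
  rw [← ha] at hg hg' hgg hu
  obtain ⟨T, hT⟩ : ∃ T, T = bop J₁ i w w b := ⟨_, rfl⟩
  have hTc : Cent i T := hT ▸ cent_bop J₁ i w w b
  have hTadj : adjJ (JT t J₁) T = T := by
    rw [hT, adj_bop J₁ hc.skew, hbs, ← neg_one_smul F b, bop_smul, neg_one_smul, neg_neg]
  have hB : a * b * a = a * T := by rw [ha, hT, aR]; exact sandwich J₁ i w w w w b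
  have aa : a * a = 0 := ha ▸ (hc.root i w).sq
  have hga := lev_mul_left aa hB r u v
  have hag := lev_mul_right aa hB r u v
  have hgp := @lev_mul_of_left F _ _ _ _ a b T aa hB r u v
  have hpg := @lev_mul_of_right F _ _ _ _ a b T aa hb.sq hB r u v
  obtain ⟨g, hgdef⟩ : ∃ g, g = 1 + Polynomial.aeval (zEl a b) r * a + Polynomial.aeval (zEl a b) u * (a * b) +
      Polynomial.aeval (zEl a b) v * (b * a) := ⟨_, rfl⟩
  obtain ⟨g', hg'def⟩ : ∃ g', g' = 1 - Polynomial.aeval (zEl a b) r * a + Polynomial.aeval (zEl a b) v * (a * b) +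
      Polynomial.aeval (zEl a b) u * (b * a) := ⟨_, rfl⟩
  rw [← hgdef] at hg hgg hga hgp
  rw [← hg'def] at hg' hgg hag hpg
  obtain ⟨U, hU⟩ : ∃ U, U = Polynomial.aeval T u := ⟨_, rfl⟩
  rw [← hU] at hga hag hgp hpg
  have hUc : Cent i U := hU ▸ cent_aeval hTc u
  obtain ⟨L, hL⟩ : ∃ L, L = T * U := ⟨_, rfl⟩
  rw [← hL] at hga hag
  have hLc : Cent i L := hL ▸ cent_mul2 hTc hUc
  have hLadj : adjJ (JT t J₁) L = L := by
    rw [hL, adjJ_mul, hU, adj_aeval J₁ hTadj, hTadj, ← aeval_comm (Commute.refl T) u]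
  have hΛc : Cent i (1 + L) := fun A => by rw [mul_add, add_mul, mul_one, one_mul, hLc]
  obtain ⟨s, s', hws, hws', hss'⟩ := exists_perp_pair J₁ hc hd hw
  have hsk := fo_skew J₁ hc.skew
  have hsw : fo J₁ s w = 0 := by rw [hsk, hws, neg_zero]
  have hs'w : fo J₁ s' w = 0 := by rw [hsk, hws', neg_zero]
  have hs's : fo J₁ s' s = -1 := by rw [hsk, hss']
  have hww := fo_self J₁ hc.skew hc.two w
  obtain ⟨x, hx⟩ := exists_partner J₁ hw
  have hxw : fo J₁ x w = -1 := by rw [hsk, hx]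
  obtain ⟨p, hp⟩ : ∃ p, p = slot (s := t) i (rk J₁ s w) := ⟨_, rfl⟩
  obtain ⟨p', hp'⟩ : ∃ p', p' = slot (s := t) i (rk J₁ w s) := ⟨_, rfl⟩
  obtain ⟨m, hm⟩ : ∃ m, m = slot (s := t) i (-rk J₁ s x) := ⟨_, rfl⟩
  obtain ⟨m', hm'⟩ : ∃ m', m' = slot (s := t) i (rk J₁ x s) := ⟨_, rfl⟩
  have hpm : p = m * a := by
    rw [hp, hm, ha, ← slot_mul, neg_mul, aR, rk_mul, hxw, neg_one_smul, neg_neg]
  have hpm' : p' = a * m' := by rw [hp', hm', ha, ← slot_mul, aR, rk_mul, hx, one_smul]
  have hap : a * p = 0 := by rw [hp, ha, ← slot_mul, aR, rk_mul, hws, zero_smul, slot_zero]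
  have hp'a : p' * a = 0 := by rw [hp', ha, ← slot_mul, aR, rk_mul, hsw, zero_smul, slot_zero]
  have habp : a * b * p = a * bop J₁ i w s b := by rw [hp, ha, aR]; exact sandwich J₁ i w w s w b
  have hpba : p' * b * a = a * bop J₁ i s w b := by rw [hp', ha, aR]; exact sandwich J₁ i w s w w b
  have hca : ∀ {Y}, Cent i Y → Y * a = a * Y := fun hY => by rw [ha, hY]
  obtain ⟨Z, hZc, hconj⟩ : ∃ Z, Cent i Z ∧ g * (p' + p) * g' = (p' + p) * (1 + L) + a * Z := by
    refine ⟨(1 + L) * bop J₁ i s w b * U + U * bop J₁ i w s b * (1 + L), fun A => ?_, ?_⟩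
    · rw [mul_add (slot i A), add_mul _ _ (slot i A), cent_mul2 (cent_mul2 hΛc (cent_bop J₁ i s w b)) hUc A,
        cent_mul2 (cent_mul2 hUc (cent_bop J₁ i w s b)) hΛc A]
    · have h1 : g * p' = (1 + L) * p' := by
        rw [hpm', ← mul_assoc, hga, ← hca hΛc, mul_assoc]
      have h2 : p * g' = p * (1 + L) := by rw [hpm, mul_assoc, hag, ← mul_assoc]
      have e3 : a * (U * bop J₁ i w s b) * g' = a * (U * bop J₁ i w s b * (1 + L)) := by
        rw [← hca (cent_mul2 hUc (cent_bop J₁ i w s b)), mul_assoc _ a, hag, ← mul_assoc,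
          hca (cent_mul2 hUc (cent_bop J₁ i w s b)), mul_assoc]
      rw [mul_add g, h1, hgp hap habp, add_mul, add_mul p, h2, e3, mul_assoc (1 + L), hpg hp'a hpba, mul_add (1 + L),
        ← mul_assoc (1 + L) a, hca hΛc, mul_assoc a (1 + L), ← mul_assoc (1 + L) (bop J₁ i s w b) U,
        show (1 + L) * p' = p' * (1 + L) by rw [hp', hΛc], add_mul p', mul_add a]
      abel
  obtain ⟨N, hN⟩ : ∃ N, N = slot (s := t) i (rk J₁ w s + rk J₁ s w) := ⟨_, rfl⟩
  obtain ⟨N', hN'def⟩ : ∃ N', N' = slot (s := t) i (rk J₁ w s' + rk J₁ s' w) := ⟨_, rfl⟩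
  rw [show p' + p = N by rw [hp, hp', hN, slot_add]] at hconj
  have hNU : Unip F M N := hN ▸ hc.unip_sym J₁ i hws
  have hN'U : Unip F M N' := hN'def ▸ hc.unip_sym J₁ i hws'
  have haN : a * N = 0 := by rw [ha, hN, ← slot_mul, aR, mul_add, rk_mul, rk_mul, hww, hws]; simp [slot_zero]
  have hNa : N * a = 0 := by rw [ha, hN, ← slot_mul, aR, add_mul, rk_mul, rk_mul, hww, hsw]; simp [slot_zero]
  have haN' : a * N' = 0 := by rw [ha, hN'def, ← slot_mul, aR, mul_add, rk_mul, rk_mul, hww, hws']; simp [slot_zero]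
  have hN'a : N' * a = 0 := by rw [ha, hN'def, ← slot_mul, aR, add_mul, rk_mul, rk_mul, hww, hs'w]; simp [slot_zero]
  have hN'N : N' * N = -a := by
    rw [ha, hN, hN'def, ← slot_mul, ← slot_neg]
    congr 1
    simp [aR, add_mul, mul_add, rk_mul, hww, hws, hs'w, hs's]
  have hNN' : N * N' = a := by
    rw [ha, hN, hN'def, ← slot_mul]
    congr 1
    simp [aR, add_mul, mul_add, rk_mul, hww, hws', hsw, hss']
  have hcN : ∀ {Y}, Cent i Y → Y * N = N * Y := fun hY => by rw [hN, hY]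
  have hcN' : ∀ {Y}, Cent i Y → Y * N' = N' * Y := fun hY => by rw [hN'def, hY]
  obtain ⟨D, hD⟩ : ∃ D, D = N * L + a * Z := ⟨_, rfl⟩
  have hDN0 : D * N = 0 := by
    rw [hD, add_mul, mul_assoc, hcN hLc, ← mul_assoc, hNU.sq, zero_mul, mul_assoc, hcN hZc, ← mul_assoc, haN,
      zero_mul, add_zero]
  have hDa : D * a = 0 := by
    rw [hD, add_mul, mul_assoc, hca hLc, ← mul_assoc, hNa, zero_mul, mul_assoc, hca hZc, ← mul_assoc, aa,
      zero_mul, add_zero]
  have haD : a * D = 0 := by rw [hD, mul_add, ← mul_assoc, haN, ← mul_assoc a a, aa, zero_mul, zero_mul, add_zero]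
  have hDsq : D * D = 0 := by
    nth_rw 2 [hD]
    rw [mul_add, ← mul_assoc, hDN0, ← mul_assoc, hDa, zero_mul, zero_mul, add_zero]
  have h1 : InM M (1 + D) := by
    have h := ((hg.mul (hNU.mem 1)).mul hg').mul (hNU.mem (-1))
    rw [one_smul, mul_add g, mul_one, add_mul, hgg, hconj, neg_smul, one_smul] at h
    rw [show (1 + D : Matrix (Fin t → Fin d) (Fin t → Fin d) F) = (1 + (N * (1 + L) + a * Z)) * (1 + -N) by
      rw [mul_add N, mul_one, add_assoc N, ← hD, mul_add, mul_one, mul_neg, add_mul, one_mul, add_mul, hNU.sq, hDN0]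
      abel]
    exact h
  obtain ⟨G, hG, hGe⟩ := h1
  have h1 : InM M (1 + D) := ⟨G, hG, hGe⟩
  have h1' : InM M (1 - D) := ⟨G⁻¹, inv_mem hG, left_inv_eq_right_inv (Units.inv_mul G) (by
    rw [hGe, add_mul, one_mul, mul_sub, mul_one, hDsq, sub_zero, sub_add_cancel])⟩
  have hND : N' * D = -(a * L) := by
    rw [hD, mul_add, ← mul_assoc, hN'N, ← mul_assoc N', hN'a, zero_mul, add_zero, neg_mul]
  have hDN : D * N' = a * L := by
    rw [hD, add_mul, mul_assoc, hcN' hLc, ← mul_assoc, hNN', mul_assoc a Z, hcN' hZc, ← mul_assoc a, haN', zero_mul,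
      add_zero]
  have h := (((hN'U.mem 1).mul h1).mul (hN'U.mem (-1))).mul h1'
  have hLD : a * L * D = 0 := by rw [← hca hLc, mul_assoc, haD, mul_zero]
  have hLN : a * L * N' = 0 := by rw [← hca hLc, mul_assoc, haN', mul_zero]
  have key : (1 + (1 : F) • N') * (1 + D) * (1 + (-1 : F) • N') * (1 - D) = 1 + a * ((-2 : F) • L) := by
    simp only [one_smul, neg_smul, add_mul, mul_add, one_mul, mul_one, mul_neg, neg_mul, mul_sub, sub_mul,
      hND, hDN, hN'U.sq, hDsq, neg_neg, mul_smul_comm, hLD, hLN, neg_zero, sub_zero, add_zero]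
    module
  rw [key, ha] at h
  have hc2 : Cent i ((-2 : F) • L) := fun A => by rw [mul_smul_comm, smul_mul_assoc, hLc]
  refine hn ⟨i, w, hw, (-2 : F) • L, hc2, by rw [adjJ_smul, hLadj], fun c e => ?_, hc.scale_mem J₁ hw hc2 h⟩
  refine hu ((-2 : F)⁻¹ * c) ?_
  have h2 : (-2 : F) ≠ 0 := neg_ne_zero.2 hc.two
  rw [map_mul, Polynomial.aeval_X, mul_assoc, aeval_mul_left aa hB, ← mul_assoc, zEl_mul_left aa, hB, mul_assoc,
    ← hU, ← hL, ← smul_smul, eq_inv_smul_iff₀ h2, ← mul_smul_comm, e, mul_smul_comm, mul_one]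

/-- Without exceptional products all diagonal coefficients are scalars (three scalars, dimension three or more). -/
theorem Ctx.singles_three (hc : Ctx J₁ M) (hk : Nat.card F = 3) (hd : 3 ≤ d) (hn : ¬ NonRoot J₁ M) :
    Singles J₁ M := by
  intro C hC hCs i w
  by_contra hcon
  push Not at hcon
  have hw : w ≠ 0 := fun e => hcon 0 (by rw [e, ← zero_smul F (0 : Fin d → F), bop_smul_left, zero_smul, zero_smul])
  have hB : slot i (aR J₁ w) * C * slot i (aR J₁ w) = slot i (aR J₁ w) * bop J₁ i w w C := sandwich J₁ i w w w w C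
  have hcancel : ∀ Y, Cent i Y → ∀ c : F, slot i (aR J₁ w) * Y = c • slot i (aR J₁ w) → Y = c • 1 := fun Y hY c he => by
    refine sub_eq_zero.1 (eq_zero_of_slot_mul J₁ i (rk_ne_zero J₁ hw hw) (X := Y - c • 1) (fun A => ?_) ?_)
    · rw [mul_sub, sub_mul, hY, mul_smul_comm, smul_mul_assoc, mul_one, one_mul]
    · rw [mul_sub, mul_smul_comm, mul_one]
      exact sub_eq_zero.2 he
  rcases pair_three hk (fun x => adjJ (JT t J₁) x = -x) (hc.root i w) (fun x hx => hc.skew_conj J₁ i w hx) hC hCs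
    (fun c e => hcon c (hcancel _ (cent_bop J₁ i w w C) c (hB ▸ e))) with ⟨p, hp, hp'⟩ | ⟨b, hb, hbs, hlev⟩
  · rw [aeval_mul_left (hc.root i w).sq hB] at hp
    have hadj : adjJ (JT t J₁) (bop J₁ i w w C) = bop J₁ i w w C := by
      rw [adj_bop J₁ hc.skew, hCs, ← neg_one_smul F C, bop_smul, neg_one_smul, neg_neg]
    refine hn ⟨i, w, hw, _, cent_aeval (cent_bop J₁ i w w C) p, adj_aeval J₁ hadj p, fun c e => ?_,
      hc.scale_mem J₁ hw (cent_aeval (cent_bop J₁ i w w C) p) hp⟩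
    exact hp' c (by rw [aeval_mul_left (hc.root i w).sq hB, e, mul_smul_comm, mul_one])
  · exact hc.lev_contra J₁ hd hn hw hb hbs hlev

end CfsgLib.TensorWreath
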