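import Cfsg.Agent.Lib.TensorWreath.Coord
import Cfsg.Agent.Lib.TensorWreath.Rep
import Cfsg.Agent.Lib.AschbacherForm.Wreath

/-!
A group of isometries of a tensor power of a symplectic form containing the one-slot root elements: either some
product `slot (root) * Y` with `Y` outside the scalars gives group elements, or conjugates of one-slot root elements
lie in one slot and the group permutes the slots.
-/

set_option autoImplicit false
set_option linter.unusedSectionVars false

namespace CfsgLib.TensorWreath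

open CfsgLib.Aschbacher CfsgLib.AschbacherForm
open scoped Matrix MatrixGroups
open Polynomial (aeval)

variable {F : Type*} [Field F] {d t : ℕ}

/-- The hypotheses: an isometry group containing the one-slot root elements. -/
structure Ctx (J₁ : GL (Fin d) F) (M : Subgroup (GL (Fin t → Fin d) F)) : Prop where
  skew : (J₁ : Matrix (Fin d) (Fin d) F)ᵀ = -(J₁ : Matrix (Fin d) (Fin d) F)
  two : (2 : F) ≠ 0
  sim : ∀ g ∈ M, adjJ (JT t J₁) (g : Matrix (Fin t → Fin d) (Fin t → Fin d) F) =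
    ((g⁻¹ : GL (Fin t → Fin d) F) : Matrix (Fin t → Fin d) (Fin t → Fin d) F)
  root : ∀ i u, Unip F M (slot i (aR J₁ u))

/-- A product of a one-slot root element and a self-adjoint non-scalar matrix gives group elements. -/
def NonRoot (J₁ : GL (Fin d) F) (M : Subgroup (GL (Fin t → Fin d) F)) : Prop :=
  ∃ i u, u ≠ 0 ∧ ∃ Y : Matrix (Fin t → Fin d) (Fin t → Fin d) F, Cent i Y ∧ adjJ (JT t J₁) Y = Y ∧
    (∀ c : F, Y ≠ c • 1) ∧ Unip F M (slot i (aR J₁ u) * Y)

/-- All one-slot coefficients on the diagonal are scalars. -/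
def Singles (J₁ : GL (Fin d) F) (M : Subgroup (GL (Fin t → Fin d) F)) : Prop :=
  ∀ C : Matrix (Fin t → Fin d) (Fin t → Fin d) F, Unip F M C → adjJ (JT t J₁) C = -C →
    ∀ i u, ∃ c : F, bop J₁ i u u C = c • 1

section abstract

variable {k E : Type*} [Field k] [Ring E] [Algebra k E]

open Polynomial in
theorem rho_const {a b : E} (ha : a * a = 0) (hb : b * b = 0)
    (g : Tw (Ideal.Quotient.mk (annL k (zEl a b) a ⊓ annL k (zEl a b) b) X)) (r q u v : k)
    (hr : g.r = algebraMap k _ r) (hq : g.q = algebraMap k _ q) (hu : g.u = algebraMap k _ u)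
    (hv : g.v = algebraMap k _ v) :
    rho k a b ha hb g = 1 + r • a + q • b + u • (a * b) + v • (b * a) := by
  set K := annL k (zEl a b) a ⊓ annL k (zEl a b) b
  have key : ∀ (x : k[X] ⧸ K) (c : k), x = algebraMap k _ c →
      aeval (zEl a b) (Quotient.out x) * a = c • a ∧ aeval (zEl a b) (Quotient.out x) * b = c • b := by
    rintro x c rfl
    rw [← Ideal.Quotient.mk_algebraMap]
    obtain ⟨h1, h2⟩ := Ideal.Quotient.eq.1 (Quotient.out_eq (Ideal.Quotient.mk K (algebraMap k k[X] c)))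
    refine ⟨?_, ?_⟩
    · rw [sub_eq_zero.1 (show aeval (zEl a b) (Quotient.out (Ideal.Quotient.mk K (algebraMap k k[X] c))) * a -
          aeval (zEl a b) (algebraMap k k[X] c) * a = 0 by
        rw [← sub_mul, ← map_sub]; exact mem_annL.1 h1), AlgHom.commutes, ← Algebra.smul_def]
    · rw [sub_eq_zero.1 (show aeval (zEl a b) (Quotient.out (Ideal.Quotient.mk K (algebraMap k k[X] c))) * b -
          aeval (zEl a b) (algebraMap k k[X] c) * b = 0 by
        rw [← sub_mul, ← map_sub]; exact mem_annL.1 h2), AlgHom.commutes, ← Algebra.smul_def]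
  simp only [rho, MonoidHom.coe_mk, OneHom.coe_mk, ← mul_assoc, (key _ _ hr).1, (key _ _ hq).2, (key _ _ hu).1,
    (key _ _ hv).2, smul_mul_assoc]

/-- The torus of a pair with `aba = a` scales products with `a` by squares. -/
theorem torus_scale [Finite E] {M : Subgroup Eˣ} {a b X : E} (ha : Unip k M a) (hb : Unip k M b)
    (hab : a * b * a = a) (hba : b * a * b = b) (haY : ∃ Y, X = a * Y ∧ Commute a Y ∧ Commute b Y) {l : k}
    (hl : l ≠ 0) (hX : InM M (1 + X)) : InM M (1 + (l * l) • X) := by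
  open Polynomial in
  obtain ⟨Y, rfl, hYa, hYb⟩ := haY
  set K := annL k (zEl a b) a ⊓ annL k (zEl a b) b with hK
  have h1 : ((Algebra.ofId k (k[X] ⧸ K) : k →ₐ[k] k[X] ⧸ K) : k →+* k[X] ⧸ K) (1 : k) =
      Ideal.Quotient.mk K Polynomial.X := by
    rw [map_one, ← map_one (Ideal.Quotient.mk K), Ideal.Quotient.eq]
    refine ⟨mem_annL.2 ?_, mem_annL.2 ?_⟩
    · rw [map_sub, map_one, Polynomial.aeval_X, sub_mul, one_mul, zEl_mul_left ha.sq, hab, sub_self]
    · rw [map_sub, map_one, Polynomial.aeval_X, sub_mul, one_mul, show zEl a b = zEl b a from add_comm _ _,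
        zEl_mul_left hb.sq, hba, sub_self]
  set g : Tw (1 : k) := Tw.up 1 l * Tw.lo 1 (-l⁻¹) * Tw.up 1 l * Tw.up 1 (-1) * Tw.lo 1 1 * Tw.up 1 (-1) with hg
  have hgG : g ∈ Tw.G (1 : k) k := by
    have hu : ∀ c : k, Tw.up 1 c ∈ Tw.G (1 : k) k := fun c => by simpa using Tw.up_mem (α := (1 : k)) c
    have hl : ∀ c : k, Tw.lo 1 c ∈ Tw.G (1 : k) k := fun c => by simpa using Tw.lo_mem (α := (1 : k)) c
    exact mul_mem (mul_mem (mul_mem (mul_mem (mul_mem (hu _) (hl _)) (hu _)) (hu _)) (hl _)) (hu _)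
  have hge : g.r = 0 ∧ g.q = 0 ∧ g.u = l - 1 ∧ g.v = l⁻¹ - 1 := by
    have e : l * l⁻¹ = 1 := mul_inv_cancel₀ hl
    refine ⟨?_, ?_, ?_, ?_⟩ <;> simp [hg]
    · linear_combination e
    · linear_combination (-1) * e
    · ring
    · ring
  set φ := Tw.map ((Algebra.ofId k (k[X] ⧸ K) : k →ₐ[k] k[X] ⧸ K) : k →+* k[X] ⧸ K) h1
  have hm : φ g ∈ Tw.G (Ideal.Quotient.mk K Polynomial.X) k := (Tw.map_G (α := (1 : k)) _ h1).le ⟨g, hgG, rfl⟩
  obtain ⟨hr, hq, hu, hv⟩ := hge
  obtain ⟨U, hU, hUe⟩ := inM_rho k a b ha hb hm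
  obtain ⟨V, hV, hVe⟩ := inM_rho k a b ha hb (inv_mem hm)
  have e1 := rho_const ha.sq hb.sq (φ g) 0 0 (l - 1) (l⁻¹ - 1) (congrArg (algebraMap k (k[X] ⧸ K)) hr)
    (congrArg (algebraMap k (k[X] ⧸ K)) hq) (congrArg (algebraMap k (k[X] ⧸ K)) hu)
    (congrArg (algebraMap k (k[X] ⧸ K)) hv)
  have e2 := rho_const ha.sq hb.sq (φ g)⁻¹ 0 0 (l⁻¹ - 1) (l - 1)
    (by show -(φ g).r = _; rw [show (φ g).r = algebraMap k _ g.r from rfl, hr, map_zero, neg_zero])
    (by show -(φ g).q = _; rw [show (φ g).q = algebraMap k _ g.q from rfl, hq, map_zero, neg_zero])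
    (congrArg (algebraMap k (k[X] ⧸ K)) hv) (congrArg (algebraMap k (k[X] ⧸ K)) hu)
  have hprod : (U : E) * (V : E) = 1 := by rw [hUe, hVe, ← map_mul, mul_inv_cancel, map_one]
  simp only [zero_smul, add_zero] at e1 e2
  rw [e1] at hUe
  rw [e2] at hVe
  have hUa : (U : E) * a = l • a := by
    rw [hUe, add_mul, add_mul, one_mul, smul_mul_assoc, smul_mul_assoc, hab, mul_assoc b a a, ha.sq, mul_zero,
      smul_zero, add_zero, sub_smul, one_smul, add_sub_cancel]
  have haV : a * (V : E) = l • a := by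
    rw [hVe, mul_add, mul_add, mul_one, mul_smul_comm, mul_smul_comm, ← mul_assoc a a b, ha.sq, zero_mul, smul_zero,
      add_zero, ← mul_assoc, hab, sub_smul, one_smul, add_sub_cancel]
  have hYV : Commute Y (V : E) := by
    rw [hVe]
    exact (((Commute.one_right Y).add_right ((hYa.symm.mul_right hYb.symm).smul_right _)).add_right
      ((hYb.symm.mul_right hYa.symm).smul_right _))
  have h := ((show InM M (U : E) from ⟨U, hU, rfl⟩).mul hX).mul (show InM M (V : E) from ⟨V, hV, rfl⟩)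
  rwa [mul_add, mul_one, add_mul, hprod, ← mul_assoc, hUa, mul_assoc, hYV.eq, smul_mul_assoc, ← mul_assoc a, haV,
    smul_mul_assoc, smul_smul] at h

theorem pow_mul_left {a b B : E} (ha : a * a = 0) (hB : a * b * a = a * B) (n : ℕ) :
    zEl a b ^ n * a = a * B ^ n := by
  induction n with
  | zero => simp
  | succ n ih =>
    rw [pow_succ', pow_succ', mul_assoc, ih, ← mul_assoc, zEl_mul_left ha, hB, mul_assoc]

theorem aeval_mul_left {a b B : E} (ha : a * a = 0) (hB : a * b * a = a * B) (p : Polynomial k) :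
    aeval (zEl a b) p * a = a * aeval B p := by
  induction p using Polynomial.induction_on' with
  | add p q hp hq => rw [map_add, map_add, add_mul, mul_add, hp, hq]
  | monomial n c =>
    simp only [Polynomial.aeval_monomial, ← Algebra.smul_def, smul_mul_assoc, mul_smul_comm, pow_mul_left ha hB]

end abstract

variable (J₁ : GL (Fin d) F) {M : Subgroup (GL (Fin t → Fin d) F)}

theorem fw_injective : Function.Injective (fw J₁) := fun u v h => sub_eq_zero.1 ((fw_eq_zero J₁).1 (by
  rw [fw, Matrix.sub_vecMul]; exact sub_eq_zero.2 h))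

theorem exists_partner {u : Fin d → F} (hu : u ≠ 0) : ∃ v, fo J₁ u v = 1 := by
  obtain ⟨z, hz⟩ := Function.ne_iff.1 fun e => hu ((fw_eq_zero J₁).1 e)
  exact ⟨(fw J₁ u z)⁻¹ • Pi.single z 1, by rw [fo_smul_right, fo, dotProduct_single, mul_one, inv_mul_cancel₀ hz]⟩

theorem exists_nonorth (hs : ∀ u v, fo J₁ u v = -fo J₁ v u) {u v : Fin d → F} (hu : u ≠ 0) (hv : v ≠ 0) :
    ∃ s, fo J₁ u s ≠ 0 ∧ fo J₁ v s ≠ 0 := by
  obtain ⟨x, hx⟩ := exists_partner J₁ hu
  obtain ⟨y, hy⟩ := exists_partner J₁ hv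
  by_cases h1 : fo J₁ v x = 0
  · by_cases h2 : fo J₁ u y = 0
    · exact ⟨x + y, by rw [fo_add_right, hx, h2, add_zero]; exact one_ne_zero,
        by rw [fo_add_right, hy, h1, zero_add]; exact one_ne_zero⟩
    · exact ⟨y, h2, by rw [hy]; exact one_ne_zero⟩
  · exact ⟨x, by rw [hx]; exact one_ne_zero, h1⟩

variable [Fintype F]

theorem Ctx.unip_conj (hc : Ctx J₁ M) {g : GL (Fin t → Fin d) F} (hg : g ∈ M) (i : Fin t) (u : Fin d → F) :
    Unip F M (cj g (slot i (aR J₁ u))) ∧
      adjJ (JT t J₁) (cj g (slot i (aR J₁ u))) = -cj g (slot i (aR J₁ u)) := by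
  refine ⟨⟨by rw [← map_mul, (hc.root i u).sq, map_zero], fun c => ?_⟩, ?_⟩
  · obtain ⟨h, hh, he⟩ := (hc.root i u).mem c
    refine ⟨g * h * g⁻¹, mul_mem (mul_mem hg hh) (inv_mem hg), ?_⟩
    rw [← map_smul, ← map_one (cj g), ← map_add, ← he, cj_apply, Units.val_mul, Units.val_mul]
  · rw [cj_apply, adjJ_mul, adjJ_mul, adj_slot, adj_aR J₁ hc.skew, hc.sim _ hg,
      hc.sim _ (inv_mem hg), inv_inv, slot_neg, neg_mul, mul_neg, ← mul_assoc]

theorem Ctx.scale_mem (hc : Ctx J₁ M) {i : Fin t} {u : Fin d → F} (hu : u ≠ 0)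
    {Y : Matrix (Fin t → Fin d) (Fin t → Fin d) F} (hY : Cent i Y) (h : InM M (1 + slot i (aR J₁ u) * Y)) :
    Unip F M (slot i (aR J₁ u) * Y) := by
  set a := slot (s := t) i (aR J₁ u) with ha
  refine ⟨by rw [mul_assoc, ← mul_assoc Y, ← hY, mul_assoc, ← mul_assoc, (hc.root i u).sq, zero_mul], fun c => ?_⟩
  obtain ⟨v, hv⟩ := exists_partner J₁ hu
  set b := -slot (s := t) i (aR J₁ v) with hb
  have hbU : Unip F M b := ⟨by rw [hb, neg_mul_neg, (hc.root i v).sq], fun x => by
    rw [hb, smul_neg, ← neg_smul]; exact (hc.root i v).mem (-x)⟩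
  have hv' : fo J₁ v u = -1 := by rw [fo_skew J₁ hc.skew, hv]
  have hab : a * b * a = a := by
    rw [ha, hb, ← slot_neg, ← slot_mul, ← slot_mul]
    congr 1
    rw [aR, aR, mul_neg, neg_mul, rk_mul, Matrix.smul_mul, rk_mul, smul_smul, hv, hv']
    simp
  have hba : b * a * b = b := by
    rw [ha, hb, ← slot_neg, ← slot_mul, ← slot_mul]
    congr 1
    rw [aR, aR, neg_mul, neg_mul, mul_neg, neg_neg, rk_mul, Matrix.smul_mul, rk_mul, smul_smul, hv, hv']
    simp
  obtain ⟨x, y, hxy⟩ : ∃ x y : F, x * x + y * y = c := by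
    have hodd : Fintype.card F % 2 = 1 := by
      rcases Nat.mod_two_eq_zero_or_one (Fintype.card F) with h0 | h0
      · exfalso
        obtain ⟨p, hp⟩ := CharP.exists F
        obtain ⟨n, hp', hcard⟩ := FiniteField.card F p
        have : p = 2 := (Nat.prime_dvd_prime_iff_eq Nat.prime_two hp').1
          (Nat.prime_two.dvd_of_dvd_pow (hcard ▸ Nat.dvd_of_mod_eq_zero h0)) |>.symm
        subst this
        exact hc.two (by exact_mod_cast CharP.cast_eq_zero F 2)
      · exact h0
    obtain ⟨x, y, hxy⟩ := FiniteField.exists_root_sum_quadratic (f := Polynomial.X ^ 2 - Polynomial.C c)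
      (g := Polynomial.X ^ 2) (Polynomial.degree_X_pow_sub_C two_pos c) (Polynomial.degree_X_pow 2) hodd
    refine ⟨x, y, ?_⟩
    simp at hxy
    linear_combination hxy
  have hsq : ∀ l : F, InM M (1 + (l * l) • (a * Y)) := fun l => by
    rcases eq_or_ne l 0 with rfl | hl
    · simpa using InM.one
    · exact torus_scale (hc.root i u) hbU hab hba
        ⟨Y, rfl, hY _, (show Commute (slot i (aR J₁ v)) Y from hY _).neg_left⟩ hl h
  have := (hsq x).mul (hsq y)
  rw [add_mul, one_mul, mul_add, mul_one, smul_mul_smul_comm,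
    show a * Y * (a * Y) = 0 by rw [mul_assoc, ← mul_assoc Y, ← hY, mul_assoc, ← mul_assoc, (hc.root i u).sq, zero_mul],
    smul_zero, add_zero] at this
  rwa [← hxy, add_smul, ← add_assoc, add_right_comm]

theorem adj_aeval {B : Matrix (Fin t → Fin d) (Fin t → Fin d) F} (hB : adjJ (JT t J₁) B = B) (p : Polynomial F) :
    adjJ (JT t J₁) (aeval B p) = aeval B p := by
  induction p using Polynomial.induction_on' with
  | add p q hp hq => rw [map_add, adjJ_add, hp, hq]
  | monomial n c =>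
    rw [Polynomial.aeval_monomial, ← Algebra.smul_def, adjJ_smul]
    congr 1
    induction n with
    | zero => rw [pow_zero, adjJ_one]
    | succ n ih => rw [pow_succ, adjJ_mul, ih, hB, ← pow_succ']; exact pow_succ B n

theorem cent_aeval {i : Fin t} {B : Matrix (Fin t → Fin d) (Fin t → Fin d) F} (hB : Cent i B) (p : Polynomial F) :
    Cent i (aeval B p) := fun A => aeval_comm (show Commute B (slot i A) from (hB A).symm) p

/-- Without exceptional products all diagonal coefficients are scalars (five scalars or more). -/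
theorem Ctx.singles [NeZero d] (hc : Ctx J₁ M) (h5 : 5 ≤ Nat.card F) (hn : ¬ NonRoot J₁ M) : Singles J₁ M := by
  intro C hC hCs i u
  by_contra hcon
  push Not at hcon
  have hu : u ≠ 0 := fun e => hcon 0 (by
    rw [e, ← zero_smul F (0 : Fin d → F), bop_smul_left, zero_smul, zero_smul])
  set a := slot (s := t) i (aR J₁ u)
  set B := bop J₁ i u u C with hBdef
  have hB : a * C * a = a * B := sandwich J₁ i u u u u C
  have hBc : Cent i B := cent_bop J₁ i u u C
  have hcancel : ∀ Y, Cent i Y → ∀ c : F, a * Y = c • a → Y = c • 1 := fun Y hY c he => by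
    refine sub_eq_zero.1 (eq_zero_of_slot_mul J₁ i (rk_ne_zero J₁ hu hu) (X := Y - c • 1) (fun A => ?_) ?_)
    · rw [mul_sub, sub_mul, hY, mul_smul_comm, smul_mul_assoc, mul_one, one_mul]
    · rw [mul_sub, mul_smul_comm, mul_one]
      exact sub_eq_zero.2 he
  obtain ⟨p, hp, hp'⟩ := pair_rad hc.two h5 (hc.root i u) hC fun c e => hcon c (hcancel B hBc c (hB ▸ e))
  rw [aeval_mul_left (hc.root i u).sq hB] at hp
  refine hn ⟨i, u, hu, aeval B p, cent_aeval hBc p, adj_aeval J₁ ?_ p, fun c e => ?_, hc.scale_mem J₁ hu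
    (cent_aeval hBc p) hp⟩
  · rw [hBdef, adj_bop J₁ hc.skew, hCs, ← neg_one_smul F C, bop_smul, neg_one_smul, neg_neg]
  · exact hp' c (by rw [aeval_mul_left (hc.root i u).sq hB, e, mul_smul_comm, mul_one])

/-- A matrix whose coefficients along one slot all vanish. -/
theorem eq_zero_of_bop (i : Fin t) {C : Matrix (Fin t → Fin d) (Fin t → Fin d) F} {v : Fin d → Fin d → F}
    (hv : ∀ c, fw J₁ (v c) = Pi.single c 1) (h : ∀ c e, bop J₁ i (v c) (Pi.single e 1) C = 0) : C = 0 := by
  have h1 : ∀ c, slot (s := t) i (Matrix.vecMulVec (Pi.single c 1 : Fin d → F) (Pi.single c 1)) =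
      slot i (rk J₁ (Pi.single c 1) (v c)) := fun c => by rw [rk, hv]
  have hsum : (1 : Matrix (Fin t → Fin d) (Fin t → Fin d) F) =
      ∑ c, slot i (Matrix.vecMulVec (Pi.single c 1 : Fin d → F) (Pi.single c 1)) := by
    rw [← slot_sum, ← slot_one i]
    congr 1
    ext x y
    simp [Matrix.sum_apply, Matrix.vecMulVec_apply, Pi.single_apply, Matrix.one_apply, eq_comm]
  calc C = 1 * C * 1 := by simp
    _ = 0 := by
      rw [hsum, Finset.sum_mul, Finset.sum_mul]
      refine Finset.sum_eq_zero fun c _ => ?_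
      rw [Finset.mul_sum]
      refine Finset.sum_eq_zero fun e _ => ?_
      rw [h1, h1, sandwich, h, mul_zero]

variable [NeZero d]

/-- The coefficients on an orthogonal pair are scalars. -/
theorem Singles.orth (hc : Ctx J₁ M) (hs : Singles J₁ M) {C : Matrix (Fin t → Fin d) (Fin t → Fin d) F}
    (hC : Unip F M C) (hCs : adjJ (JT t J₁) C = -C) (i : Fin t) {v w : Fin d → F} (hvw : fo J₁ v w = 0) :
    ∃ c : F, bop J₁ i v w C = c • 1 := by
  obtain ⟨x, hx⟩ := hs C hC hCs i v
  obtain ⟨y, hy⟩ := hs C hC hCs i w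
  obtain ⟨z, hz⟩ := hs C hC hCs i (v + w)
  rw [bop_add_left, bop_add_right, bop_add_right, hx, hy] at hz
  set B := bop J₁ i v w C with hB
  set B' := bop J₁ i w v C with hB'
  have hadj : ∀ p q, adjJ (JT t J₁) (bop J₁ i p q C) = bop J₁ i q p C := fun p q => by
    rw [adj_bop J₁ hc.skew, hCs, ← neg_one_smul F C, bop_smul, neg_one_smul, neg_neg]
  have hY : adjJ (JT t J₁) (B - B') = B - B' := by
    refine adj_eq_of_sandwich J₁ hc.skew hc.two fun j u => ?_
    rcases eq_or_ne j i with rfl | hj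
    · rw [mul_assoc, ← (show Cent j (B - B') from fun A => by
        rw [mul_sub, sub_mul, cent_bop J₁ j v w C A, cent_bop J₁ j w v C A]) (aR J₁ u), ← mul_assoc,
        (hc.root j u).sq, zero_mul]
    obtain ⟨s, hs'⟩ := hs C hC hCs j u
    have hcomm : ∀ p q, slot j (aR J₁ u) * bop J₁ i p q C * slot j (aR J₁ u) =
        bop J₁ i p q (slot j (aR J₁ u) * C * slot j (aR J₁ u)) := fun p q => by
      simp only [bop, Finset.mul_sum, Finset.sum_mul]
      refine Finset.sum_congr rfl fun c _ => ?_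
      simp only [← mul_assoc]
      rw [slot_commute hj (aR J₁ u) (Matrix.vecMulVec (Pi.single c 1) (fw J₁ p))]
      rw [mul_assoc _ (slot j (aR J₁ u)) (slot i (Matrix.vecMulVec q (Pi.single c 1))),
        slot_commute hj (aR J₁ u) (Matrix.vecMulVec q (Pi.single c 1)), ← mul_assoc]
    have hjC : slot j (aR J₁ u) * C * slot j (aR J₁ u) = s • slot j (aR J₁ u) := by
      rw [aR, sandwich, hs', mul_smul_comm, mul_one]
    have hb : ∀ p q, slot j (aR J₁ u) * bop J₁ i p q C * slot j (aR J₁ u) =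
        (s * fo J₁ p q) • slot j (aR J₁ u) := fun p q => by
      rw [hcomm, hjC, bop_smul, bop_of_cent J₁ i p q (cent_slot (Ne.symm hj) _), smul_smul]
    rw [mul_sub, sub_mul, hb, hb, hvw, fo_skew J₁ hc.skew w v, hvw, neg_zero, sub_self]
  rw [adjJ_sub, hB, hB', hadj, hadj] at hY
  have hBB : B = B' := by
    have : (2 : F) • (B - B') = 0 := by
      rw [two_smul]; nth_rewrite 2 [← hY]; rw [hB, hB']; abel
    exact sub_eq_zero.1 ((smul_eq_zero.1 this).resolve_left hc.two)
  refine ⟨(2 : F)⁻¹ * (z - x - y), ?_⟩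
  rw [← smul_smul, sub_smul, sub_smul, ← hz, ← hBB,
    show x • 1 + B + (B + y • 1) - x • 1 - y • 1 = (2 : F) • B by rw [two_smul]; abel, inv_smul_smul₀ hc.two]

/-- Conjugates of root elements live in one slot. -/
theorem Singles.slot_or_cent (hc : Ctx J₁ M) (hs : Singles J₁ M) {C : Matrix (Fin t → Fin d) (Fin t → Fin d) F}
    (hC : Unip F M C) (hCs : adjJ (JT t J₁) C = -C) (i : Fin t) :
    (∃ S, C = slot i S) ∨ Cent i C := by
  classical
  set W := Submodule.span F ({1} : Set (Matrix (Fin t → Fin d) (Fin t → Fin d) F)) with hW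
  set Ψ : (Fin d → F) → (Fin d → F) → _ ⧸ W := fun v w => Submodule.Quotient.mk (bop J₁ i v w C) with hΨ
  have horth : ∀ v w, fo J₁ v w = 0 → Ψ v w = 0 := fun v w h => by
    obtain ⟨c, hc'⟩ := hs.orth J₁ hc hC hCs i h
    exact (Submodule.Quotient.mk_eq_zero _).2 (Submodule.mem_span_singleton.2 ⟨c, hc'.symm⟩)
  have hlin : ∀ v w w', Ψ v (w + w') = Ψ v w + Ψ v w' := fun v w w' => by simp [hΨ, bop_add_right]
  have hsmul : ∀ v w (c : F), Ψ v (c • w) = c • Ψ v w := fun v w c => by simp [hΨ, bop_smul_right]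
  have hanti : ∀ v w, Ψ v w + Ψ w v = 0 := fun v w => by
    have h := horth (v + w) (v + w) (fo_self J₁ hc.skew hc.two _)
    rw [hlin] at h
    have e1 : ∀ u, Ψ (v + w) u = Ψ v u + Ψ w u := fun u => by simp [hΨ, bop_add_left]
    rw [e1, e1, horth v v (fo_self J₁ hc.skew hc.two _), horth w w (fo_self J₁ hc.skew hc.two _)] at h
    simpa [add_comm] using h
  choose par hpar using fun (v : Fin d → F) (hv : v ≠ 0) => exists_partner J₁ hv
  have hval : ∀ v w, ∀ hv : v ≠ 0, Ψ v w = fo J₁ v w • Ψ v (par v hv) := fun v w hv => by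
    have h := horth v (w + (-fo J₁ v w) • par v hv)
      (by rw [fo_add_right, fo_smul_right, hpar v hv]; ring)
    rw [hlin, hsmul, neg_smul, add_neg_eq_zero] at h
    exact h
  set v₀ : Fin d → F := Pi.single 0 1
  have hv₀ : v₀ ≠ 0 := fun h => one_ne_zero (α := F) (by simpa [v₀] using congrFun h 0)
  obtain ⟨X, hX, hXc⟩ : ∃ X, Cent i X ∧ ∀ v w, ∃ c : F, bop J₁ i v w C = fo J₁ v w • X + c • 1 := by
    refine ⟨bop J₁ i v₀ (par v₀ hv₀) C, cent_bop J₁ i _ _ _, fun v w => ?_⟩
    suffices h : Ψ v w = fo J₁ v w • Ψ v₀ (par v₀ hv₀) by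
      obtain ⟨c, hc'⟩ := Submodule.mem_span_singleton.1 ((Submodule.Quotient.eq W).1
        (h.trans (Submodule.Quotient.mk_smul W _ _).symm))
      exact ⟨c, by rw [hc']; abel⟩
    rcases eq_or_ne v 0 with rfl | hv
    · rw [horth 0 w (by simp [fo, fw]), show fo J₁ 0 w = 0 by simp [fo, fw], zero_smul]
    have step : ∀ p q, ∀ hp : p ≠ 0, ∀ hq : q ≠ 0, fo J₁ p q ≠ 0 → Ψ p (par p hp) = Ψ q (par q hq) := by
      intro p q hp hq hpq
      have h := hanti p q
      rw [hval p q hp, hval q p hq, fo_skew J₁ hc.skew q p, neg_smul, ← sub_eq_add_neg, ← smul_sub] at h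
      exact sub_eq_zero.1 ((smul_eq_zero.1 h).resolve_left hpq)
    obtain ⟨s, hs1, hs2⟩ := exists_nonorth J₁ (fo_skew J₁ hc.skew) hv hv₀
    have hs0 : s ≠ 0 := fun e => hs1 (by simp [e, fo])
    rw [hval v w hv, step v s hv hs0 hs1, step v₀ s hv₀ hs0 hs2]
  choose v hv using fun c : Fin d => exists_fw J₁ (Pi.single c 1)
  choose σ hσ using hXc
  set S : Matrix (Fin d) (Fin d) F := Matrix.of fun c e => σ (v c) (Pi.single e 1) with hS
  have hCeq : C = slot i S + X := by
    refine sub_eq_zero.1 (eq_zero_of_bop J₁ i hv fun c e => ?_)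
    rw [sub_eq_add_neg, ← neg_one_smul F (slot i S + X), bop_add, bop_smul, bop_add, hσ,
      show slot i S = slot i S * (1 : Matrix (Fin t → Fin d) (Fin t → Fin d) F) from (mul_one _).symm,
      bop_slot_mul J₁ i S _ _ (fun A => by rw [mul_one, one_mul]), bop_of_cent J₁ i _ _ hX,
      show fo J₁ (v c) (S *ᵥ Pi.single e 1) = σ (v c) (Pi.single e 1) by simp [fo, hv, hS]]
    module
  -- make both parts skew
  have hT : slot i (S + adjJ J₁ S) = -(X + adjJ (JT t J₁) X) := by
    have h := hCs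
    rw [hCeq, adjJ_add, adj_slot] at h
    rw [slot_add, ← sub_eq_zero]
    linear_combination (norm := abel) h
  obtain ⟨w₀, hw₀⟩ := exists_partner J₁ hv₀
  obtain ⟨τ, hτ⟩ : ∃ τ : F, X + adjJ (JT t J₁) X = τ • 1 := by
    refine ⟨-fo J₁ v₀ ((S + adjJ J₁ S) *ᵥ w₀), ?_⟩
    have hcc : Cent i (X + adjJ (JT t J₁) X) := fun A => by
      rw [mul_add, add_mul, hX, cent_adj J₁ hc.skew hX]
    have := bop_of_cent J₁ i v₀ w₀ hcc
    rw [hw₀, one_smul, show X + adjJ (JT t J₁) X = -slot i (S + adjJ J₁ S) * 1 by rw [mul_one, hT, neg_neg],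
      neg_mul, ← neg_one_smul F (slot i (S + adjJ J₁ S) * _), bop_smul,
      bop_slot_mul J₁ i _ _ _ (fun A => by rw [mul_one, one_mul]), smul_smul, neg_one_mul] at this
    rw [show X + adjJ (JT t J₁) X = -slot i (S + adjJ J₁ S) * 1 by rw [mul_one, hT, neg_neg]]
    rw [neg_mul, ← neg_one_smul F (slot i (S + adjJ J₁ S) * _)]
    exact this.symm
  have h2 := hc.two
  set X' := X - ((2 : F)⁻¹ * τ) • 1 with hX'
  set S' := S + ((2 : F)⁻¹ * τ) • 1 with hS'
  have hX'c : Cent i X' := fun A => by rw [hX', mul_sub, sub_mul, hX, mul_smul_comm, smul_mul_assoc, mul_one, one_mul]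
  have hX's : adjJ (JT t J₁) X' = -X' := by
    rw [hX', adjJ_sub, adjJ_smul, adjJ_one, ← sub_eq_zero]
    have e : (2 : F) * ((2 : F)⁻¹ * τ) = τ := by rw [← mul_assoc, mul_inv_cancel₀ h2, one_mul]
    rw [show adjJ (JT t J₁) X = τ • 1 - X by rw [← hτ]; abel]
    linear_combination (norm := module)
      (congrArg (fun x : F => x • (1 : Matrix (Fin t → Fin d) (Fin t → Fin d) F)) e).symm
  have hCeq' : C = slot i S' + X' := by
    rw [hCeq, hS', hX', slot_add, slot_smul, slot_one]; abel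
  by_cases hsc : ∃ c : F, S' = c • 1
  · obtain ⟨c, hc'⟩ := hsc
    exact Or.inr fun A => by
      rw [hCeq', hc', slot_smul, slot_one, mul_add, add_mul, hX'c, mul_smul_comm, smul_mul_assoc, mul_one, one_mul]
  refine Or.inl ⟨S', ?_⟩
  obtain ⟨p, q, hpq, hpSq⟩ : ∃ p q, fo J₁ p q = 0 ∧ fo J₁ p (S' *ᵥ q) ≠ 0 := by
    by_contra hcon
    push Not at hcon
    have heig : ∀ q, ∃ c : F, S' *ᵥ q = c • q := by
      intro q
      rcases eq_or_ne q 0 with rfl | hq
      · exact ⟨0, by simp⟩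
      obtain ⟨r, hr⟩ := exists_partner J₁ hq
      set c := -fo J₁ r (S' *ᵥ q)
      refine ⟨c, sub_eq_zero.1 ?_⟩
      have hz : ∀ p, fo J₁ p (S' *ᵥ q - c • q) = 0 := fun p => by
        have h := hcon (p + fo J₁ p q • r) q (by
          rw [fo_add_left, fo_smul_left, fo_skew J₁ hc.skew r q, hr]; ring)
        rw [fo_add_left, fo_smul_left] at h
        rw [sub_eq_add_neg, ← neg_smul, fo_add_right, fo_smul_right]
        linear_combination h
      funext x
      obtain ⟨p, hp⟩ := exists_fw J₁ (Pi.single x 1)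
      simpa [fo, hp] using hz p
    choose ev hev using heig
    refine hsc ⟨ev (Pi.single 0 1), ?_⟩
    have hdiag : ∀ a b, S' a b = if a = b then ev (Pi.single b 1) else 0 := fun a b => by
      have := congrFun (hev (Pi.single b 1)) a
      simpa [Pi.single_apply] using this
    have hev0 : ∀ b, ev (Pi.single b 1) = ev (Pi.single 0 1) := fun b => by
      rcases eq_or_ne b 0 with rfl | hb
      · rfl
      have h1 := hev (Pi.single b 1 + Pi.single 0 1)
      rw [Matrix.mulVec_add, hev, hev] at h1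
      have eb := congrFun h1 b
      have e0 := congrFun h1 0
      simp [Pi.single_apply, hb, Ne.symm hb] at eb e0
      rw [eb, e0]
    ext a b
    rw [hdiag, hev0, Matrix.smul_apply, Matrix.one_apply, smul_eq_mul, mul_ite, mul_one, mul_zero]
  have hsq : slot i S' * slot i S' + (2 : F) • (slot i S' * X') + X' * X' = 0 := by
    have := hC.sq
    rw [hCeq', add_mul, mul_add, mul_add, ← hX'c] at this
    rw [two_smul, ← this]; abel
  have h := congrArg (bop J₁ i p q) hsq
  rw [bop_zero, bop_add, bop_add, bop_smul, bop_slot_mul J₁ i S' p q hX'c, bop_of_cent J₁ i p q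
    (show Cent i (X' * X') from fun A => by rw [← mul_assoc, hX'c, mul_assoc, hX'c, ← mul_assoc]), hpq, zero_smul,
    add_zero, ← slot_mul, show slot i (S' * S') = slot i (S' * S') * 1 from (mul_one _).symm,
    bop_slot_mul J₁ i _ p q (fun A => by rw [mul_one, one_mul]), smul_smul] at h
  have hne : (2 : F) * fo J₁ p (S' *ᵥ q) ≠ 0 := mul_ne_zero h2 hpSq
  set x := fo J₁ p ((S' * S') *ᵥ q)
  have hXscal : X' = (-((2 * fo J₁ p (S' *ᵥ q))⁻¹ * x)) • 1 := by
    rw [neg_smul, ← smul_smul, ← smul_neg, eq_inv_smul_iff₀ hne]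
    exact eq_neg_of_add_eq_zero_right h
  have hX0 : X' = 0 := by
    have := hX's
    rw [hXscal, adjJ_smul, adjJ_one, ← sub_eq_zero, sub_neg_eq_add, ← add_smul, ← two_mul] at this
    rw [hXscal]
    have hnz : (1 : Matrix (Fin t → Fin d) (Fin t → Fin d) F) ≠ 0 := one_ne_zero
    rw [(mul_eq_zero.1 ((smul_eq_zero.1 this).resolve_right hnz)).resolve_left h2, zero_smul]
  rw [hCeq', hX0, add_zero]

theorem Singles.mem_slot (hc : Ctx J₁ M) (hs : Singles J₁ M) {C : Matrix (Fin t → Fin d) (Fin t → Fin d) F}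
    (hC : Unip F M C) (hCs : adjJ (JT t J₁) C = -C) : C = 0 ∨ ∃ i S, C = slot i S := by
  by_contra hcon
  push Not at hcon
  obtain ⟨h0, hsl⟩ := hcon
  obtain ⟨c, rfl⟩ := scalar_of_commutes_slots C fun i a =>
    ((hs.slot_or_cent J₁ hc hC hCs i).resolve_left fun ⟨S, e⟩ => hsl i S e) a
  have := hC.sq
  rw [smul_mul_smul_comm, mul_one, smul_eq_zero] at this
  exact h0 (by rw [mul_self_eq_zero.1 (this.resolve_right one_ne_zero), zero_smul])

/-- Without exceptional products the group permutes the slots. -/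
theorem Singles.decomp (hc : Ctx J₁ M) (hs : Singles J₁ M) (ht : 0 < t) (hd : 2 ≤ d) {g : GL (Fin t → Fin d) F}
    (hg : g ∈ M) : ∃ (π : Equiv.Perm (Fin t)) (A : Fin t → GL (Fin d) F), g = permGL π * pureGL A := by
  classical
  have hsk := fo_skew J₁ hc.skew
  have hone : ∀ h ∈ M, ∀ i, ∃ j, ∀ A, ∃ A', cj h (slot i A) = slot j A' := by
    intro h hh i
    have hu : ∀ u, u ≠ 0 → ∃ j S, cj h (slot i (aR J₁ u)) = slot j S := fun u hu => by
      refine (hs.mem_slot J₁ hc (hc.unip_conj J₁ hh i u).1 (hc.unip_conj J₁ hh i u).2).resolve_left fun e => ?_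
      exact rk_ne_zero J₁ hu hu (slot_injective i (((cj h).injective (e.trans (map_zero _).symm)).trans (slot_zero i).symm))
    choose j S hjS using hu
    have hsame : ∀ u v, ∀ hu : u ≠ 0, ∀ hv : v ≠ 0, fo J₁ u v ≠ 0 → j u hu = j v hv := by
      intro u v hu hv huv
      by_contra hne
      have h1 := slot_commute (F := F) hne (S u hu) (S v hv)
      rw [← hjS, ← hjS, ← map_mul, ← map_mul] at h1
      have h2 : aR J₁ u * aR J₁ v = aR J₁ v * aR J₁ u :=
        slot_injective i (by rw [slot_mul, slot_mul]; exact (cj h).injective h1)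
      rw [aR, aR, rk_mul, rk_mul, hsk v u] at h2
      have h3 := congrArg (· *ᵥ v) h2
      simp only [Matrix.smul_mulVec, rk_mulVec, fo_self J₁ hc.skew hc.two, zero_smul, smul_zero, smul_smul] at h3
      rcases smul_eq_zero.1 h3.symm with e | e
      · exact (mul_ne_zero (neg_ne_zero.2 huv) huv) e
      · exact hv e
    set u₀ : Fin d → F := Pi.single 0 1
    have hu₀ : u₀ ≠ 0 := fun e => one_ne_zero (α := F) (by simpa [u₀] using congrFun e 0)
    set j₀ := j u₀ hu₀
    have hall : ∀ u, ∀ hu : u ≠ 0, j u hu = j₀ := fun u hu => by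
      obtain ⟨s, h1, h2⟩ := exists_nonorth J₁ hsk hu hu₀
      have hs0 : s ≠ 0 := fun e => h1 (by simp [e, fo])
      exact (hsame u s hu hs0 h1).trans (hsame u₀ s hu₀ hs0 h2).symm
    refine ⟨j₀, ?_⟩
    let P : Submodule F (Matrix (Fin d) (Fin d) F) :=
      { carrier := {A | ∃ A', cj h (slot i A) = slot j₀ A'}
        zero_mem' := ⟨0, by rw [slot_zero, slot_zero, map_zero]⟩
        add_mem' := by
          rintro A B ⟨A', hA⟩ ⟨B', hB⟩
          exact ⟨A' + B', by rw [slot_add, slot_add, map_add, hA, hB]⟩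
        smul_mem' := by
          rintro c A ⟨A', hA⟩
          exact ⟨c • A', by rw [slot_smul, slot_smul, map_smul, hA]⟩ }
    have hmul : ∀ A B, A ∈ P → B ∈ P → A * B ∈ P := by
      rintro A B ⟨A', hA⟩ ⟨B', hB⟩
      exact ⟨A' * B', by rw [slot_mul, slot_mul, map_mul, hA, hB]⟩
    have haR : ∀ u, aR J₁ u ∈ P := fun u => by
      rcases eq_or_ne u 0 with rfl | hu
      · rw [aR, ← zero_smul F (0 : Fin d → F), rk_smul_left, zero_smul]; exact P.zero_mem
      · exact ⟨S u hu, by rw [hjS u hu, hall u hu]⟩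
    have hrk : ∀ u v, fo J₁ u v ≠ 0 → rk J₁ u v ∈ P := fun u v huv => by
      have := P.smul_mem (fo J₁ u v)⁻¹ (hmul _ _ (haR u) (haR v))
      rwa [aR, aR, rk_mul, smul_smul, inv_mul_cancel₀ huv, one_smul] at this
    have hrk' : ∀ u v, rk J₁ u v ∈ P := fun u v => by
      rcases eq_or_ne u 0 with rfl | hu
      · rw [← zero_smul F (0 : Fin d → F), rk_smul_left, zero_smul]; exact P.zero_mem
      obtain ⟨s, hs'⟩ := exists_partner J₁ hu
      by_cases huv : fo J₁ u v = 0
      · have := P.sub_mem (hrk u (v + s) (by rw [fo_add_right, huv, hs', zero_add]; exact one_ne_zero))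
          (hrk u s (by rw [hs']; exact one_ne_zero))
        rwa [rk_add_right, add_sub_cancel_right] at this
      · exact hrk u v huv
    intro A
    show A ∈ P
    rw [show A = ∑ x, ∑ y, A x y • Matrix.vecMulVec (Pi.single x 1 : Fin d → F) (Pi.single y 1) by
      ext a b; simp [Matrix.sum_apply, Matrix.vecMulVec_apply, Pi.single_apply]]
    refine P.sum_mem fun x _ => P.sum_mem fun y _ => P.smul_mem _ ?_
    obtain ⟨v, hv⟩ := exists_fw J₁ (Pi.single y 1)
    rw [← hv]
    exact hrk' _ v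
  choose f hf using hone g hg
  choose f' hf' using hone g⁻¹ (inv_mem hg)
  have hinv : Function.LeftInverse f' f := fun i => by
    refine (slot_disjoint (F := F) hd fun a => ?_).symm
    obtain ⟨a', ha⟩ := hf i a
    obtain ⟨a'', ha'⟩ := hf' (f i) a'
    refine ⟨a'', ?_⟩
    rw [← ha', ← ha, cj_inv_cj]
  haveI : Nonempty (Fin d) := ⟨0⟩
  let π : Equiv.Perm (Fin t) := Equiv.ofBijective f (Finite.injective_iff_bijective.1 hinv.injective)
  obtain ⟨A, hA⟩ := slot_decomp ht g π fun i a => hf i a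
  exact ⟨π, A, hA⟩

end CfsgLib.TensorWreath
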