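import Cfsg.Agent.Lib.TensorWreath.Grow
import Cfsg.Agent.Lib.Maximal.SpTv
import Cfsg.Agent.Lib.AschbacherOrth.OddRows

/-!
The stabiliser of a tensor power decomposition is maximal in the symplectic group (odd characteristic).
-/

set_option autoImplicit false
set_option linter.unusedSectionVars false

namespace CfsgLib.TensorWreath

open Cfsg Cfsg.Geo CfsgLib.Aschbacher CfsgLib.AschbacherForm
open scoped Matrix MatrixGroups

variable {F : Type*} [Field F] [Fintype F]

section avoid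

/-- Three functionals have a common non-zero value (three scalars or more). -/
theorem exists_three_ne {d : ℕ} (h3 : 3 ≤ Fintype.card F) (v : Fin 3 → Fin d → F) (hv : ∀ r, v r ≠ 0) :
    ∃ a : Fin d → F, ∀ r, v r ⬝ᵥ a ≠ 0 := by
  classical
  rcases Nat.eq_zero_or_pos d with rfl | hd
  · exact absurd (Subsingleton.elim _ _) (hv 0)
  by_contra hcon
  push Not at hcon
  set K : Fin 3 → Finset (Fin d → F) := fun r => Finset.univ.filter fun a => v r ⬝ᵥ a = 0
  have hK : ∀ r, (K r).card ≤ Fintype.card F ^ (d - 1) := fun r => by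
    obtain ⟨z, hz⟩ := Function.ne_iff.1 (hv r)
    have h0 : ∀ a ∈ K r, ∀ b ∈ K r, (∀ j, j ≠ z → a j = b j) → a = b := fun a ha b hb hab => by
      simp only [K, Finset.mem_filter] at ha hb
      funext j
      rcases eq_or_ne j z with rfl | hj
      · have h := ha.2.trans hb.2.symm
        rw [dotProduct, dotProduct, ← Finset.add_sum_erase _ _ (Finset.mem_univ j),
          ← Finset.add_sum_erase _ (fun x => v r x * b x) (Finset.mem_univ j)] at h
        rw [Finset.sum_congr rfl fun x hx => by rw [hab x (Finset.mem_erase.1 hx).1]] at h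
        exact mul_left_cancel₀ hz (add_right_cancel h)
      · exact hab j hj
    calc (K r).card ≤ (Finset.univ : Finset ({j : Fin d // j ≠ z} → F)).card :=
          Finset.card_le_card_of_injOn (fun a j => a j.1) (fun _ _ => Finset.mem_univ _)
            fun a ha b hb h => h0 a ha b hb fun j hj => congrFun h ⟨j, hj⟩
      _ = _ := by simp [Fintype.card_subtype_compl]
  have hcover : (Finset.univ.erase (0 : Fin d → F)) ⊆ (K 0).erase 0 ∪ (K 1).erase 0 ∪ (K 2).erase 0 := fun a ha => by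
    obtain ⟨r, hr⟩ := hcon a
    have h0 := (Finset.mem_erase.1 ha).1
    fin_cases r <;> simp_all [K]
  have hc := (Finset.card_le_card hcover).trans ((Finset.card_union_le _ _).trans
    (Nat.add_le_add_right (Finset.card_union_le _ _) _))
  have h0 : ∀ r, (0 : Fin d → F) ∈ K r := fun r => by simp [K]
  rw [Finset.card_erase_of_mem (Finset.mem_univ _), Finset.card_univ, Fintype.card_fun, Fintype.card_fin,
    Finset.card_erase_of_mem (h0 0), Finset.card_erase_of_mem (h0 1), Finset.card_erase_of_mem (h0 2)] at hc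
  have := hK 0; have := hK 1; have := hK 2
  obtain ⟨d', rfl⟩ : ∃ d', d = d' + 1 := ⟨d - 1, by omega⟩
  simp only [Nat.add_sub_cancel, pow_succ] at *
  have hp : 0 < Fintype.card F ^ d' := pow_pos (by omega) _
  have : Fintype.card F ^ d' * 3 ≤ Fintype.card F ^ d' * Fintype.card F := Nat.mul_le_mul_left _ h3
  omega

/-- A pure tensor on which three non-zero functionals are non-zero. -/
theorem exists_pure_three {d : ℕ} (h3 : 3 ≤ Fintype.card F) : ∀ (t : ℕ) (Φ : Fin 3 → (Fin t → Fin d) → F),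
    (∀ r, Φ r ≠ 0) → ∃ x : Fin t → Fin d → F, ∀ r, ∑ a, Φ r a * ∏ j, x j (a j) ≠ 0 := by
  classical
  intro t
  induction t with
  | zero =>
    intro Φ hΦ
    refine ⟨fun _ => 0, fun r h => hΦ r (funext fun a => ?_)⟩
    simp only [Fintype.sum_unique, Finset.univ_eq_empty, Finset.prod_empty, mul_one] at h
    rwa [Subsingleton.elim a default]
  | succ t ih =>
    intro Φ hΦ
    have hsl : ∀ r, ∃ z, (fun a => Φ r (Fin.cons z a)) ≠ 0 := fun r => by
      by_contra hcon
      push Not at hcon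
      refine hΦ r (funext fun a => ?_)
      rw [← Fin.cons_self_tail a]
      exact congrFun (hcon (a 0)) (Fin.tail a)
    choose z hz using hsl
    obtain ⟨x, hx⟩ := ih (fun r a => Φ r (Fin.cons (z r) a)) hz
    obtain ⟨a₀, ha₀⟩ := exists_three_ne h3 (fun r y => ∑ a, Φ r (Fin.cons y a) * ∏ j, x j (a j))
      fun r e => hx r (congrFun e (z r))
    refine ⟨Fin.cons a₀ x, fun r => ?_⟩
    rw [← (Fin.consEquiv fun _ : Fin (t + 1) => Fin d).sum_comp, Fintype.sum_prod_type]
    convert ha₀ r using 1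
    simp only [dotProduct, Finset.sum_mul]
    refine Finset.sum_congr rfl fun y _ => Finset.sum_congr rfl fun a _ => ?_
    simp [Fin.consEquiv, Fin.prod_univ_succ]
    ring

end avoid

theorem pure_mulVec {d s : ℕ} (a : Fin s → Matrix (Fin d) (Fin d) F) (xs : Fin s → Fin d → F) :
    pure' a *ᵥ (fun x : Fin s → Fin d => ∏ i, xs i (x i)) = fun x => ∏ i, (a i *ᵥ xs i) (x i) := by
  funext x
  simp only [Matrix.mulVec, dotProduct, pure', Matrix.of_apply, Fintype.prod_sum, ← Finset.prod_mul_distrib]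

variable {m k t : ℕ} {e : (Fin m ⊕ Fin m) ≃ (Fin t → Fin k)} {P : GL (Fin m ⊕ Fin m) F}

/-- The coordinates of a matrix. -/
def coo (e : (Fin m ⊕ Fin m) ≃ (Fin t → Fin k)) (P : GL (Fin m ⊕ Fin m) F) :
    GL (Fin m ⊕ Fin m) F →* GL (Fin t → Fin k) F :=
  (glReindex e).toMonoidHom.comp (MulAut.conj P⁻¹).toMonoidHom

theorem coo_apply (g : GL (Fin m ⊕ Fin m) F) : coo e P g = glReindex e (P⁻¹ * g * P) := by
  simp [coo]

theorem coo_mulVec (g : GL (Fin m ⊕ Fin m) F) (x : (Fin t → Fin k) → F) :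
    (g : Matrix (Fin m ⊕ Fin m) (Fin m ⊕ Fin m) F) *ᵥ ((P : Matrix (Fin m ⊕ Fin m) (Fin m ⊕ Fin m) F) *ᵥ (x ∘ e)) =
      (P : Matrix (Fin m ⊕ Fin m) (Fin m ⊕ Fin m) F) *ᵥ
        ((((coo e P g : GL (Fin t → Fin k) F) : Matrix (Fin t → Fin k) (Fin t → Fin k) F) *ᵥ x) ∘ e) := by
  rw [coo_apply, show ((glReindex e (P⁻¹ * g * P) : GL (Fin t → Fin k) F) : Matrix (Fin t → Fin k) (Fin t → Fin k) F) =
      ((P⁻¹ * g * P : GL (Fin m ⊕ Fin m) F) : Matrix (Fin m ⊕ Fin m) (Fin m ⊕ Fin m) F).submatrix e.symm e.symm by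
        ext; simp [glReindex],
    Matrix.submatrix_mulVec_equiv, Equiv.symm_symm, Function.comp_assoc,
    Equiv.symm_comp_self, Function.comp_id, Units.val_mul, Units.val_mul, ← Matrix.mulVec_mulVec,
    ← Matrix.mulVec_mulVec, Matrix.mulVec_mulVec _ (P : Matrix (Fin m ⊕ Fin m) (Fin m ⊕ Fin m) F), Units.mul_inv,
    Matrix.one_mulVec]

theorem coo_surj (h : GL (Fin t → Fin k) F) :
    coo e P ((MulAut.conj P) (glReindex e.symm h)) = h := by
  rw [coo_apply]
  refine Units.ext (Matrix.ext fun x y => ?_)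
  simp [glReindex, MulAut.conj_apply, mul_assoc]

theorem exists_coords (v : Fin m ⊕ Fin m → F) :
    ∃ x : (Fin t → Fin k) → F, v = (P : Matrix (Fin m ⊕ Fin m) (Fin m ⊕ Fin m) F) *ᵥ (x ∘ e) :=
  ⟨(((P⁻¹ : GL (Fin m ⊕ Fin m) F) : Matrix (Fin m ⊕ Fin m) (Fin m ⊕ Fin m) F) *ᵥ v) ∘ e.symm, by
    rw [Function.comp_assoc, Equiv.symm_comp_self, Function.comp_id, Matrix.mulVec_mulVec, Units.mul_inv,
      Matrix.one_mulVec]⟩

variable [NeZero k] (J₁ : GL (Fin k) F) {c : F}

/-- The tensor power of the form is the standard form. -/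
def IsCoords (e : (Fin m ⊕ Fin m) ≃ (Fin t → Fin k)) (P : GL (Fin m ⊕ Fin m) F) (J₁ : GL (Fin k) F) (c : F) :
    Prop :=
  c ≠ 0 ∧ ∀ x y : (Fin t → Fin k) → F,
    sympForm m F ((P : Matrix (Fin m ⊕ Fin m) (Fin m ⊕ Fin m) F) *ᵥ (x ∘ e))
      ((P : Matrix (Fin m ⊕ Fin m) (Fin m ⊕ Fin m) F) *ᵥ (y ∘ e)) =
      c * formOfGram (RingEquiv.refl F) (JT t J₁ : Matrix (Fin t → Fin k) (Fin t → Fin k) F) x y

/-- A matrix preserving the Gram matrix. -/
def Pres (h : GL (Fin t → Fin k) F) : Prop :=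
  (h : Matrix (Fin t → Fin k) (Fin t → Fin k) F)ᵀ * (JT t J₁ : Matrix (Fin t → Fin k) (Fin t → Fin k) F) *
    (h : Matrix (Fin t → Fin k) (Fin t → Fin k) F) = (JT t J₁ : Matrix (Fin t → Fin k) (Fin t → Fin k) F)

theorem mem_spGL_iff_pres (hT : IsCoords e P J₁ c) (g : GL (Fin m ⊕ Fin m) F) :
    g ∈ spGL m F ↔ Pres J₁ (coo e P g) := by
  have hid : ∀ M : Matrix (Fin t → Fin k) (Fin t → Fin k) F, M.map (RingEquiv.refl F) = M := fun M => by ext; rfl
  constructor
  · intro hg
    refine Matrix.ext fun a b => ?_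
    have h := (CfsgLib.Maximal.mem_spGL_iff g).1 hg
      ((P : Matrix (Fin m ⊕ Fin m) (Fin m ⊕ Fin m) F) *ᵥ (Pi.single a 1 ∘ e))
      ((P : Matrix (Fin m ⊕ Fin m) (Fin m ⊕ Fin m) F) *ᵥ (Pi.single b 1 ∘ e))
    rw [coo_mulVec, coo_mulVec, hT.2, hT.2, formOfGram_mulVec, hid] at h
    have h' := mul_left_cancel₀ hT.1 h
    rwa [formOfGram_single, formOfGram_single] at h'
  · intro hg
    refine (CfsgLib.Maximal.mem_spGL_iff g).2 fun u v => ?_
    obtain ⟨x, rfl⟩ := exists_coords (e := e) (P := P) u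
    obtain ⟨y, rfl⟩ := exists_coords (e := e) (P := P) v
    rw [coo_mulVec, coo_mulVec, hT.2, hT.2, formOfGram_mulVec, hid, hg]

theorem pres_pure {A : Fin t → GL (Fin k) F}
    (h : ∀ j, (A j : Matrix (Fin k) (Fin k) F)ᵀ * (J₁ : Matrix (Fin k) (Fin k) F) * (A j : Matrix (Fin k) (Fin k) F) =
      (J₁ : Matrix (Fin k) (Fin k) F)) : Pres J₁ (pureGL A) := by
  show (pure' fun i => (A i : Matrix (Fin k) (Fin k) F))ᵀ * pure' (fun _ : Fin t => (J₁ : Matrix (Fin k) (Fin k) F)) *
    pure' (fun i => (A i : Matrix (Fin k) (Fin k) F)) = pure' fun _ : Fin t => (J₁ : Matrix (Fin k) (Fin k) F)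
  rw [trans_pure, pure'_mul, pure'_mul]
  congr 1
  funext j
  exact h j

theorem pres_perm (π : Equiv.Perm (Fin t)) : Pres J₁ (permGL π : GL (Fin t → Fin k) F) :=
  perm_sim_pure π _

/-- Elements of the stabiliser inside the symplectic group. -/
theorem mem_H (hT : IsCoords e P J₁ c) {T : GL (Fin t → Fin k) F} (hTs : T ∈ tensorWreathStandard k t F)
    (hTp : Pres J₁ T) :
    (MulAut.conj P) (glReindex e.symm T) ∈ tensorWreathSubgroup k t e P ⊓ spGL m F :=
  ⟨⟨_, ⟨T, hTs, rfl⟩, rfl⟩, (mem_spGL_iff_pres J₁ hT _).2 (by rwa [coo_surj])⟩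

theorem slot_root_unit (hJ : (J₁ : Matrix (Fin k) (Fin k) F)ᵀ = -(J₁ : Matrix (Fin k) (Fin k) F))
    (h2 : (2 : F) ≠ 0) (i : Fin t) (u : Fin k → F) (x : F) :
    ∃ A : Fin t → GL (Fin k) F, (∀ j, (A j : Matrix (Fin k) (Fin k) F)ᵀ * (J₁ : Matrix (Fin k) (Fin k) F) *
        (A j : Matrix (Fin k) (Fin k) F) = (J₁ : Matrix (Fin k) (Fin k) F)) ∧
      (pureGL A : Matrix (Fin t → Fin k) (Fin t → Fin k) F) = 1 + x • slot i (aR J₁ u) := by
  have hsq := aR_sq J₁ hJ h2 u
  let U : GL (Fin k) F := ⟨1 + x • aR J₁ u, 1 - x • aR J₁ u,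
    by simp [add_mul, mul_sub, smul_mul_smul_comm, hsq],
    by simp [sub_mul, mul_add, smul_mul_smul_comm, hsq]⟩
  refine ⟨Function.update (fun _ => 1) i U, fun j => ?_, ?_⟩
  · rcases eq_or_ne j i with rfl | hj
    · rw [Function.update_self]
      show (1 + x • aR J₁ u)ᵀ * (J₁ : Matrix (Fin k) (Fin k) F) * (1 + x • aR J₁ u) = _
      rw [adjJ_gram, adjJ_add, adjJ_one, adjJ_smul, adj_aR J₁ hJ, mul_assoc]
      conv_rhs => rw [← mul_one (J₁ : Matrix (Fin k) (Fin k) F)]
      congr 1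
      simp [add_mul, mul_add, smul_mul_smul_comm, hsq]
    · simp [hj]
  · rw [← slot_one_add, slot_eq_pure]
    show pure' _ = pure' _
    congr 1
    funext j
    rcases eq_or_ne j i with rfl | hj <;> simp [U, *]

/-- Subgroups above the stabiliser in coordinates. -/
theorem ctx_of_le (hJ : (J₁ : Matrix (Fin k) (Fin k) F)ᵀ = -(J₁ : Matrix (Fin k) (Fin k) F)) (h2 : (2 : F) ≠ 0)
    (hT : IsCoords e P J₁ c) {M : Subgroup (GL (Fin m ⊕ Fin m) F)}
    (hHM : tensorWreathSubgroup k t e P ⊓ spGL m F ≤ M) (hMG : M ≤ spGL m F) :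
    Ctx J₁ (M.map (coo e P)) ∧ ∀ x y : Fin t, permGL (Equiv.swap x y) ∈ M.map (coo e P) := by
  refine ⟨⟨hJ, h2, ?_, fun i u => ⟨?_, fun x => ?_⟩⟩, fun x y => ?_⟩
  · rintro g ⟨g', hg', rfl⟩
    refine adjJ_eq _ ?_
    have h : Pres J₁ (coo e P g') := (mem_spGL_iff_pres J₁ hT g').1 (hMG hg')
    rw [Pres] at h
    calc ((coo e P g' : GL (Fin t → Fin k) F) : Matrix (Fin t → Fin k) (Fin t → Fin k) F)ᵀ *
          (JT t J₁ : Matrix (Fin t → Fin k) (Fin t → Fin k) F) = _ * ((coo e P g' : GL (Fin t → Fin k) F) *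
            (coo e P g')⁻¹ : GL (Fin t → Fin k) F) := by rw [mul_inv_cancel, Units.val_one, mul_one]
      _ = _ := by rw [Units.val_mul, ← mul_assoc, h]
  · rw [← slot_mul, aR_sq J₁ hJ h2, slot_zero]
  · obtain ⟨A, hA, hAe⟩ := slot_root_unit J₁ hJ h2 i u x
    exact ⟨pureGL A, ⟨_, hHM (mem_H J₁ hT (Subgroup.subset_closure (Or.inl ⟨A, fun _ _ => rfl⟩))
      (pres_pure J₁ hA)), coo_surj _⟩, hAe⟩
  · exact ⟨_, hHM (mem_H J₁ hT (Subgroup.subset_closure (Or.inr ⟨_, fun _ _ => rfl⟩)) (pres_perm J₁ _)), coo_surj _⟩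

/-- A set of vectors closed under its transvections. -/
def TvSet (M : Subgroup (GL (Fin m ⊕ Fin m) F)) : Set (Fin m ⊕ Fin m → F) :=
  {v | ∀ x, CfsgLib.Maximal.stv x v ∈ M}

theorem TvSet.smul {M : Subgroup (GL (Fin m ⊕ Fin m) F)} {v : Fin m ⊕ Fin m → F} (hv : v ∈ TvSet M) (a : F) :
    a • v ∈ TvSet M := fun x => by rw [CfsgLib.Maximal.stv_scale]; exact hv _

theorem TvSet.add {M : Subgroup (GL (Fin m ⊕ Fin m) F)} (hMG : M ≤ spGL m F) {v u : Fin m ⊕ Fin m → F}
    (hv : v ∈ TvSet M) (hu : u ∈ TvSet M) (h : sympForm m F v u ≠ 0) : v + u ∈ TvSet M := fun x => by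
  have hg := hu (sympForm m F v u)⁻¹
  have h' := M.mul_mem (M.mul_mem hg (hv x)) (M.inv_mem hg)
  rwa [CfsgLib.Maximal.stv_conj (hMG hg), CfsgLib.Maximal.stv_mulVec, inv_mul_cancel₀ h, one_smul] at h'

theorem aR_move {M : Subgroup (GL (Fin t → Fin k) F)} (hc : Ctx J₁ M) {w : Fin t → Fin k → F}
    (hw : Unip F M (pure' fun j => aR J₁ (w j))) (hne : ∀ j, w j ≠ 0) (x : Fin t → Fin k → F) (hx : ∀ j, x j ≠ 0) :
    Unip F M (pure' fun j => aR J₁ (x j)) := by
  classical
  have hsk := fo_skew J₁ hc.skew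
  have step : ∀ (y : Fin t → Fin k → F) (i : Fin t) (z : Fin k → F), fo J₁ (y i) z ≠ 0 →
      Unip F M (pure' fun j => aR J₁ (y j)) → Unip F M (pure' fun j => aR J₁ (Function.update y i z j)) := by
    intro y i z hyz hy
    have hd : fo J₁ (z - y i) (y i) = -fo J₁ (y i) z := by
      rw [hsk, sub_eq_add_neg, ← neg_one_smul F (y i), fo_add_right, fo_smul_right,
        fo_self J₁ hc.skew hc.two]
      ring
    have h := hy.conj (hc.root i (z - y i)) (-(fo J₁ (y i) z)⁻¹)
    rw [← slot_one_add, ← slot_one_sub, pure'_update_mul] at h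
    convert h using 2
    congr 1
    funext j
    rcases eq_or_ne j i with rfl | hj
    · rw [Function.update_self, Function.update_self, aR_conj J₁ hc, hd, neg_mul_neg, inv_mul_cancel₀ hyz, one_smul,
        add_sub_cancel]
    · rw [Function.update_of_ne hj, Function.update_of_ne hj]
  have key : ∀ S : Finset (Fin t), Unip F M (pure' fun j => aR J₁ (if j ∈ S then x j else w j)) := by
    intro S
    induction S using Finset.induction_on with
    | empty => simpa using hw
    | insert i S hi ih =>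
      obtain ⟨s, hs1, hs2⟩ := exists_nonorth J₁ hsk (hne i) (hx i)
      have h1 := step _ i s (by simpa [hi] using hs1) ih
      have h2 := step _ i (x i) (by rw [Function.update_self, hsk]; exact neg_ne_zero.2 hs2) h1
      convert h2 using 2
      congr 1
      funext j
      rcases eq_or_ne j i with rfl | hj
      · simp
      · simp [hj]
  simpa using key Finset.univ

theorem pure'_aR_mulVec (x : Fin t → Fin k → F) (y : (Fin t → Fin k) → F) :
    pure' (fun j => aR J₁ (x j)) *ᵥ y =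
      formOfGram (RingEquiv.refl F) (JT t J₁ : Matrix (Fin t → Fin k) (Fin t → Fin k) F)
        (fun a => ∏ j, x j (a j)) y • fun a : Fin t → Fin k => ∏ j, x j (a j) := by
  funext a
  simp only [Matrix.mulVec, dotProduct, pure', Matrix.of_apply, aR, rk, Matrix.vecMulVec_apply,
    Finset.prod_mul_distrib, Pi.smul_apply, smul_eq_mul, formOfGram, RingEquiv.refl_apply]
  rw [Finset.sum_comm, Finset.sum_mul]
  refine Finset.sum_congr rfl fun b _ => ?_
  simp only [fw, Matrix.vecMul, dotProduct, Fintype.prod_sum, Finset.sum_mul, Finset.mul_sum]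
  refine Finset.sum_congr rfl fun z _ => ?_
  show _ = (∏ j, x j (z j)) * (∏ j, (J₁ : Matrix (Fin k) (Fin k) F) (z j) (b j)) * y b * ∏ j, x j (a j)
  rw [Finset.prod_mul_distrib]
  ring

/-- The main theorem for the symplectic groups. -/
theorem sp_maximal (hm : 1 ≤ m) (hJ : (J₁ : Matrix (Fin k) (Fin k) F)ᵀ = -(J₁ : Matrix (Fin k) (Fin k) F))
    (h2 : (2 : F) ≠ 0) (hk : 2 ≤ k) (ht : Odd t) (ht3 : 3 ≤ t) (hT : IsCoords e P J₁ c)
    (hsing : ∀ M : Subgroup (GL (Fin t → Fin k) F), Ctx J₁ M → ¬ NonRoot J₁ M → Singles J₁ M) :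
    IsMaximalIn (spGL m F) (tensorWreathSubgroup k t e P ⊓ spGL m F) := by
  classical
  have hq : 3 ≤ Fintype.card F := by
    by_contra hlt
    have h1 := Fintype.one_lt_card (α := F)
    have h2c : Fintype.card F = 2 := by omega
    refine h2 ?_
    have := Nat.cast_card_eq_zero F
    rw [h2c] at this
    exact_mod_cast this
  obtain ⟨hc0, hform⟩ := hT
  let V : (Fin t → Fin k → F) → Fin m ⊕ Fin m → F := fun x =>
    (P : Matrix (Fin m ⊕ Fin m) (Fin m ⊕ Fin m) F) *ᵥ ((fun a : Fin t → Fin k => ∏ j, x j (a j)) ∘ e)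
  have hskT : ∀ x y, formOfGram (RingEquiv.refl F) (JT t J₁ : Matrix (Fin t → Fin k) (Fin t → Fin k) F) x y =
      -formOfGram (RingEquiv.refl F) (JT t J₁ : Matrix (Fin t → Fin k) (Fin t → Fin k) F) y x := fun x y => by
    have h := hform x y
    rw [CfsgLib.Maximal.sf_skew, hform] at h
    exact mul_left_cancel₀ hc0 (by rw [mul_neg]; exact h.symm)
  -- the coordinates of a transvection at a pure tensor
  have hstv : ∀ (x : Fin t → Fin k → F) (s : F),
      (coo e P (CfsgLib.Maximal.stv s (V x)) : Matrix (Fin t → Fin k) (Fin t → Fin k) F) =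
        1 + (-(s * c)) • pure' fun j => aR J₁ (x j) := by
    intro x s
    refine CfsgLib.Geometry.matrix_eq_of_mulVec fun y => ?_
    have h := coo_mulVec (e := e) (P := P) (CfsgLib.Maximal.stv s (V x)) y
    rw [CfsgLib.Maximal.stv_mulVec, hform, hskT, ← Matrix.mulVec_smul, ← Matrix.mulVec_add] at h
    have h' := Matrix.mulVec_injective_iff_isUnit.2 P.isUnit h
    rw [Matrix.add_mulVec, Matrix.one_mulVec, Matrix.smul_mulVec, pure'_aR_mulVec]
    funext a
    have ha := congrFun h' (e.symm a)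
    simp only [Pi.add_apply, Pi.smul_apply, Function.comp_apply, Equiv.apply_symm_apply, smul_eq_mul] at ha
    simp only [Pi.add_apply, Pi.smul_apply, smul_eq_mul, ← ha]
    ring
  refine ⟨lt_of_le_of_ne inf_le_right fun heq => ?_, fun M hHM hMG => ?_⟩
  · -- a transvection outside the stabiliser
    haveI : Nontrivial (Fin k) := Fin.nontrivial_iff_two_le.2 hk
    set w₀ : Fin k → F := Pi.single 0 1
    have hw₀ : w₀ ≠ 0 := fun h => one_ne_zero (α := F) (by simpa [w₀] using congrFun h 0)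
    obtain ⟨x₀, hx₀⟩ := exists_partner J₁ hw₀
    have hmem : CfsgLib.Maximal.stv 1 (V fun _ => w₀) ∈ tensorWreathSubgroup k t e P :=
      ((heq.symm ▸ CfsgLib.Maximal.stv_mem_spGL 1 (V fun _ => w₀) :
        CfsgLib.Maximal.stv 1 (V fun _ => w₀) ∈ tensorWreathSubgroup k t e P ⊓ spGL m F)).1
    obtain ⟨_, ⟨T, hTs, rfl⟩, hg⟩ := hmem
    obtain ⟨π, A, hA⟩ := AschbacherOrth.rep_of_mem hTs
    have hval : (T : Matrix (Fin t → Fin k) (Fin t → Fin k) F) = 1 + (-c) • pure' fun _ : Fin t => aR J₁ w₀ := by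
      rw [← one_mul c, ← hstv, ← hg]
      exact congrArg (fun g : GL (Fin t → Fin k) F => (g : Matrix (Fin t → Fin k) (Fin t → Fin k) F))
        (coo_surj (e := e) (P := P) T).symm
    -- evaluate on a pure tensor
    set y : Fin t → Fin k → F := fun i => (A (π.symm i) : Matrix (Fin k) (Fin k) F) *ᵥ x₀ with hy
    have hTy : (T : Matrix (Fin t → Fin k) (Fin t → Fin k) F) *ᵥ (fun a => ∏ _j, x₀ (a _j)) =
        fun a => ∏ j, y j (a j) := by
      rw [hA, Units.val_mul, ← Matrix.mulVec_mulVec]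
      show ((permGL π : GL (Fin t → Fin k) F) : Matrix (Fin t → Fin k) (Fin t → Fin k) F) *ᵥ
        (pure' (fun i => (A i : Matrix (Fin k) (Fin k) F)) *ᵥ fun a => ∏ j, x₀ (a j)) = _
      rw [pure_mulVec]
      funext a
      simp only [permGL, Matrix.mulVec, dotProduct, Matrix.of_apply, ite_mul, one_mul, zero_mul, Finset.sum_ite_eq',
        Finset.mem_univ, if_true, hy, Function.comp_apply]
      exact Fintype.prod_equiv π _ _ fun j => by simp
    have hev : ∀ p : Fin t → Fin k → F, ∀ x : Fin t → Fin k → F,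
        formOfGram (RingEquiv.refl F) (JT t J₁ : Matrix (Fin t → Fin k) (Fin t → Fin k) F)
          (fun a => ∏ j, p j (a j)) (fun a => ∏ j, x j (a j)) = ∏ j, fo J₁ (p j) (x j) := by
      intro p x
      simp only [formOfGram, RingEquiv.refl_apply, fo, fw, Matrix.vecMul, dotProduct, Finset.sum_mul]
      rw [Finset.sum_comm, Fintype.prod_sum]
      refine Finset.sum_congr rfl fun b _ => ?_
      rw [Fintype.prod_sum]
      refine Finset.sum_congr rfl fun a _ => ?_
      show (∏ j, p j (a j)) * (∏ j, (J₁ : Matrix (Fin k) (Fin k) F) (a j) (b j)) * _ = _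
      rw [← Finset.prod_mul_distrib, ← Finset.prod_mul_distrib]
    have hmain : ∀ p : Fin t → Fin k → F,
        ∏ j, fo J₁ (p j) (y j) = (∏ j, fo J₁ (p j) x₀) + (-c) * (∏ j, fo J₁ (p j) w₀) := by
      intro p
      rw [← hev p y, ← hTy, hval, Matrix.add_mulVec, Matrix.one_mulVec, Matrix.smul_mulVec, pure'_aR_mulVec,
        hev (fun _ => w₀) fun _ => x₀, smul_smul, Finset.prod_const, hx₀, one_pow, mul_one]
      simp only [← hev]
      simp only [formOfGram, RingEquiv.refl_apply, Pi.add_apply, Pi.smul_apply, smul_eq_mul, mul_add,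
        Finset.sum_add_distrib, Finset.mul_sum]
      congr 1
      exact Finset.sum_congr rfl fun a _ => Finset.sum_congr rfl fun b _ => by ring
    let i₀ : Fin t := ⟨0, by omega⟩
    let i₁ : Fin t := ⟨1, by omega⟩
    have hxw : fo J₁ x₀ w₀ = -1 := by rw [fo_skew J₁ hJ, hx₀]
    have h1 := hmain fun _ => x₀
    rw [Finset.prod_eq_zero (Finset.mem_univ i₀) (f := fun _ => fo J₁ x₀ x₀) (fo_self J₁ hJ h2 x₀), zero_add, Finset.prod_const, hxw] at h1
    have hx_ne : ∀ j, fo J₁ x₀ (y j) ≠ 0 := fun j =>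
      Finset.prod_ne_zero_iff.1 (h1 ▸ mul_ne_zero (neg_ne_zero.2 hc0) (pow_ne_zero _ (neg_ne_zero.2 one_ne_zero)))
        j (Finset.mem_univ j)
    have h3 := hmain fun _ => w₀
    rw [Finset.prod_eq_zero (Finset.mem_univ i₀) (f := fun _ => fo J₁ w₀ w₀) (fo_self J₁ hJ h2 w₀), mul_zero,
      add_zero, Finset.prod_const, hx₀, one_pow] at h3
    have hw_ne : ∀ j, fo J₁ w₀ (y j) ≠ 0 := fun j =>
      Finset.prod_ne_zero_iff.1 (h3 ▸ one_ne_zero) j (Finset.mem_univ j)
    have h4 := hmain (Function.update (fun _ => w₀) i₀ x₀)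
    rw [Finset.prod_eq_zero (Finset.mem_univ i₀)
        (f := fun j => fo J₁ (Function.update (fun _ => w₀) i₀ x₀ j) x₀) (by simp [fo_self J₁ hJ h2]),
      Finset.prod_eq_zero (Finset.mem_univ i₁)
        (f := fun j => fo J₁ (Function.update (fun _ => w₀) i₀ x₀ j) w₀)
        (by simp [i₀, i₁, fo_self J₁ hJ h2]), mul_zero, add_zero] at h4
    refine Finset.prod_ne_zero_iff.2 (fun j _ => ?_) h4
    rcases eq_or_ne j i₀ with rfl | hj
    · simpa using hx_ne i₀
    · simpa [hj] using hw_ne j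
  obtain ⟨hctx, hperm⟩ := ctx_of_le J₁ hJ h2 ⟨hc0, hform⟩ hHM hMG
  by_cases hnr : NonRoot J₁ (M.map (coo e P))
  · refine Or.inr (le_antisymm hMG (CfsgLib.Maximal.spGL_le_of_stv fun s v => ?_))
    obtain ⟨w, hw, hU⟩ := hnr.spread J₁ hctx ht hperm
    have hpure : ∀ x : Fin t → Fin k → F, (∀ j, x j ≠ 0) → V x ∈ TvSet M := fun x hx s => by
      obtain ⟨g, ⟨g', hg', rfl⟩, hge⟩ := (aR_move J₁ hctx hU hw x hx).mem (-(s * c))
      rw [← hstv] at hge
      have : coo e P g' = coo e P (CfsgLib.Maximal.stv s (V x)) := Units.ext hge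
      have hinj : Function.Injective (coo e P) := fun a b h => by
        rw [coo_apply, coo_apply] at h
        simpa using (glReindex e).injective h
      exact hinj this ▸ hg'
    have hform' : ∀ (x : Fin t → Fin k → F) (y : (Fin t → Fin k) → F),
        sympForm m F ((P : Matrix (Fin m ⊕ Fin m) (Fin m ⊕ Fin m) F) *ᵥ (y ∘ e)) (V x) =
          c * ∑ a, (∑ b, y b * (JT t J₁ : Matrix (Fin t → Fin k) (Fin t → Fin k) F) b a) * ∏ j, x j (a j) :=
      fun x y => by
        rw [hform]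
        simp only [formOfGram, RingEquiv.refl_apply, Finset.sum_mul]
        rw [Finset.sum_comm]
    -- a pure tensor off three hyperplanes
    have hthree : ∀ v : Fin 3 → Fin m ⊕ Fin m → F, (∀ r, v r ≠ 0) →
        ∃ x : Fin t → Fin k → F, (∀ j, x j ≠ 0) ∧ ∀ r, sympForm m F (v r) (V x) ≠ 0 := by
      intro v hv
      choose y hy using fun r => exists_coords (e := e) (P := P) (v r)
      obtain ⟨x, hx⟩ := exists_pure_three hq t
        (fun r a => ∑ b, y r b * (JT t J₁ : Matrix (Fin t → Fin k) (Fin t → Fin k) F) b a) fun r h => hv r (by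
          have h' : y r ᵥ* (JT t J₁ : Matrix (Fin t → Fin k) (Fin t → Fin k) F) = 0 := h
          have := congrArg (fun u => u ᵥ* ((JT t J₁)⁻¹ : GL (Fin t → Fin k) F).1) h'
          simp only [Matrix.vecMul_vecMul, Units.mul_inv, Matrix.vecMul_one, Matrix.zero_vecMul] at this
          rw [hy r, this]
          simp)
      refine ⟨x, fun j h => hx 0 (Finset.sum_eq_zero fun a _ => ?_), fun r => ?_⟩
      · rw [Finset.prod_eq_zero (Finset.mem_univ j) (by rw [h]; rfl), mul_zero]
      · rw [hy r, hform']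
        exact mul_ne_zero hc0 (hx r)
    have hall : ∀ y : (Fin t → Fin k) → F,
        (P : Matrix (Fin m ⊕ Fin m) (Fin m ⊕ Fin m) F) *ᵥ (y ∘ e) ∈ TvSet M := by
      have hadd : ∀ v u, v ∈ TvSet M → u ∈ TvSet M → v + u ∈ TvSet M := by
        intro v u hv hu
        rcases eq_or_ne v 0 with rfl | hv0
        · rwa [zero_add]
        rcases eq_or_ne u 0 with rfl | hu0
        · rwa [add_zero]
        rcases eq_or_ne (v + u) 0 with h0 | h0
        · rw [h0, ← zero_smul F v]; exact TvSet.smul hv 0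
        rcases ne_or_eq (sympForm m F v u) 0 with h | h
        · exact TvSet.add hMG hv hu h
        obtain ⟨x, hx, hf⟩ := hthree ![v, u, v + u] fun r => by fin_cases r <;> simpa
        have hz := hpure x hx
        have f1 := hf 0
        have f2 := hf 1
        have f3 := hf 2
        simp only [Matrix.cons_val_zero, Matrix.cons_val_one, Matrix.cons_val, CfsgLib.Maximal.sf_add_left] at f1 f2 f3
        have a1 := TvSet.add hMG hv hz f1
        have a2 := TvSet.add hMG hu (TvSet.smul hz (-1)) (by rw [CfsgLib.Maximal.sf_smul_right]; simpa using f2)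
        have a3 := TvSet.add hMG a1 a2 (by
          simp only [CfsgLib.Maximal.sf_add_left, CfsgLib.Maximal.sf_add_right, CfsgLib.Maximal.sf_smul_right,
            CfsgLib.Maximal.sf_alt, h, CfsgLib.Maximal.sf_skew (V x) u]
          intro e
          exact f3 (by linear_combination -e))
        convert a3 using 1
        module
      intro y
      have hy : y = ∑ a, y a • (Pi.single a 1 : (Fin t → Fin k) → F) := by
        funext b; simp [Pi.single_apply]
      rw [hy]
      induction (Finset.univ : Finset (Fin t → Fin k)) using Finset.induction_on with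
      | empty =>
        simp only [Finset.sum_empty]
        rw [show ((0 : (Fin t → Fin k) → F) ∘ e) = 0 from rfl, Matrix.mulVec_zero,
          ← zero_smul F (V fun _ => fun _ => 1)]
        exact TvSet.smul (hpure (fun _ _ => 1) fun j h => one_ne_zero (α := F) (congrFun h 0)) 0
      | insert a S ha ih =>
        rw [Finset.sum_insert ha, show (y a • (Pi.single a 1 : (Fin t → Fin k) → F) +
          ∑ x ∈ S, y x • (Pi.single x 1 : (Fin t → Fin k) → F)) ∘ e =
            y a • ((Pi.single a 1 : (Fin t → Fin k) → F) ∘ e) + (∑ x ∈ S, y x • Pi.single x 1) ∘ e from rfl,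
          Matrix.mulVec_add, Matrix.mulVec_smul]
        refine hadd _ _ (TvSet.smul ?_ _) ih
        convert hpure (fun j => Pi.single (a j) 1) fun j h => one_ne_zero (α := F) (by simpa using congrFun h (a j))
          using 3
        funext b
        by_cases hb : b = a
        · subst hb; simp
        · obtain ⟨j, hj⟩ := Function.ne_iff.1 hb
          rw [Pi.single_eq_of_ne hb, Finset.prod_eq_zero (Finset.mem_univ j) (Pi.single_eq_of_ne hj _)]
    obtain ⟨y, rfl⟩ := exists_coords (e := e) (P := P) v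
    exact hall y s
  · refine Or.inl (le_antisymm (fun g hg => ⟨?_, hMG hg⟩) hHM)
    obtain ⟨π, A, hA⟩ := (hsing _ hctx hnr).decomp J₁ hctx (by omega) hk ⟨g, hg, rfl⟩
    refine ⟨glReindex e.symm (coo e P g), ⟨_, ?_, rfl⟩, ?_⟩
    · rw [hA]
      exact mul_mem (Subgroup.subset_closure (Or.inr ⟨π, fun _ _ => rfl⟩))
        (Subgroup.subset_closure (Or.inl ⟨A, fun _ _ => rfl⟩))
    · rw [coo_apply]
      refine Units.ext ?_
      simp [glReindex, MulAut.conj_apply, mul_assoc]

end CfsgLib.TensorWreath
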