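import Mathlib

/-!
The twisted two-by-two group of a commutative algebra with a chosen element `α`: quadruples `(r, q, u, v)`
standing for `1 + r a + q b + u ab + v ba`, where `a² = b² = 0` and `aba = α a`, `bab = α b`, of reduced
determinant one.
-/

set_option autoImplicit false

namespace CfsgLib.TensorWreath

/-- Elements of the twisted group. -/
@[ext]
structure Tw {R : Type*} [CommRing R] (α : R) where
  r : R
  q : R
  u : R
  v : R
  red : u + v + α * u * v - r * q = 0

namespace Tw

variable {R : Type*} [CommRing R] {α : R}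

instance : One (Tw α) := ⟨⟨0, 0, 0, 0, by ring⟩⟩

instance : Mul (Tw α) :=
  ⟨fun g h => ⟨g.r + h.r + α * (g.u * h.r + g.r * h.v), g.q + h.q + α * (g.v * h.q + g.q * h.u),
    g.u + h.u + g.r * h.q + α * g.u * h.u, g.v + h.v + g.q * h.r + α * g.v * h.v, by
      linear_combination g.red + h.red + α * (g.u + g.v + α * g.u * g.v - g.r * g.q) * h.red⟩⟩

instance : Inv (Tw α) := ⟨fun g => ⟨-g.r, -g.q, g.v, g.u, by linear_combination g.red⟩⟩

@[simp] theorem one_r : (1 : Tw α).r = 0 := rfl
@[simp] theorem one_q : (1 : Tw α).q = 0 := rfl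
@[simp] theorem one_u : (1 : Tw α).u = 0 := rfl
@[simp] theorem one_v : (1 : Tw α).v = 0 := rfl
@[simp] theorem mul_r (g h : Tw α) : (g * h).r = g.r + h.r + α * (g.u * h.r + g.r * h.v) := rfl
@[simp] theorem mul_q (g h : Tw α) : (g * h).q = g.q + h.q + α * (g.v * h.q + g.q * h.u) := rfl
@[simp] theorem mul_u (g h : Tw α) : (g * h).u = g.u + h.u + g.r * h.q + α * g.u * h.u := rfl
@[simp] theorem mul_v (g h : Tw α) : (g * h).v = g.v + h.v + g.q * h.r + α * g.v * h.v := rfl
@[simp] theorem inv_r (g : Tw α) : g⁻¹.r = -g.r := rfl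
@[simp] theorem inv_q (g : Tw α) : g⁻¹.q = -g.q := rfl
@[simp] theorem inv_u (g : Tw α) : g⁻¹.u = g.v := rfl
@[simp] theorem inv_v (g : Tw α) : g⁻¹.v = g.u := rfl

instance : Group (Tw α) where
  mul_assoc g h k := by ext <;> simp <;> ring
  one_mul g := by ext <;> simp
  mul_one g := by ext <;> simp
  inv_mul_cancel g := by
    ext <;> simp
    · ring
    · ring
    · linear_combination g.red
    · linear_combination g.red

instance [Finite R] : Finite (Tw α) :=
  Finite.of_injective (fun g : Tw α => (g.r, g.q, g.u, g.v)) fun g h e => by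
    simp only [Prod.mk.injEq] at e
    exact Tw.ext e.1 e.2.1 e.2.2.1 e.2.2.2

/-- The upper element. -/
def up (α r : R) : Tw α := ⟨r, 0, 0, 0, by ring⟩

/-- The lower element. -/
def lo (α q : R) : Tw α := ⟨0, q, 0, 0, by ring⟩

@[simp] theorem up_r (r : R) : (up α r).r = r := rfl
@[simp] theorem up_q (r : R) : (up α r).q = 0 := rfl
@[simp] theorem up_u (r : R) : (up α r).u = 0 := rfl
@[simp] theorem up_v (r : R) : (up α r).v = 0 := rfl
@[simp] theorem lo_r (q : R) : (lo α q).r = 0 := rfl
@[simp] theorem lo_q (q : R) : (lo α q).q = q := rfl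
@[simp] theorem lo_u (q : R) : (lo α q).u = 0 := rfl
@[simp] theorem lo_v (q : R) : (lo α q).v = 0 := rfl

theorem up_add (r s : R) : up α r * up α s = up α (r + s) := by ext <;> simp

theorem lo_add (r s : R) : lo α r * lo α s = lo α (r + s) := by ext <;> simp

/-- Functoriality. -/
def map {S : Type*} [CommRing S] (f : R →+* S) {β : S} (h : f α = β) : Tw α →* Tw β where
  toFun g := ⟨f g.r, f g.q, f g.u, f g.v, by
    have := congrArg f g.red
    rw [map_sub, map_add, map_add, map_mul, map_mul, map_mul, map_zero, h] at this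
    exact this⟩
  map_one' := by ext <;> simp
  map_mul' g g' := by subst h; ext <;> simp

@[simp] theorem map_r {S : Type*} [CommRing S] (f : R →+* S) {β : S} (h : f α = β) (g : Tw α) :
    (map f h g).r = f g.r := rfl
@[simp] theorem map_q {S : Type*} [CommRing S] (f : R →+* S) {β : S} (h : f α = β) (g : Tw α) :
    (map f h g).q = f g.q := rfl
@[simp] theorem map_u {S : Type*} [CommRing S] (f : R →+* S) {β : S} (h : f α = β) (g : Tw α) :
    (map f h g).u = f g.u := rfl
@[simp] theorem map_v {S : Type*} [CommRing S] (f : R →+* S) {β : S} (h : f α = β) (g : Tw α) :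
    (map f h g).v = f g.v := rfl

section grp

variable (k : Type*) [Field k] [Algebra k R] (α)

/-- The group generated by the scalar upper and lower elements. -/
def G : Subgroup (Tw α) :=
  Subgroup.closure (Set.range (fun c : k => up α (algebraMap k R c)) ∪
    Set.range fun c : k => lo α (algebraMap k R c))

variable {α k}

theorem up_mem (c : k) : up α (algebraMap k R c) ∈ G α k := Subgroup.subset_closure (Or.inl ⟨c, rfl⟩)

theorem lo_mem (c : k) : lo α (algebraMap k R c) ∈ G α k := Subgroup.subset_closure (Or.inr ⟨c, rfl⟩)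

theorem map_G {S : Type*} [CommRing S] [Algebra k S] (f : R →ₐ[k] S) {β : S} (h : (f : R →+* S) α = β) :
    (G α k).map (map (f : R →+* S) h) = G β k := by
  rw [G, MonoidHom.map_closure, Set.image_union, ← Set.range_comp, ← Set.range_comp, G]
  congr 2 <;> (refine congrArg Set.range (funext fun c => ?_); rw [Function.comp_apply]; ext <;> simp)

/-- Scaling of the two root groups. -/
def scale (l : kˣ) : Tw α ≃* Tw α where
  toFun g := ⟨algebraMap k R l * g.r, algebraMap k R (l⁻¹ : kˣ) * g.q, g.u, g.v, by
    have e : algebraMap k R l * algebraMap k R (l⁻¹ : kˣ) = 1 := by rw [← map_mul, Units.mul_inv, map_one]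
    linear_combination g.red - g.r * g.q * e⟩
  invFun g := ⟨algebraMap k R (l⁻¹ : kˣ) * g.r, algebraMap k R l * g.q, g.u, g.v, by
    have e : algebraMap k R l * algebraMap k R (l⁻¹ : kˣ) = 1 := by rw [← map_mul, Units.mul_inv, map_one]
    linear_combination g.red - g.r * g.q * e⟩
  left_inv g := by ext <;> simp [← mul_assoc, ← map_mul]
  right_inv g := by ext <;> simp [← mul_assoc, ← map_mul]
  map_mul' g h := by
    have e : algebraMap k R (l : k) * algebraMap k R (l : k)⁻¹ = 1 := by
      rw [← map_mul, mul_inv_cancel₀ l.ne_zero, map_one]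
    ext <;> simp
    · ring
    · ring
    · linear_combination (-(g.r * h.q)) * e
    · linear_combination (-(g.q * h.r)) * e

theorem scale_mem (l : kˣ) {g : Tw α} (hg : g ∈ G α k) : scale l g ∈ G α k := by
  have : G α k ≤ (G α k).comap (scale (α := α) l).toMonoidHom := (Subgroup.closure_le _).2 (by
    rintro _ (⟨c, rfl⟩ | ⟨c, rfl⟩)
    · show scale l (up α (algebraMap k R c)) ∈ G α k
      rw [show scale l (up α (algebraMap k R c)) = up α (algebraMap k R (l * c)) by ext <;> simp [scale]]
      exact up_mem _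
    · show scale l (lo α (algebraMap k R c)) ∈ G α k
      rw [show scale l (lo α (algebraMap k R c)) = lo α (algebraMap k R ((l⁻¹ : kˣ) * c)) by ext <;> simp [scale]]
      exact lo_mem _)
  exact this hg

/-- The goal: an upper element outside the scalars. -/
def Rad (α : R) (k : Type*) [Field k] [Algebra k R] : Prop :=
  ∃ r, r ∉ Set.range (algebraMap k R) ∧ up α r ∈ G α k

/-- An upper triangular element gives an upper element. -/
theorem rad_of_triangular (hk : ∃ l : k, l ≠ 0 ∧ l ≠ 1) {g : Tw α} (hg : g ∈ G α k) (hq : g.q = 0)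
    (hr : g.r * (1 + α * g.u) ∉ Set.range (algebraMap k R)) : Rad α k := by
  obtain ⟨l, hl0, hl1⟩ := hk
  refine ⟨algebraMap k R (l - 1) * (g.r * (1 + α * g.u)), fun ⟨c, hc⟩ => hr ⟨(l - 1)⁻¹ * c, ?_⟩, ?_⟩
  · rw [map_mul, hc, ← mul_assoc, ← map_mul, inv_mul_cancel₀ (sub_ne_zero.2 hl1), map_one, one_mul]
  · have h := mul_mem (scale_mem (Units.mk0 l hl0) hg) (inv_mem hg)
    convert h using 1
    have e := g.red
    rw [hq, mul_zero, sub_zero] at e
    ext <;> simp [scale, hq, map_sub]
    · ring
    · linear_combination -e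
    · linear_combination -e

end grp

end Tw

end CfsgLib.TensorWreath
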